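import Cfsg.Agent.Lib.Fusion.RankThreeNormal.Plane

/-!
# The moved orbit of order `p ^ 3` is invariant everywhere
-/

set_option autoImplicit false
set_option linter.unusedSectionVars false
set_option linter.style.haveILetI false

namespace CfsgLib.Fusion.RankThreeNormal

open Cfsg Cfsg.FusionSystem CfsgLib.Fusion CfsgLib.Fusion.RankThree
open scoped commutatorElement

universe u

variable {p : ℕ} [hp : Fact p.Prime] {Ω : Type u} [Group Ω] {S : Subgroup Ω} [Finite S]
  {F : FusionSystem S} {E0 : Subgroup Ω}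

/-- Commutators of two closures from those of the generators. -/
theorem comm_mem_closure₂ {P N : Subgroup Ω} (hN : Nrm P N) {s t : Set Ω} (hs : s ⊆ P) (ht : t ⊆ P)
    (hc : ∀ a ∈ s, ∀ b ∈ t, ⁅a, b⁆ ∈ N) {x y : Ω} (hx : x ∈ Subgroup.closure s)
    (hy : y ∈ Subgroup.closure t) : ⁅x, y⁆ ∈ N :=
  comm_swap_mem (comm_mem_closure hN (Q := {x}) ht (fun b hb a ha => by
    rw [Set.mem_singleton_iff] at ha
    subst ha
    exact comm_swap_mem (comm_mem_closure hN hs hc hx hb)) hy rfl)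

/-- An elementary subgroup of order `p ^ 3` obtained by moving the orbit of the centre. -/
structure Cand (F : FusionSystem S) (p : ℕ) (E0 W : Subgroup Ω) : Prop where
  le : W ≤ E0
  elem : Elem p W
  card : Nat.card W = p ^ 3
  nrm : Nrm S W
  V_le : zc F p E0 ≤ W
  mover : ∃ E, F.IsEssential p E ∧ E ≠ E0 ∧ ¬ Inv F E (zc F p E0) ∧ W ≤ E ∧ Inv F E W ∧
    ∀ w ∈ W, ∀ e ∈ E, ⁅w, e⁆ ∈ omegaZ p S

namespace Single

variable (h : Single F p E0)
include h

/-- The orbit moved by an essential subgroup is a candidate. -/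
theorem cand_of_mover {E : Subgroup Ω} (hE : F.IsEssential p E) (hne : E ≠ E0)
    (hmove : ¬ Inv F E (zc F p E0)) : Cand F p E0 (orb F E (zc F p E0)) := by
  have c := h.ctx
  set V := zc F p E0
  set W := orb F E V
  obtain ⟨hWE, hVW, hWi, hWn, hWc, hWp, -⟩ := h.mover_facts hE hne
  have hW0 := h.orb_le_E0 hE hne
  have hES := c.le hE
  have hWS : W ≤ S := hWE.trans hES
  haveI : Finite W := finite_of_le hWS
  have hWe : Elem p W := by
    refine Elem.closure ?_ fun x hx => hWp x (Subgroup.subset_closure hx)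
    rintro _ ⟨γ, hγ, v, hv, rfl⟩ _ ⟨γ', hγ', v', hv', rfl⟩
    have hvE := h.V_le hE hv
    have hy : autFun (γ⁻¹ * γ') v' ∈ W := mem_orb ((F.autGroup E).mul_mem
      ((F.autGroup E).inv_mem hγ) hγ') hv'
    have h1 : autFun γ' v' = autFun γ (autFun (γ⁻¹ * γ') v') := by
      rw [← autFun_mul _ _ (h.V_le hE hv'), mul_inv_cancel_left]
    rw [h1, ← autFun_map_mul γ hvE (hWE hy), ← autFun_map_mul γ (hWE hy) hvE,
      c.zc_central h.mov.1 hv (hW0 hy)]
  refine ⟨hW0, hWe, le_antisymm (card_le_of_elementary c.rank hWS hWe.1 hWe.2) ?_, hWn, hVW,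
    E, hE, hne, hmove, hWE, hWi, hWc⟩
  have hlt : V < W := lt_of_le_of_ne hVW fun e => hmove (by rw [e]; exact hWi)
  have h1 := lt_card_mul c.pS hWS hlt
  rwa [h.card_eq.2, show p * p * p = p ^ 3 by ring] at h1

variable {W : Subgroup Ω} (hW : Cand F p E0 W)
include hW

theorem cand_le_S : W ≤ S := hW.le.trans (h.ctx.le h.mov.1)

theorem cand_comm_V {s w : Ω} (hs : s ∈ S) (hw : w ∈ W) : ⁅s, w⁆ ∈ zc F p E0 :=
  comm_mem_chain h.ctx.pS (h.cand_le_S hW) hW.V_le (h.ctx.zc_nrm h.mov.1) hW.nrm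
    (by rw [h.card_eq.2, hW.card]; ring) hs hw

theorem cand_not_comm : ¬ ∀ s ∈ S, ∀ w ∈ W, ⁅s, w⁆ ∈ omegaZ p S := fun hc => by
  obtain ⟨E, hE, hne, hmove, hWE, hWi, -⟩ := hW.mover
  exact h.not_comm_Z hE hne hmove hWE hW.V_le hWi hc

theorem cand_gen {w : Ω} (hw : w ∈ W) (hwV : w ∉ zc F p E0) :
    W ≤ Subgroup.closure (insert w (zc F p E0 : Set Ω)) := by
  set V := zc F p E0
  haveI : Finite W := finite_of_le (h.cand_le_S hW)
  have hle : V ⊔ Subgroup.zpowers w ≤ W := sup_le hW.V_le (Subgroup.zpowers_le.2 hw)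
  have heq : V ⊔ Subgroup.zpowers w = W := Subgroup.eq_of_le_of_card_ge hle (by
    rw [card_sup_comm (fun v hv => hW.elem.1 w hw v (hW.V_le hv)) (hW.elem.2 w hw) hwV,
      h.card_eq.2, hW.card]
    exact le_of_eq (by ring))
  conv_lhs => rw [← heq]
  exact sup_le (fun v hv => Subgroup.subset_closure (Set.mem_insert_of_mem _ hv))
    (Subgroup.zpowers_le.2 (Subgroup.subset_closure (Set.mem_insert _ _)))

/-- The orbit of a candidate inside `E0` has class two, exponent `p` and order at most `p ^ 4`. -/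
theorem cand_orb_facts {E : Subgroup Ω} (hE : F.IsEssential p E) (hV : Inv F E (zc F p E0))
    (hWE : W ≤ E) (hU0 : orb F E W ≤ E0) :
    (∀ x ∈ orb F E W, ∀ e ∈ E, ⁅x, e⁆ ∈ zc F p E0) ∧ (∀ x ∈ orb F E W, x ^ p = 1) ∧
      Nat.card (orb F E W) ≤ p ^ 4 := by
  have c := h.ctx
  set V := zc F p E0
  set U := orb F E W
  have hES := c.le hE
  have hUE : U ≤ E := orb_le hWE
  have hc : ∀ x ∈ U, ∀ e ∈ E, ⁅x, e⁆ ∈ V := fun x hx e he =>
    comm_mem_closure (fun s hs => c.zc_nrm h.mov.1 s (hES hs))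
      (t := {x | ∃ γ ∈ F.autGroup E, ∃ a ∈ W, x = autFun γ a}) (orb_set_subset hWE)
      (Q := (E : Set Ω)) (fun a ha b hb => by
        obtain ⟨γ, hγ, w, hw, rfl⟩ := ha
        rw [← autFun_inv_right γ hb, ← autFun_map_comm γ (hWE hw) (autFun_mem _ hb)]
        exact hV γ hγ _ (comm_swap_mem (h.cand_comm_V hW (hES (autFun_mem _ hb)) hw))) hx he
  have hVe : Elem p V := c.zc_elem h.mov.1
  have hp1 : ∀ x ∈ U, x ^ p = 1 := pow_p_eq_one_of_closure c.p2 rfl (fun x hx => by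
    obtain ⟨γ, hγ, w, hw, rfl⟩ := hx
    rw [← autFun_map_pow γ (hWE hw), hW.elem.2 w hw, autFun_map_one])
    fun a ha b hb => ⟨hVe.2 _ (hc a ha b (hUE hb)),
      fun d hd => c.zc_central h.mov.1 (hc a ha b (hUE hb)) (hU0 hd)⟩
  exact ⟨hc, hp1, card_le_four c.rank (hUE.trans hES) (hW.V_le.trans (le_orb hWE)) hVe
    h.card_eq.2 (fun v hv x hx => c.zc_central h.mov.1 hv (hU0 hx)) hp1
    fun x hx y hy => hc x hx y (hUE hy)⟩

/-- A proper overgroup of order at most `p ^ 4` is not abelian. -/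
theorem cand_split {U : Subgroup Ω} (hU0 : U ≤ E0) (hWU : W ≤ U) (hne : ¬ U ≤ W)
    (hUp : ∀ x ∈ U, x ^ p = 1) (hU4 : Nat.card U ≤ p ^ 4)
    (hUc : ∀ x ∈ U, ∀ y ∈ U, ⁅x, y⁆ ∈ zc F p E0) :
    ∃ w ∈ W, ∃ u ∈ U, u ∉ W ∧ w ∉ zc F p E0 ∧ ⁅u, w⁆ ≠ 1 ∧
      ∀ x ∈ U, ∀ y ∈ U, ⁅x, y⁆ ∈ Subgroup.zpowers ⁅u, w⁆ := by
  have c := h.ctx
  set V := zc F p E0
  have hUS : U ≤ S := hU0.trans (c.le h.mov.1)
  haveI : Finite U := finite_of_le hUS
  obtain ⟨u, hu, huW⟩ := SetLike.not_le_iff_exists.1 hne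
  have hWn : ∀ x ∈ U, ∀ k ∈ W, x * k * x⁻¹ ∈ W := fun x hx => hW.nrm x (hUS hx)
  have hcard := card_sup_zpowers (p := p) (hWn u hu)
    (fun k hk => by simpa using hWn u⁻¹ (U.inv_mem hu) k hk)
    (by rw [hUp u hu]; exact one_mem _) huW
  have hle : W ⊔ Subgroup.zpowers u ≤ U := sup_le hWU (Subgroup.zpowers_le.2 hu)
  have heq : W ⊔ Subgroup.zpowers u = U := Subgroup.eq_of_le_of_card_ge hle (by
    rw [hcard, hW.card]; exact hU4.trans (le_of_eq (by ring)))
  obtain ⟨w, hw, huw⟩ : ∃ w ∈ W, ⁅u, w⁆ ≠ 1 := by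
    by_contra! hall
    have hz : Elem p (Subgroup.zpowers u) := by
      rw [Subgroup.zpowers_eq_closure]
      exact Elem.closure (by rintro a rfl b rfl; rfl) (by rintro a rfl; exact hUp _ hu)
    have he : Elem p (W ⊔ Subgroup.zpowers u) := hW.elem.sup hz fun a ha b hb => by
      obtain ⟨i, rfl⟩ := exists_pow_of_zpowers (hUp u hu) hb
      exact ((show Commute u a from
        commutatorElement_eq_one_iff_mul_comm.1 (hall a ha)).symm.pow_right i).eq
    have h1 := card_le_of_elementary c.rank (hle.trans hUS) he.1 he.2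
    rw [hcard, hW.card, ← pow_succ] at h1
    exact absurd h1 (not_le.2 (Nat.pow_lt_pow_right hp.1.one_lt (by norm_num)))
  have hwV : w ∉ V := fun hwV => huw (commutatorElement_eq_one_iff_mul_comm.2
    (c.zc_central h.mov.1 hwV (hU0 hu)).symm)
  refine ⟨w, hw, u, hu, huW, hwV, huw, fun x hx y hy => ?_⟩
  set N := Subgroup.zpowers ⁅u, w⁆
  have hNV : N ≤ V := Subgroup.zpowers_le.2 (hUc u hu w (hWU hw))
  have hNn : Nrm E0 N := fun e he q hq => by
    rw [← c.zc_central h.mov.1 (hNV hq) he, mul_inv_cancel_right]; exact hq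
  have hgen : U ≤ Subgroup.closure (insert u (insert w (V : Set Ω))) := by
    conv_lhs => rw [← heq]
    exact sup_le ((h.cand_gen hW hw hwV).trans (Subgroup.closure_mono (Set.subset_insert _ _)))
      (Subgroup.zpowers_le.2 (Subgroup.subset_closure (Set.mem_insert _ _)))
  have hs : insert u (insert w (V : Set Ω)) ⊆ (E0 : Set Ω) :=
    Set.insert_subset (hU0 hu) (Set.insert_subset (hW.le hw) (c.zc_le h.mov.1))
  have hcen : ∀ v ∈ V, ∀ e ∈ E0, ⁅v, e⁆ ∈ N ∧ ⁅e, v⁆ ∈ N := fun v hv e he => by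
    have h1 : ⁅v, e⁆ = 1 :=
      commutatorElement_eq_one_iff_mul_comm.2 (c.zc_central h.mov.1 hv he)
    refine ⟨by rw [h1]; exact one_mem _, comm_swap_mem (by rw [h1]; exact one_mem _)⟩
  refine comm_mem_closure₂ hNn hs hs ?_ (hgen hx) (hgen hy)
  rintro a (rfl | rfl | ha) b (rfl | rfl | hb)
  · rw [commutatorElement_self]; exact one_mem _
  · exact Subgroup.mem_zpowers _
  · exact (hcen b hb a (hU0 hu)).2
  · exact comm_swap_mem (Subgroup.mem_zpowers _)
  · rw [commutatorElement_self]; exact one_mem _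
  · exact (hcen b hb a (hW.le hw)).2
  · exact (hcen a ha _ (hU0 hu)).1
  · exact (hcen a ha _ (hW.le hw)).1
  · exact (hcen a ha b (c.zc_le h.mov.1 hb)).1

/-- A commutator spanning an invariant line at `E0` is trivial. -/
theorem cand_false_of_comm {a b : Ω} (ha : a ∈ E0) (hb : b ∈ E0) (hab : ⁅a, b⁆ ∈ zc F p E0)
    (h1 : ⁅a, b⁆ ≠ 1)
    (hinv : ∀ α ∈ F.autGroup E0, ⁅autFun α a, autFun α b⁆ ∈ Subgroup.zpowers ⁅a, b⁆) : False :=
  h.false_of_line hab h1 fun α hα => by
    rw [autFun_map_comm α ha hb]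
    exact hinv α hα

theorem cand_inv_E0 : Inv F E0 W := by
  have c := h.ctx
  set U := orb F E0 W
  have hU0 : U ≤ E0 := orb_le hW.le
  by_cases hle : U ≤ W
  · exact fun α hα x hx => hle (mem_orb hα hx)
  · obtain ⟨hc, hp1, hU4⟩ := h.cand_orb_facts hW h.mov.1 (c.zc_inv h.mov.1) hW.le hU0
    obtain ⟨w, hw, u, hu, -, -, huw, hline⟩ := h.cand_split hW hU0 (le_orb hW.le) hle hp1 hU4
      fun x hx y hy => hc x hx y (hU0 hy)
    have hwU : w ∈ U := le_orb hW.le hw
    exact (h.cand_false_of_comm hW (hU0 hu) (hW.le hw) (hc u hu w (hU0 hwU)) huw fun α hα =>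
      hline _ (orb_inv hW.le α hα u hu) _ (orb_inv hW.le α hα w hwU)).elim

theorem cand_inv_S : Inv F S W := fun β hβ x hx => by
  obtain ⟨δ, hδ, e⟩ := h.exists_restrict hβ
  rw [← e x (hW.le hx)]
  exact h.cand_inv_E0 hW δ hδ x hx

theorem cand_unique {W' : Subgroup Ω} (hW' : Cand F p E0 W') : W' = W := by
  have c := h.ctx
  set V := zc F p E0
  haveI : Finite W := finite_of_le (h.cand_le_S hW)
  by_cases hall : ∀ a ∈ W, ∀ b ∈ W', a * b = b * a
  · exact Subgroup.eq_of_le_of_card_ge (eq_of_commute c.rank (h.cand_le_S hW) (h.cand_le_S hW')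
      hW.elem.1 hW'.elem.1 hW.elem.2 hW'.elem.2 hall hW.card.ge) (by rw [hW.card, hW'.card])
  push Not at hall
  obtain ⟨a, ha, b, hb, hab⟩ := hall
  have hab1 : ⁅a, b⁆ ≠ 1 := fun e => hab (commutatorElement_eq_one_iff_mul_comm.1 e)
  have haV : a ∉ V := fun e => hab (c.zc_central h.mov.1 e (hW'.le hb))
  have hbV : b ∉ V := fun e => hab (c.zc_central h.mov.1 e (hW.le ha)).symm
  set N := Subgroup.zpowers ⁅a, b⁆
  have habV : ⁅a, b⁆ ∈ V := h.cand_comm_V hW' (h.cand_le_S hW ha) hb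
  have hNn : Nrm E0 N := fun e he q hq => by
    rw [← c.zc_central h.mov.1 ((Subgroup.zpowers_le.2 habV : N ≤ V) hq) he, mul_inv_cancel_right]
    exact hq
  refine (h.cand_false_of_comm hW (hW.le ha) (hW'.le hb) habV hab1 fun α hα => ?_).elim
  refine comm_mem_closure₂ hNn (Set.insert_subset (hW.le ha) (c.zc_le h.mov.1))
    (Set.insert_subset (hW'.le hb) (c.zc_le h.mov.1)) ?_
    (h.cand_gen hW ha haV (h.cand_inv_E0 hW α hα a ha))
    (h.cand_gen hW' hb hbV (h.cand_inv_E0 hW' α hα b hb))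
  have hcen : ∀ v ∈ V, ∀ e ∈ E0, ⁅v, e⁆ ∈ N := fun v hv e he => by
    rw [commutatorElement_eq_one_iff_mul_comm.2 (c.zc_central h.mov.1 hv he)]
    exact one_mem _
  rintro x (rfl | hx) y (rfl | hy)
  · exact Subgroup.mem_zpowers _
  · exact comm_swap_mem (hcen y hy x (hW.le ha))
  · exact hcen x hx _ (hW'.le hb)
  · exact hcen x hx y (c.zc_le h.mov.1 hy)

/-- Correct a second element by powers of the first to move a commutator into the centre. -/
theorem cand_exists_pow {w u y : Ω} (hw : w ∈ W) (hu : u ∈ E0) (hy : y ∈ S)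
    (hwy : ⁅w, y⁆ ∉ omegaZ p S) (huy : ⁅u, y⁆ ∈ zc F p E0) :
    ∃ k : ℕ, ⁅u * w ^ k, y⁆ ∈ omegaZ p S := by
  have c := h.ctx
  set V := zc F p E0
  set Z := omegaZ p S
  have hd : ⁅w, y⁆ ∈ V := comm_swap_mem (h.cand_comm_V hW hy hw)
  obtain ⟨z, hz, i, hi⟩ := exists_dec c.pS h.V_le_S (c.le_zc h.mov.1)
    (by rw [h.card_eq.1, h.card_eq.2]) hd hwy huy
  refine ⟨(p - 1) * i, ?_⟩
  rw [comm_mul_left, comm_pow_left (c.zc_central h.mov.1 hd (hW.le hw)).symm, hi,
    ← c.zc_central h.mov.1 (V.pow_mem hd _) hu, mul_inv_cancel_right, ← mul_assoc,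
    c.zc_central h.mov.1 (V.pow_mem hd _) (c.omegaZ_le' h.mov.1 hz), mul_assoc, ← pow_add,
    show (p - 1) * i + i = p * i by
      rw [← Nat.succ_mul, Nat.succ_eq_add_one, Nat.sub_add_cancel hp.1.one_le],
    pow_mul, (c.zc_elem h.mov.1).2 _ hd, one_pow, mul_one]
  exact hz

set_option maxHeartbeats 1600000 in
/-- An essential subgroup keeping the orbit keeps the candidate. -/
theorem cand_inv_of_stay {E : Subgroup Ω} (hE : F.IsEssential p E) (hne : E ≠ E0)
    (hV : Inv F E (zc F p E0)) : W ≤ E ∧ Inv F E W := by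
  classical
  have c := h.ctx
  set V := zc F p E0
  set Z := omegaZ p S
  have hES := c.le hE
  have hWS := h.cand_le_S hW
  have hVE := h.V_le hE
  have hVS := h.V_le_S
  have hWE : W ≤ E := fun w hw => c.stab2 hE hVE hV (hWS hw)
    (fun q hq => by rw [← c.zc_central h.mov.1 hq (hW.le hw), mul_inv_cancel_right])
    fun e he => by
      rw [show e⁻¹ * (w * e * w⁻¹) = ⁅e⁻¹, w⁆ by group]
      exact h.cand_comm_V hW (hES (E.inv_mem he)) hw
  refine ⟨hWE, ?_⟩
  by_contra hinv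
  set H := E ⊓ E0
  have hHS : H ≤ S := inf_le_left.trans hES
  have hHinv : Inv F E H := fun α hα x hx => ⟨autFun_mem α hx.1,
    h.mem_E0 (hES (autFun_mem α hx.1)) fun v hv => by
      have hv' : autFun α⁻¹ v ∈ V := hV _ ((F.autGroup E).inv_mem hα) v hv
      rw [← autFun_inv_right α (hVE hv), ← autFun_map_mul α hx.1 (hVE hv'),
        ← autFun_map_mul α (hVE hv') hx.1, c.zc_central h.mov.1 hv' hx.2]⟩
  set U := orb F E W
  have hUH : U ≤ H := orb_min (le_inf hWE hW.le) hHinv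
  have hU0 : U ≤ E0 := hUH.trans inf_le_right
  have hUE : U ≤ E := hUH.trans inf_le_left
  have hUS : U ≤ S := hUE.trans hES
  have hUi : Inv F E U := orb_inv hWE
  have hWU : W ≤ U := le_orb hWE
  have hVU : V ≤ U := hW.V_le.trans hWU
  haveI : Finite U := finite_of_le hUS
  obtain ⟨hUc, hUp, hU4⟩ := h.cand_orb_facts hW hE hV hWE hU0
  have hUne : ¬ U ≤ W := fun hle => hinv fun α hα x hx => hle (mem_orb hα hx)
  obtain ⟨w, hw, u, hu, huW, hwV, huw, hline⟩ := h.cand_split hW hU0 hWU hUne hUp hU4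
    fun x hx y hy => hUc x hx y (hUE hy)
  have hUn : Nrm S U := nrm_of_inv (c.nrm E hE) hES hUE hUi
  have hVn : Nrm S V := c.zc_nrm h.mov.1
  have hZE : Inv F E Z := h.inv_Z hE hne
  have hZE' : Z ≤ E := c.omegaZ_le' hE
  have hVc := h.card_eq.2
  -- no invariant subgroup strictly between
  have hP : ∀ P : Subgroup Ω, V ≤ P → P ≤ U → Inv F E P → Nat.card P = p ^ 3 → False := by
    intro P hVP hPU hPi hPc
    have hPS := hPU.trans hUS
    haveI : Finite P := finite_of_le hPS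
    haveI : Finite W := finite_of_le hWS
    have hPn : Nrm S P := nrm_of_inv (c.nrm E hE) hES (hPU.trans hUE) hPi
    have hne' : ¬ P ≤ W := fun hle => by
      have e : P = W := Subgroup.eq_of_le_of_card_ge hle (by rw [hPc, hW.card])
      exact hinv (e ▸ hPi)
    have hlt : W < W ⊔ P := left_lt_sup.2 hne'
    have h1 := lt_card_mul c.pS (sup_le hWS hPS) hlt
    rw [hW.card, ← pow_succ] at h1
    have heq : W ⊔ P = U := Subgroup.eq_of_le_of_card_ge (sup_le hWU hPU) (hU4.trans h1)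
    have hcomm : U ≤ commSet S (S : Set Ω) V hVn := by
      conv_lhs => rw [← heq]
      refine sup_le (fun x hx => ⟨hWS hx, fun s hs => comm_swap_mem (h.cand_comm_V hW hs hx)⟩)
        fun x hx => ⟨hPS hx, fun s hs => comm_swap_mem
          (comm_mem_chain c.pS hPS hVP hVn hPn (by rw [hVc, hPc]; ring) hs hx)⟩
    exact hinv (c.inv_of_quot hE hUE hV hUi (fun s hs x hx => comm_swap_mem ((hcomm hx).2 s hs))
      hW.V_le hWU (h.cand_inv_S hW))
  have htri : ∀ K : Subgroup Ω, V ≤ K → K ≤ U → Inv F E K → K ≤ V ∨ U ≤ K := by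
    intro K hVK hKU hKi
    by_contra! hK
    haveI : Finite K := finite_of_le (hKU.trans hUS)
    have h1 := lt_card_mul c.pS (hKU.trans hUS) (lt_of_le_not_ge hVK hK.1)
    have h2 := lt_card_mul c.pS hUS (lt_of_le_not_ge hKU hK.2)
    rw [hVc, show p * p * p = p ^ 3 by ring] at h1
    refine hP K hVK hKU hKi (le_antisymm (Nat.le_of_mul_le_mul_right ?_ hp.1.pos) h1)
    exact h2.trans (hU4.trans (le_of_eq (by ring)))
  have hZU : Nrm U Z := fun s hs => omegaZ_nrm s (hUS hs)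
  have hKinv : ∀ Q : Subgroup Ω, Inv F E Q → Q ≤ E →
      Inv F E (commSet U (Q : Set Ω) Z hZU) := by
    intro Q hQ hQE α hα a ha
    refine ⟨hUi α hα a ha.1, fun y hy => ?_⟩
    have hy' : autFun α⁻¹ y ∈ Q := hQ _ ((F.autGroup E).inv_mem hα) y hy
    rw [← autFun_inv_right α (hQE hy), ← autFun_map_comm α (hUE ha.1) (hQE hy')]
    exact hZE α hα _ (ha.2 _ hy')
  set K := commSet U (H : Set Ω) Z hZU
  have hVK : V ≤ K := fun v hv => ⟨hVU hv, fun y hy => by
    rw [commutatorElement_eq_one_iff_mul_comm.2 (c.zc_central h.mov.1 hv hy.2)]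
    exact one_mem _⟩
  rcases htri K hVK (fun x hx => hx.1) (hKinv H hHinv inf_le_left) with hK | hK
  · -- the meet acts on the orbit as the full group of transvections
    have hout : ∀ a ∈ U, a ∉ V → ∃ y ∈ H, ⁅a, y⁆ ∉ Z := fun a ha haV => by
      by_contra! hall
      exact haV (hK ⟨ha, hall⟩)
    obtain ⟨h1, hh1, hw1⟩ := hout w (hWU hw) hwV
    obtain ⟨k, hk⟩ := h.cand_exists_pow hW hw (hU0 hu) (hHS hh1) hw1 (hUc u hu h1 hh1.1)
    set u' := u * w ^ k
    have hu' : u' ∈ U := mul_mem hu (pow_mem (hWU hw) k)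
    have hu'V : u' ∉ V := fun e =>
      huW ((W.mul_mem_cancel_right (pow_mem hw k)).1 (hW.V_le e))
    obtain ⟨h2, hh2, hu2⟩ := hout u' hu' hu'V
    have hZH : Nrm H Z := fun s hs => omegaZ_nrm s (hHS hs)
    set D := commSet H (U : Set Ω) Z hZH
    set M := commSet H ({u'} : Set Ω) Z hZH
    haveI : Finite H := finite_of_le hHS
    have hDM : D < M := by
      refine lt_of_le_not_ge (fun x hx => ⟨hx.1, fun y hy => ?_⟩) fun hle => hw1 ?_
      · rw [Set.mem_singleton_iff] at hy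
        subst hy
        exact hx.2 _ hu'
      · exact comm_swap_mem ((hle ⟨hh1, fun y hy => by
          rw [Set.mem_singleton_iff] at hy
          subst hy
          exact comm_swap_mem hk⟩).2 w (hWU hw))
    have hMH : M < H := lt_of_le_not_ge (fun x hx => hx.1)
      fun hle => hu2 (comm_swap_mem ((hle hh2).2 u' rfl))
    have e1 := lt_card_mul c.pS (hMH.le.trans hHS) hDM
    have e2 := lt_card_mul c.pS hHS hMH
    -- the centraliser of the orbit
    have hbot : Nrm H (⊥ : Subgroup Ω) := fun s _ q hq => by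
      rw [Subgroup.mem_bot] at hq ⊢
      rw [hq, mul_one, mul_inv_cancel]
    set N := commSet H (U : Set Ω) ⊥ hbot
    have hNH : N ≤ H := fun x hx => hx.1
    have hNc : ∀ x ∈ N, ∀ a ∈ U, x * a = a * x := fun x hx a ha =>
      commutatorElement_eq_one_iff_mul_comm.1 (Subgroup.mem_bot.1 (hx.2 a ha))
    have hNmem : ∀ x ∈ H, (∀ a ∈ U, a * x * a⁻¹ = x) → x ∈ N := fun x hx hall =>
      ⟨hx, fun a ha => Subgroup.mem_bot.2 (commutatorElement_eq_one_iff_mul_comm.2
        (mul_inv_eq_iff_eq_mul.1 (hall a ha)).symm)⟩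
    have hHn : Nrm S H := fun s hs x hx =>
      ⟨c.nrm' hE s hs x hx.1, c.nrm' h.mov.1 s hs x hx.2⟩
    have hcH : ∀ a ∈ U, ∀ g ∈ H, ⁅a, g⁆ ∈ V := fun a ha g hg => hUc a ha g hg.1
    obtain ⟨X, _, _, ⟨σ⟩⟩ := exists_secMap (p := p) (A := H.subgroupOf S) (B := N.subgroupOf S)
      (Subgroup.comap_mono hNH)
      (fun x hx' b hb' => by
        show (x : Ω) * b * (x : Ω)⁻¹ ∈ N
        have hx : (x : Ω) ∈ H := hx'
        have hb : (b : Ω) ∈ N := hb'
        refine hNmem _ (H.mul_mem (H.mul_mem hx hb.1) (H.inv_mem hx)) fun a ha => ?_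
        have ha' : (x : Ω)⁻¹ * a * x ∈ U := by simpa using hUn _ (S.inv_mem x.2) a ha
        have h3 := hNc _ hb _ ha'
        calc a * ((x : Ω) * b * (x : Ω)⁻¹) * a⁻¹
            = (x : Ω) * (((x : Ω)⁻¹ * a * x) * b) * ((x : Ω)⁻¹ * a⁻¹) := by group
          _ = (x : Ω) * (b * ((x : Ω)⁻¹ * a * x)) * ((x : Ω)⁻¹ * a⁻¹) := by rw [h3]
          _ = _ := by group)
      (fun x hx' y hy' => by
        show ⁅(x : Ω), (y : Ω)⁆ ∈ N
        have hx : (x : Ω) ∈ H := hx'
        have hy : (y : Ω) ∈ H := hy'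
        refine hNmem _ (H.mul_mem (H.mul_mem (H.mul_mem hx hy) (H.inv_mem hx)) (H.inv_mem hy))
          fun a ha => ?_
        have hc1 := hcH a ha _ hx
        have hc2 := hcH a ha _ hy
        have hcc : ∀ {v e : Ω}, v ∈ V → e ∈ E0 → v * e * v⁻¹ = e := fun hv he => by
          rw [c.zc_central h.mov.1 hv he, mul_inv_cancel_right]
        have hy2 : ⁅a, (y : Ω)⁆ * y ∈ E0 := mul_mem (c.zc_le h.mov.1 hc2) hy.2
        rw [show a * ⁅(x : Ω), (y : Ω)⁆ * a⁻¹ = ⁅⁅a, (x : Ω)⁆ * x, ⁅a, (y : Ω)⁆ * y⁆ by group,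
          comm_mul_left, commutatorElement_eq_one_iff_mul_comm.2 (c.zc_central h.mov.1 hc1 hy2),
          mul_one, hcc hc1 (by
            rw [commutatorElement_def]
            exact mul_mem (mul_mem (mul_mem hx.2 hy2) (inv_mem hx.2)) (inv_mem hy2)),
          comm_mul_right, commutatorElement_eq_one_iff_mul_comm.2
            (c.zc_central h.mov.1 hc2 hx.2).symm, one_mul,
          hcc hc2 (by
            rw [commutatorElement_def]
            exact mul_mem (mul_mem (mul_mem hx.2 hy.2) (inv_mem hx.2)) (inv_mem hy.2))])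
      (fun x hx' => by
        show (x : Ω) ^ p ∈ N
        have hx : (x : Ω) ∈ H := hx'
        refine ⟨H.pow_mem hx p, fun a ha => Subgroup.mem_bot.2 ?_⟩
        have hd : ⁅(x : Ω), a⁆ ∈ V := comm_swap_mem (hcH a ha _ hx)
        rw [comm_pow_left (c.zc_central h.mov.1 hd hx.2).symm, (c.zc_elem h.mov.1).2 _ hd])
    have e3 := σ.card_mul
    rw [Nat.card_congr (Subgroup.subgroupOfEquivOfLe hHS).toEquiv,
      Nat.card_congr (Subgroup.subgroupOfEquivOfLe (hNH.trans hHS)).toEquiv] at e3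
    have e4 := σ.card_le c.rank
    have hDN : Nat.card D ≤ Nat.card N * p := by
      refine Nat.le_of_mul_le_mul_right (c := p * p) ?_ (Nat.mul_pos hp.1.pos hp.1.pos)
      calc Nat.card D * (p * p) = Nat.card D * p * p := by ring
        _ ≤ Nat.card M * p := Nat.mul_le_mul_right p e1
        _ ≤ Nat.card H := e2
        _ ≤ p ^ 3 * Nat.card N := e3 ▸ Nat.mul_le_mul_right _ e4
        _ = _ := by ring
    -- the commutator is central
    set d := ⁅u, w⁆
    have hdV : d ∈ V := hUc u hu w (hWE hw)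
    have hdp : d ^ p = 1 := (c.zc_elem h.mov.1).2 d hdV
    have hdZ : d ∈ Z := mem_omegaZ.2 ⟨hVS hdV, hdp, fun s hs => by
      obtain ⟨m, hm⟩ := exists_pow_of_zpowers hdp
        (hline _ (hUn s hs u hu) _ (hUn s hs w (hWU hw)))
      obtain ⟨l, hl⟩ := c.pS ⟨s, hs⟩
      exact (commute_of_normalises (congrArg Subtype.val hl) hdp
        ⟨m, by rw [← hm, show d = ⁅u, w⁆ from rfl]; group⟩).symm⟩
    have hUD : U ≤ D := fun x hx => ⟨hUH hx, fun y hy =>
      (Subgroup.zpowers_le.2 hdZ) (hline x hx y hy)⟩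
    have hND : N ≤ D := fun x hx => ⟨hx.1, fun y hy => by
      rw [Subgroup.mem_bot.1 (hx.2 y hy)]; exact one_mem _⟩
    obtain ⟨x, hx, hxN⟩ : ∃ x ∈ U, x ∉ N := by
      by_contra! hall
      exact huw (commutatorElement_eq_one_iff_mul_comm.2 (hNc u (hall u hu) w (hWU hw)))
    have hDH : D ≤ H := fun y hy => hy.1
    haveI : Finite D := finite_of_le (hDH.trans hHS)
    have hlt : N < N ⊔ Subgroup.zpowers x :=
      left_lt_sup.2 fun hle => hxN (hle (Subgroup.mem_zpowers x))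
    have hle : N ⊔ Subgroup.zpowers x ≤ D := sup_le hND (Subgroup.zpowers_le.2 (hUD hx))
    have heq : N ⊔ Subgroup.zpowers x = D := Subgroup.eq_of_le_of_card_ge hle
      (hDN.trans (lt_card_mul c.pS (hle.trans (hDH.trans hHS)) hlt))
    have hcomm : ∀ a ∈ U, ∀ b ∈ U, x * b = b * x → a * b = b * a := fun a ha b hb hxb => by
      have h5 : N ⊔ Subgroup.zpowers x ≤ Subgroup.centralizer {b} := by
        refine sup_le (fun y hy => ?_) (Subgroup.zpowers_le.2 ?_) <;>
          rw [Subgroup.mem_centralizer_singleton_iff]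
        · exact hNc y hy b hb
        · exact hxb
      exact Subgroup.mem_centralizer_singleton_iff.1 (h5 (heq.ge (hUD ha)))
    have hxU : ∀ b ∈ U, x * b = b * x := fun b hb => (hcomm b hb x hx rfl).symm
    exact huw (commutatorElement_eq_one_iff_mul_comm.2 (hcomm u hu w (hWU hw) (hxU w (hWU hw))))
  · -- the meet centralises the orbit modulo the centre
    set K2 := commSet U (E : Set Ω) Z hZU
    have hVK2 : V ≤ K2 := fun v hv => ⟨hVU hv, fun y hy => h.comm_V hv (hES hy)⟩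
    rcases htri K2 hVK2 (fun x hx => hx.1) (hKinv E (inv_self E) le_rfl) with hK2 | hK2
    · obtain ⟨g, hg, hgE⟩ : ∃ g ∈ E, g ∉ E0 := by
        by_contra! hall
        refine hne ?_
        haveI : Finite E0 := finite_of_le (c.le h.mov.1)
        exact Subgroup.eq_of_le_of_card_ge hall (Nat.le_of_mul_le_mul_right
          (by rw [c.card h.mov.1, c.card hE]) hp.1.pos)
      have hmem : ∀ a ∈ U, ⁅a, g⁆ ∈ Z → a ∈ K2 := fun a ha hag => ⟨ha, fun y hy => by
        obtain ⟨e, he, i, rfl⟩ := c.mem_dec h.mov.1 (hES hg) hgE (hES hy)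
        have heE : e ∈ E := (E.mul_mem_cancel_right (E.pow_mem hg i)).1 hy
        have hZE0 : Nrm E Z := fun s hs => omegaZ_nrm s (hES hs)
        have h5 : e ∈ commSet E {a} Z hZE0 := ⟨heE, fun b hb => by
          rw [Set.mem_singleton_iff] at hb
          subst hb
          exact comm_swap_mem ((hK ha).2 e ⟨heE, he⟩)⟩
        have h6 : g ∈ commSet E {a} Z hZE0 := ⟨hg, fun b hb => by
          rw [Set.mem_singleton_iff] at hb
          subst hb
          exact comm_swap_mem hag⟩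
        exact comm_swap_mem ((mul_mem h5 (pow_mem h6 i)).2 a rfl)⟩
      have hwg : ⁅w, g⁆ ∉ Z := fun e => hwV (hK2 (hmem w (hWU hw) e))
      obtain ⟨k, hk⟩ := h.cand_exists_pow hW hw (hU0 hu) (hES hg) hwg (hUc u hu g hg)
      exact huW ((W.mul_mem_cancel_right (pow_mem hw k)).1
        (hW.V_le (hK2 (hmem _ (mul_mem hu (pow_mem (hWU hw) k)) hk))))
    · obtain ⟨E', hE', hne', hmove, -, -, hc'⟩ := hW.mover
      have hEE' : E' ≠ E := fun e => hmove (e ▸ hV)
      obtain ⟨g, hg, hgE⟩ : ∃ g ∈ E', g ∉ E := by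
        by_contra! hall
        refine hEE' ?_
        haveI : Finite E := finite_of_le hES
        exact Subgroup.eq_of_le_of_card_ge hall (Nat.le_of_mul_le_mul_right
          (by rw [c.card hE, c.card hE']) hp.1.pos)
      refine h.cand_not_comm hW fun s hs x hx => ?_
      obtain ⟨e, he, i, rfl⟩ := c.mem_dec hE (c.le hE' hg) hgE hs
      have hZn : Nrm S Z := omegaZ_nrm
      have h5 : e ∈ commSet S {x} Z hZn := ⟨hES he, fun b hb => by
        rw [Set.mem_singleton_iff] at hb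
        subst hb
        exact comm_swap_mem ((hK2 (hWU hx)).2 e he)⟩
      have h6 : g ∈ commSet S {x} Z hZn := ⟨c.le hE' hg, fun b hb => by
        rw [Set.mem_singleton_iff] at hb
        subst hb
        exact comm_swap_mem (hc' _ hx g hg)⟩
      exact (mul_mem h5 (pow_mem h6 i)).2 x rfl

omit hW in
/-- A single moving essential subgroup is impossible. -/
theorem contradiction : False := by
  have c := h.ctx
  obtain ⟨E, hE, hne, hmove⟩ := h.exists_mover
  have hW := h.cand_of_mover hE hne hmove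
  obtain ⟨z, hz, hz1⟩ := c.exists_omegaZ
  refine c.false_of_invariant (hW.V_le (c.le_zc h.mov.1 hz)) hz1 (h.cand_le_S hW)
    (h.cand_inv_S hW) fun E' hE' => ?_
  by_cases he : E' = E0
  · subst he
    exact ⟨hW.le, h.cand_inv_E0 hW⟩
  by_cases hV : Inv F E' (zc F p E0)
  · exact h.cand_inv_of_stay hW hE' he hV
  · have hW' := h.cand_of_mover hE' he hV
    rw [← h.cand_unique hW hW']
    exact ⟨orb_le (h.V_le hE'), orb_inv (h.V_le hE')⟩

end Single

end CfsgLib.Fusion.RankThreeNormal
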