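import Cfsg.Agent.Lib.Fusion.RankThreeNormal.SpData

/-!
# The orbit of the centre inside an essential subgroup
-/

set_option autoImplicit false
set_option linter.unusedSectionVars false
set_option linter.style.haveILetI false

namespace CfsgLib.Fusion.RankThreeNormal

open Cfsg Cfsg.FusionSystem CfsgLib.Fusion CfsgLib.Fusion.RankThree
open scoped commutatorElement

universe u

variable {p : ℕ} [hp : Fact p.Prime] {Ω : Type u} [Group Ω] {S : Subgroup Ω} [Finite S]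
  {F : FusionSystem S} {E : Subgroup Ω}

/-- The orbit of the elements of order `p` in the centre. -/
def zc (F : FusionSystem S) (p : ℕ) (E : Subgroup Ω) : Subgroup Ω := orb F E (omegaZ p S)

/-- An essential subgroup moving the centre. -/
def Mov (F : FusionSystem S) (p : ℕ) (E : Subgroup Ω) : Prop :=
  F.IsEssential p E ∧ ¬ Inv F E (omegaZ p S)

theorem omegaZ_nrm : Nrm S (omegaZ p S) := fun s hs q hq => by
  rw [← (mem_omegaZ.1 hq).2.2 s hs, mul_inv_cancel_right]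
  exact hq

theorem omegaZ_elem (T : Subgroup Ω) : Elem p (omegaZ p T) :=
  ⟨fun _ ha b hb => (mem_omegaZ.1 ha).2.2 b (mem_omegaZ.1 hb).1, fun _ ha => (mem_omegaZ.1 ha).2.1⟩

theorem inv_omegaZ_self : Inv F S (omegaZ p S) := fun α _ _ hx => autFun_omegaZ α hx

/-- Transport of the elementary subgroups along an automorphism. -/
theorem Elem.img {A : Subgroup Ω} (hA : Elem p A) {f : Ω → Ω} (hf : IsMor F A f) :
    Elem p (img A f) := by
  refine ⟨fun a ha b hb => ?_, fun a ha => ?_⟩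
  · obtain ⟨x, hx, rfl⟩ := hf.mem_img.1 ha
    obtain ⟨y, hy, rfl⟩ := hf.mem_img.1 hb
    rw [← hf.map_mul hx hy, hA.1 x hx y hy, hf.map_mul hy hx]
  · obtain ⟨x, hx, rfl⟩ := hf.mem_img.1 ha
    rw [← hf.map_pow hx, hA.2 x hx, hf.map_one]

/-- An invariant subgroup is preserved by the inverse automorphisms. -/
theorem Inv.mem_iff {A : Subgroup Ω} (h : Inv F E A) {α : MulAut E} (hα : α ∈ F.autGroup E) {x : Ω}
    (hx : x ∈ E) : autFun α x ∈ A ↔ x ∈ A :=
  ⟨fun hm => autFun_inv_left α hx ▸ h _ ((F.autGroup E).inv_mem hα) _ hm, fun hm => h α hα x hm⟩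

namespace Ctx

variable (c : Ctx F p)
include c

theorem omegaZ_le' (hE : F.IsEssential p E) : omegaZ p S ≤ E :=
  fun _ hx => (mem_omegaZ.1 (c.omegaZ_le hE hx)).1

theorem le_zc (hE : F.IsEssential p E) : omegaZ p S ≤ zc F p E := le_orb (c.omegaZ_le' hE)

theorem zc_inv (hE : F.IsEssential p E) : Inv F E (zc F p E) := orb_inv (c.omegaZ_le' hE)

theorem zc_le (hE : F.IsEssential p E) : zc F p E ≤ E := orb_le (c.omegaZ_le' hE)

theorem zc_le_omegaZ (hE : F.IsEssential p E) : zc F p E ≤ omegaZ p E :=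
  orb_min (c.omegaZ_le hE) fun α _ _ hx => autFun_omegaZ α hx

theorem zc_elem (hE : F.IsEssential p E) : Elem p (zc F p E) :=
  (omegaZ_elem E).mono (c.zc_le_omegaZ hE)

theorem zc_central (hE : F.IsEssential p E) {x : Ω} (hx : x ∈ zc F p E) {e : Ω} (he : e ∈ E) :
    x * e = e * x :=
  (mem_omegaZ.1 (c.zc_le_omegaZ hE hx)).2.2 e he

theorem zc_nrm (hE : F.IsEssential p E) : Nrm S (zc F p E) :=
  nrm_of_inv (c.nrm E hE) (c.le hE) (c.zc_le hE) (c.zc_inv hE)

theorem inv_of_not_mov (hE : F.IsEssential p E) (h : ¬ Mov F p E) : Inv F E (omegaZ p S) :=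
  not_not.1 fun hn => h ⟨hE, hn⟩

theorem mov_moves (hE : Mov F p E) :
    ∃ γ ∈ F.autGroup E, ∃ ζ ∈ omegaZ p S, autFun γ ζ ∉ omegaZ p S := by
  by_contra! h
  exact hE.2 fun α hα x hx => h α hα x hx

theorem zc_not_le (hE : Mov F p E) : ¬ zc F p E ≤ omegaZ p S := fun h => by
  obtain ⟨γ, hγ, ζ, hζ, hout⟩ := c.mov_moves hE
  exact hout (h (mem_orb hγ hζ))

theorem mem_of_commute_zc (hE : Mov F p E) {g : Ω} (hg : g ∈ S)
    (h : ∀ v ∈ zc F p E, g * v = v * g) : g ∈ E := by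
  by_contra hgE
  refine c.zc_not_le hE fun v hv => ?_
  obtain ⟨-, hvp, hvc⟩ := mem_omegaZ.1 (c.zc_le_omegaZ hE.1 hv)
  refine mem_omegaZ.2 ⟨c.le hE.1 (c.zc_le hE.1 hv), hvp, fun s hs => ?_⟩
  obtain ⟨e, he, i, rfl⟩ := c.mem_dec hE.1 hg hgE hs
  exact ((show Commute v e from hvc e he).mul_right
    ((show Commute v g from (h v hv).symm).pow_right i)).eq

theorem mov_card (hE : Mov F p E) :
    Nat.card (omegaZ p S) * p ≤ Nat.card (zc F p E) :=
  lt_card_mul c.pS ((c.zc_le hE.1).trans (c.le hE.1))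
    (lt_of_le_of_ne (c.le_zc hE.1) fun h => c.zc_not_le hE h.ge)

theorem mov_image (hE : Mov F p E) {β : MulAut S} (hβ : β ∈ F.autGroup S) :
    Mov F p (img E (autFun β)) ∧
      ∀ v ∈ zc F p E, autFun β v ∈ zc F p (img E (autFun β)) := by
  have hES := c.le hE.1
  have hf : IsMor F E (autFun β) := (isMor_autFun le_rfl hβ).restrict hES
  obtain ⟨Φ, hΦ, hΦF, -, -⟩ := exists_aut_congr hf rfl
  have hess := essential_image c.pS hE.1 (c.nrm E hE.1) hβ
  refine ⟨⟨hess, fun hinv => ?_⟩, fun v hv => ?_⟩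
  · obtain ⟨γ, hγ, ζ, hζ, hout⟩ := c.mov_moves hE
    have hζE := c.omegaZ_le' hE.1 hζ
    have h1 := hinv _ (hΦF γ hγ) _ (inv_omegaZ_self β hβ ζ hζ)
    rw [hΦ γ ζ hζE] at h1
    exact hout ((inv_omegaZ_self.mem_iff hβ (hES (autFun_mem γ hζE))).1 h1)
  · have hle : ∀ x ∈ {x | ∃ γ ∈ F.autGroup E, ∃ a ∈ omegaZ p S, x = autFun γ a},
        autFun β x ∈ zc F p (img E (autFun β)) := by
      rintro _ ⟨γ, hγ, ζ, hζ, rfl⟩
      rw [← hΦ γ ζ (c.omegaZ_le' hE.1 hζ)]
      exact mem_orb (hΦF γ hγ) (inv_omegaZ_self β hβ ζ hζ)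
    exact mapsTo_closure β ((orb_set_subset (c.omegaZ_le' hE.1)).trans hES) hle hv

/-- Unless the group has the symplectic shape the orbit of the centre is in every essential. -/
theorem zc_le_essential (hsp : ¬ SpShape S p) (hE : Mov F p E) {E' : Subgroup Ω}
    (hE' : F.IsEssential p E') : zc F p E ≤ E' := by
  by_contra hle
  obtain ⟨z, hz, hzE'⟩ := SetLike.not_le_iff_exists.1 hle
  have hne : E' ≠ E := fun h => hzE' (h ▸ c.zc_le hE.1 hz)
  refine hsp (c.spShape_of_outside hE' ((c.zc_le hE.1).trans (c.le hE.1)) (c.zc_elem hE.1)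
    (c.zc_nrm hE.1) hz hzE' (H := E' ⊓ E) inf_le_left
    (inf_index c.pS le_rfl (c.le hE') (c.le hE.1) (c.card hE') (c.card hE.1) hne)
    fun h hh x hx => c.zc_central hE.1 hx hh.2)

/-- A subgroup of `S` meets an essential subgroup in index `p`. -/
theorem card_inf_mul (hE : F.IsEssential p E) {B : Subgroup Ω} (hB : B ≤ S) (hBE : ¬ B ≤ E) :
    Nat.card (B ⊓ E : Subgroup Ω) * p = Nat.card B := by
  obtain ⟨u, hu, huE⟩ := SetLike.not_le_iff_exists.1 hBE
  have hn := c.nrm' hE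
  have heq : (B ⊓ E) ⊔ Subgroup.zpowers u = B := by
    refine le_antisymm (sup_le inf_le_left (Subgroup.zpowers_le.2 hu)) fun b hb => ?_
    obtain ⟨e, he, i, rfl⟩ := c.mem_dec hE (hB hu) huE (hB hb)
    exact mul_mem (Subgroup.mem_sup_left ⟨(B.mul_mem_cancel_right (B.pow_mem hu i)).1 hb, he⟩)
      (Subgroup.mem_sup_right (Subgroup.npow_mem_zpowers u i))
  have h := card_sup_zpowers (p := p) (K := B ⊓ E) (x := u)
    (fun k hk => ⟨B.mul_mem (B.mul_mem hu hk.1) (B.inv_mem hu), hn u (hB hu) k hk.2⟩)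
    (fun k hk => ⟨B.mul_mem (B.mul_mem (B.inv_mem hu) hk.1) hu, by
      simpa using hn u⁻¹ (S.inv_mem (hB hu)) k hk.2⟩)
    ⟨B.pow_mem hu p, pow_mem_of_index_p c.pS le_rfl (c.le hE) (c.card hE) (hB hu)⟩
    fun h => huE h.2
  rw [heq] at h
  exact h.symm

theorem card_omegaZ_pos : p ≤ Nat.card (omegaZ p S) := by
  obtain ⟨ζ, hζ, hζ1⟩ := c.exists_omegaZ
  haveI : Finite (omegaZ p S) := finite_of_le fun x hx => (mem_omegaZ.1 hx).1
  exact le_of_eq_of_le (card_zpowers_prime (mem_omegaZ.1 hζ).2.1 hζ1).symm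
    (Subgroup.card_le_of_le (Subgroup.zpowers_le.2 hζ))

/-- A nontrivial central element moved into the centre keeps the whole line of order `p`. -/
theorem inv_at_of_card (hZ : Nat.card (omegaZ p S) = p) {α : MulAut E} (hZE : omegaZ p S ≤ E)
    {w : Ω} (hw : w ∈ omegaZ p S) (hw1 : w ≠ 1) (hαw : autFun α w ∈ omegaZ p S) :
    ∀ ζ ∈ omegaZ p S, autFun α ζ ∈ omegaZ p S ∧ autFun α⁻¹ ζ ∈ omegaZ p S := by
  haveI : Finite (omegaZ p S) := finite_of_le fun x hx => (mem_omegaZ.1 hx).1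
  have heq : ∀ x ∈ omegaZ p S, x ≠ 1 → omegaZ p S = Subgroup.zpowers x := fun x hx hx1 =>
    (Subgroup.eq_of_le_of_card_ge (Subgroup.zpowers_le.2 hx)
      (by rw [card_zpowers_prime (mem_omegaZ.1 hx).2.1 hx1, hZ])).symm
  intro ζ hζ
  obtain ⟨i, rfl⟩ := exists_pow_of_zpowers (mem_omegaZ.1 hw).2.1 ((heq w hw hw1).le hζ)
  obtain ⟨j, hj⟩ := exists_pow_of_zpowers (mem_omegaZ.1 hαw).2.1
    ((heq _ hαw (autFun_map_ne_one α (hZE hw) hw1)).le hw)
  refine ⟨by rw [autFun_map_pow α (hZE hw)]; exact (omegaZ p S).pow_mem hαw i, ?_⟩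
  rw [hj, ← pow_mul, autFun_map_pow α⁻¹ (autFun_mem α (hZE hw)), autFun_inv_left α (hZE hw)]
  exact (omegaZ p S).pow_mem hw _

/-- An elementary subgroup of order `p ^ 3` with commutators in a moved centre of order `p`. -/
theorem inv_of_comm_Z (hE : Mov F p E) (hZ : Nat.card (omegaZ p S) = p) {A : Subgroup Ω}
    (hAE : A ≤ E) (hA : Elem p A) (hAc : p ^ 3 ≤ Nat.card A)
    (hc : ∀ a ∈ A, ∀ e ∈ E, ⁅a, e⁆ ∈ omegaZ p S) :
    Inv F E A ∧ ∀ a ∈ A, ∀ e ∈ E, a * e = e * a := by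
  have hES := c.le hE.1
  have hZE := c.omegaZ_le' hE.1
  haveI : Finite A := finite_of_le (hAE.trans hES)
  obtain ⟨γ, hγ, ζ, hζ, hout⟩ := c.mov_moves hE
  -- automorphisms moving the centre
  have key : ∀ α ∈ F.autGroup E, (∃ z ∈ omegaZ p S, autFun α z ∉ omegaZ p S) →
      ∀ a ∈ A, autFun α a ∈ A := by
    rintro α hα ⟨z, hz, hzout⟩ a ha
    have hf := (isMor_autFun hES hα).restrict hAE
    refine eq_of_commute c.rank (hAE.trans hES) hf.img_le hA.1 (hA.img hf).1 hA.2 (hA.img hf).2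
      (fun x hx y hy => ?_) hAc (mem_img_of_mem _ ha)
    obtain ⟨b, hb, rfl⟩ := hf.mem_img.1 hy
    have h1 := hc x hx _ (autFun_mem α (hAE hb))
    have hw0 : autFun α⁻¹ ⁅x, autFun α b⁆ ∈ omegaZ p S := by
      rw [autFun_map_comm α⁻¹ (hAE hx) (autFun_mem α (hAE hb)), autFun_inv_left α (hAE hb)]
      exact comm_swap_mem (hc b hb _ (autFun_mem _ (hAE hx)))
    by_contra hne
    have hne' : ⁅x, autFun α b⁆ ≠ 1 := fun h => hne (commutatorElement_eq_one_iff_mul_comm.1 h)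
    have h2 := (c.inv_at_of_card hZ hZE h1 hne' hw0 z hz).2
    rw [inv_inv] at h2
    exact hzout h2
  have hinv : Inv F E A := by
    intro α hα a ha
    by_cases hm : ∃ z ∈ omegaZ p S, autFun α z ∉ omegaZ p S
    · exact key α hα hm a ha
    push Not at hm
    have hζ1 : ζ ≠ 1 := fun h => hout (by rw [h, autFun_map_one]; exact one_mem _)
    have h1 : autFun (α * γ) ζ ∉ omegaZ p S := by
      rw [autFun_mul _ _ (hZE hζ)]
      intro h
      have h2 := (c.inv_at_of_card hZ hZE hζ hζ1 (hm ζ hζ) _ h).2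
      rw [autFun_inv_left α (autFun_mem γ (hZE hζ))] at h2
      exact hout h2
    have h2 : ∃ z ∈ omegaZ p S, autFun γ⁻¹ z ∉ omegaZ p S := by
      by_contra! h
      have h3 := (c.inv_at_of_card hZ hZE hζ hζ1 (h ζ hζ) ζ hζ).2
      rw [inv_inv] at h3
      exact hout h3
    rw [show α = α * γ * γ⁻¹ by group, autFun_mul _ _ (hAE ha)]
    exact key _ ((F.autGroup E).mul_mem hα hγ) ⟨ζ, hζ, h1⟩ _
      (key _ ((F.autGroup E).inv_mem hγ) h2 a ha)
  refine ⟨hinv, fun a ha e he => ?_⟩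
  by_contra hne
  have h1 := hc a ha e he
  have hne' : ⁅a, e⁆ ≠ 1 := fun h => hne (commutatorElement_eq_one_iff_mul_comm.1 h)
  have h2 : autFun γ ⁅a, e⁆ ∈ omegaZ p S := by
    rw [autFun_map_comm γ (hAE ha) he]
    exact hc _ (hinv γ hγ a ha) _ (autFun_mem γ he)
  exact hout (c.inv_at_of_card hZ hZE h1 hne' h2 ζ hζ).1

/-- Two essential subgroups move the centre. -/
theorem false_of_two (hsp : ¬ SpShape S p) {E1 E2 : Subgroup Ω} (h1 : Mov F p E1)
    (h2 : Mov F p E2) (hne : E1 ≠ E2) : False := by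
  have hS1 := (c.zc_le h1.1).trans (c.le h1.1)
  have hS2 := (c.zc_le h2.1).trans (c.le h2.1)
  haveI : Finite (zc F p E1) := finite_of_le hS1
  haveI : Finite (zc F p E2) := finite_of_le hS2
  -- no element outside centralises the orbit
  have hout : ∀ {A B : Subgroup Ω}, Mov F p A → Mov F p B → A ≠ B →
      (∀ v ∈ zc F p B, ∀ e ∈ A, v * e = e * v) → False := by
    intro A B hA hB hAB h
    have hle : A ≤ B := fun g hg => c.mem_of_commute_zc hB (c.le hA.1 hg)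
      fun v hv => (h v hv g hg).symm
    haveI : Finite B := finite_of_le (c.le hB.1)
    exact hAB (Subgroup.eq_of_le_of_card_ge hle (Nat.le_of_mul_le_mul_right
      (by rw [c.card hA.1, c.card hB.1]) hp.1.pos))
  set V := zc F p E1 ⊔ zc F p E2
  have hVS : V ≤ S := sup_le hS1 hS2
  haveI : Finite V := finite_of_le hVS
  have hVe : Elem p V := (c.zc_elem h1.1).sup (c.zc_elem h2.1) fun a ha b hb =>
    c.zc_central h1.1 ha (c.zc_le_essential hsp h2 h1.1 hb)
  have hV3 : Nat.card V ≤ p ^ 3 := card_le_of_elementary c.rank hVS hVe.1 hVe.2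
  have hlt : zc F p E1 < V := lt_of_le_of_ne le_sup_left fun h => hout h1 h2 hne fun v hv e he =>
    c.zc_central h1.1 (h.ge (Subgroup.mem_sup_right hv)) he
  have h3 := lt_card_mul c.pS hVS hlt
  have h4 := c.mov_card h1
  have h5 := c.card_omegaZ_pos
  have h6 := Nat.mul_le_mul_right p h5
  have hc1 : Nat.card (zc F p E1) = p * p := by
    refine le_antisymm (Nat.le_of_mul_le_mul_right ?_ hp.1.pos) (h6.trans h4)
    exact h3.trans (hV3.trans (by rw [pow_succ, pow_two]))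
  have hZ : Nat.card (omegaZ p S) = p :=
    le_antisymm (Nat.le_of_mul_le_mul_right (h4.trans hc1.le) hp.1.pos) h5
  have hVc : p ^ 3 ≤ Nat.card V := le_trans (by rw [hc1, pow_succ, pow_two]) h3
  have hZn : Nrm S (omegaZ p S) := omegaZ_nrm
  have hchain : ∀ {A : Subgroup Ω}, Mov F p A → Nat.card (zc F p A) ≤ p * p →
      ∀ v ∈ zc F p A, ∀ s ∈ S, ⁅v, s⁆ ∈ omegaZ p S := fun {A} hA hcA v hv s hs =>
    comm_swap_mem (comm_mem_chain c.pS ((c.zc_le hA.1).trans (c.le hA.1)) (c.le_zc hA.1) hZn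
      (c.zc_nrm hA.1) (le_antisymm (c.mov_card hA) (by rw [hZ]; exact hcA)) hs hv)
  have hlt2 : zc F p E2 < V := lt_of_le_of_ne le_sup_right fun h => hout h2 h1 hne.symm
    fun v hv e he => c.zc_central h2.1 (h.ge (Subgroup.mem_sup_left hv)) he
  have hc2 : Nat.card (zc F p E2) ≤ p * p := Nat.le_of_mul_le_mul_right
    ((lt_card_mul c.pS hVS hlt2).trans (hV3.trans (by rw [pow_succ, pow_two]))) hp.1.pos
  have hcomm : ∀ v ∈ V, ∀ s ∈ S, ⁅v, s⁆ ∈ omegaZ p S := fun v hv s hs =>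
    ((sup_le (fun x hx => ⟨hS1 hx, fun y hy => hchain h1 hc1.le x hx y hy⟩)
      (fun x hx => ⟨hS2 hx, fun y hy => hchain h2 hc2 x hx y hy⟩) :
        V ≤ commSet S (S : Set Ω) (omegaZ p S) hZn) hv).2 s hs
  have hVE : V ≤ E1 := sup_le (c.zc_le h1.1) (c.zc_le_essential hsp h2 h1.1)
  obtain ⟨-, hc⟩ := c.inv_of_comm_Z h1 hZ hVE hVe hVc fun a ha e he =>
    hcomm a ha e (c.le h1.1 he)
  exact hout h1 h2 hne fun v hv e he => hc v (Subgroup.mem_sup_right hv) e he

end Ctx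

end CfsgLib.Fusion.RankThreeNormal
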