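import Cfsg.Agent.Lib.Fusion.RankThreeNormal.Ctx

/-!
# Commutator helpers in groups of small class
-/

set_option autoImplicit false
set_option linter.unusedSectionVars false
set_option linter.style.haveILetI false

namespace CfsgLib.Fusion.RankThreeNormal

open Cfsg Cfsg.FusionSystem CfsgLib.Fusion CfsgLib.Fusion.RankThree
open scoped commutatorElement

universe u

variable {p : ℕ} [hp : Fact p.Prime] {Ω : Type u} [Group Ω] {S : Subgroup Ω}

/-- A group of exponent `p` from generators of order `p` with small commutators. -/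
theorem pow_p_eq_one_of_closure (hp2 : p ≠ 2) {L : Subgroup Ω} {t : Set Ω}
    (ht : L = Subgroup.closure t) (h : ∀ x ∈ t, x ^ p = 1)
    (hc : ∀ a ∈ L, ∀ b ∈ L, ⁅a, b⁆ ^ p = 1 ∧ ∀ d ∈ L, ⁅a, b⁆ * d = d * ⁅a, b⁆) :
    ∀ x ∈ L, x ^ p = 1 := by
  subst ht
  intro x hx
  induction hx using Subgroup.closure_induction with
  | mem y hy => exact h y hy
  | one => exact one_pow p
  | mul a b ha hb ha' hb' =>
    rw [mul_pow_p hp2 ((hc b hb a ha).2 a ha) ((hc b hb a ha).2 b hb) (hc b hb a ha).1, ha', hb',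
      one_mul]
  | inv a _ ha' => rw [inv_pow, ha', inv_one]

/-- Powers on the left of a commutator centralised by the base. -/
theorem comm_pow_left {a b : Ω} (h : a * ⁅a, b⁆ = ⁅a, b⁆ * a) (n : ℕ) :
    ⁅a ^ n, b⁆ = ⁅a, b⁆ ^ n := by
  induction n with
  | zero => simp
  | succ n ih =>
    rw [pow_succ', comm_mul_left, ih, ((show Commute a ⁅a, b⁆ from h).pow_right n).eq,
      mul_inv_cancel_right, ← pow_succ]

/-- Powers on the right of a commutator centralised by the base. -/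
theorem comm_pow_right {a b : Ω} (h : b * ⁅a, b⁆ = ⁅a, b⁆ * b) (n : ℕ) :
    ⁅a, b ^ n⁆ = ⁅a, b⁆ ^ n := by
  have h' : b * ⁅b, a⁆ = ⁅b, a⁆ * b := by
    rw [← commutatorElement_inv a b]
    exact (show Commute b ⁅a, b⁆ from h).inv_right.eq
  rw [← commutatorElement_inv (b ^ n) a, comm_pow_left h', ← commutatorElement_inv a b, inv_pow,
    inv_inv]

variable [Finite S]

/-- No two commuting elements of order `p` extend an elementary group of order `p ^ 2`. -/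
theorem false_of_four (hrank : Cfsg.SectionalPRankLE p 3 S) {V : Subgroup Ω} (hV : V ≤ S)
    (hVe : Elem p V) (hVc : p * p ≤ Nat.card V) {x y : Ω} (hx : x ∈ S) (hy : y ∈ S)
    (hxp : x ^ p = 1) (hyp : y ^ p = 1) (hxV : ∀ v ∈ V, x * v = v * x)
    (hyV : ∀ v ∈ V, y * v = v * y) (hxy : x * y = y * x) (hxn : x ∉ V)
    (hyn : y ∉ V ⊔ Subgroup.zpowers x) : False := by
  set M := V ⊔ Subgroup.zpowers x
  set L := M ⊔ Subgroup.zpowers y
  have hyM : ∀ m ∈ M, y * m = m * y := fun m hm => by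
    have h : M ≤ Subgroup.centralizer {y} := by
      refine sup_le (fun v hv => ?_) (Subgroup.zpowers_le.2 ?_) <;>
        rw [Subgroup.mem_centralizer_singleton_iff]
      · exact (hyV v hv).symm
      · exact hxy
    exact (Subgroup.mem_centralizer_singleton_iff.1 (h hm)).symm
  have hz : ∀ {z : Ω}, z ^ p = 1 → Elem p (Subgroup.zpowers z) := fun {z} hz => by
    rw [Subgroup.zpowers_eq_closure]
    exact Elem.closure (by rintro a rfl b rfl; rfl) (by rintro a rfl; exact hz)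
  have hMe : Elem p M := hVe.sup (hz hxp) fun v hv w hw => by
    obtain ⟨i, rfl⟩ := exists_pow_of_zpowers hxp hw
    exact ((show Commute v x from (hxV v hv).symm).pow_right i).eq
  have hLe : Elem p L := hMe.sup (hz hyp) fun v hv w hw => by
    obtain ⟨i, rfl⟩ := exists_pow_of_zpowers hyp hw
    exact ((show Commute v y from (hyM v hv).symm).pow_right i).eq
  have hLS : L ≤ S :=
    sup_le (sup_le hV (Subgroup.zpowers_le.2 hx)) (Subgroup.zpowers_le.2 hy)
  have h1 := card_le_of_elementary hrank hLS hLe.1 hLe.2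
  rw [card_sup_comm hyM hyp hyn, card_sup_comm hxV hxp hxn] at h1
  have h2 := (Nat.mul_le_mul_right p (Nat.mul_le_mul_right p hVc)).trans h1
  rw [show p * p * p * p = p ^ 4 by ring] at h2
  exact absurd h2 (not_le.2 (Nat.pow_lt_pow_right hp.1.one_lt (by norm_num)))

set_option maxHeartbeats 800000 in
/-- A group of class two over an elementary group of order `p ^ 2` has order at most `p ^ 4`. -/
theorem card_le_four (hrank : Cfsg.SectionalPRankLE p 3 S) {V U : Subgroup Ω}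
    (hU : U ≤ S) (hVU : V ≤ U) (hVe : Elem p V) (hVc : Nat.card V = p * p)
    (hVz : ∀ v ∈ V, ∀ x ∈ U, v * x = x * v) (hUp : ∀ x ∈ U, x ^ p = 1)
    (hUc : ∀ x ∈ U, ∀ y ∈ U, ⁅x, y⁆ ∈ V) : Nat.card U ≤ p ^ 4 := by
  by_contra hgt
  haveI : Finite U := finite_of_le hU
  haveI : Finite V := finite_of_le (hVU.trans hU)
  have hVS := hVU.trans hU
  have hVU' : ∀ x ∈ U, ∀ v ∈ V, x * v = v * x := fun x hx v hv => (hVz v hv x hx).symm
  obtain ⟨w, hw, hwV⟩ : ∃ w ∈ U, w ∉ V := SetLike.exists_of_lt (lt_of_le_of_ne hVU fun e => hgt (by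
    rw [← e, hVc, ← pow_two]; exact Nat.pow_le_pow_right hp.1.pos (by norm_num)))
  set M1 := V ⊔ Subgroup.zpowers w
  have hM1 : M1 ≤ U := sup_le hVU (Subgroup.zpowers_le.2 hw)
  have hM1c : Nat.card M1 = p * p * p := by
    rw [card_sup_comm (hVU' w hw) (hUp w hw) hwV, hVc]
  obtain ⟨u2, hu2, hu2M⟩ : ∃ x ∈ U, x ∉ M1 := SetLike.exists_of_lt (lt_of_le_of_ne hM1 fun e => hgt (by
    rw [← e, hM1c, show p * p * p = p ^ 3 by ring]
    exact Nat.pow_le_pow_right hp.1.pos (by norm_num)))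
  set M2 := M1 ⊔ Subgroup.zpowers u2
  have hM2 : M2 ≤ U := sup_le hM1 (Subgroup.zpowers_le.2 hu2)
  have hM1n : ∀ x ∈ U, ∀ m ∈ M1, x * m * x⁻¹ ∈ M1 := fun x hx m hm => by
    rw [show x * m * x⁻¹ = ⁅x, m⁆ * m by group]
    exact mul_mem (Subgroup.mem_sup_left (hUc x hx m (hM1 hm))) hm
  have hM2c : Nat.card M2 = p ^ 4 := by
    rw [card_sup_zpowers (fun m hm => hM1n u2 hu2 m hm)
      (fun m hm => by simpa using hM1n u2⁻¹ (U.inv_mem hu2) m hm)
      (by rw [hUp u2 hu2]; exact one_mem _) hu2M, hM1c]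
    ring
  obtain ⟨u3, hu3, hu3M⟩ : ∃ x ∈ U, x ∉ M2 := SetLike.exists_of_lt
    (lt_of_le_of_ne hM2 fun e => hgt (by rw [← e, hM2c]))
  have hcen : ∀ {x y : Ω}, x ∈ U → y ∈ U → ∀ z ∈ U, z * ⁅x, y⁆ = ⁅x, y⁆ * z :=
    fun {x y} hx hy z hz => hVU' z hz _ (hUc x hx y hy)
  set v2 := ⁅w, u2⁆ with hv2
  set v3 := ⁅w, u3⁆ with hv3
  have hv2V := hUc w hw u2 hu2
  have hv3V := hUc w hw u3 hu3
  have hwM2 : M1 ≤ M2 := le_sup_left
  by_cases h2 : v2 = 1
  · exact false_of_four hrank hVS hVe hVc.ge (hU hw) (hU hu2) (hUp w hw) (hUp u2 hu2) (hVU' w hw)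
      (hVU' u2 hu2) (commutatorElement_eq_one_iff_mul_comm.1 h2) hwV hu2M
  by_cases h3 : v3 ∈ Subgroup.zpowers v2
  · obtain ⟨l, hl⟩ := exists_pow_of_zpowers (hVe.2 v2 hv2V) h3
    set y := u3 * (u2 ^ l)⁻¹
    have hyU : y ∈ U := U.mul_mem hu3 (U.inv_mem (U.pow_mem hu2 l))
    refine false_of_four hrank hVS hVe hVc.ge (hU hw) (hU hyU) (hUp w hw) (hUp y hyU) (hVU' w hw)
      (hVU' y hyU) (commutatorElement_eq_one_iff_mul_comm.1 ?_) hwV fun hy => hu3M ?_
    · have h4 : ⁅w, y * u2 ^ l⁆ = ⁅w, y⁆ * ⁅w, u2 ^ l⁆ := by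
        rw [comm_mul_right, hcen hw (U.pow_mem hu2 l) y hyU, mul_inv_cancel_right]
      rw [show y * u2 ^ l = u3 from inv_mul_cancel_right _ _, comm_pow_right (hcen hw hu2 u2 hu2),
        ← hv3, hl] at h4
      exact (mul_eq_right.1 h4.symm)
    · rw [show u3 = y * u2 ^ l from (inv_mul_cancel_right _ _).symm]
      exact mul_mem (hwM2 hy) (pow_mem (Subgroup.mem_sup_right (Subgroup.mem_zpowers u2)) l)
  -- the two values span
  have hspan : Subgroup.zpowers v2 ⊔ Subgroup.zpowers v3 = V := by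
    refine Subgroup.eq_of_le_of_card_ge
      (sup_le (Subgroup.zpowers_le.2 hv2V) (Subgroup.zpowers_le.2 hv3V)) ?_
    rw [hVc, card_sup_comm (fun k hk => hVe.1 v3 hv3V k (Subgroup.zpowers_le.2 hv2V hk))
      (hVe.2 v3 hv3V) h3, card_zpowers_prime (hVe.2 v2 hv2V) h2]
  obtain ⟨i, k, hik⟩ : ∃ i k : ℕ, ⁅u2, u3⁆ = v2 ^ i * v3 ^ k := by
    have h := hUc u2 hu2 u3 hu3
    rw [← hspan, ← SetLike.mem_coe, Subgroup.coe_mul_of_left_le_normalizer_right] at h
    · obtain ⟨a, ha, b, hb, hab⟩ := h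
      obtain ⟨i, rfl⟩ := exists_pow_of_zpowers (hVe.2 v2 hv2V) ha
      obtain ⟨k, rfl⟩ := exists_pow_of_zpowers (hVe.2 v3 hv3V) hb
      exact ⟨i, k, hab.symm⟩
    · refine Subgroup.zpowers_le.2 (Subgroup.centralizer_le_normalizer _
        (Subgroup.mem_centralizer_iff.2 fun d hd => ?_))
      exact hVe.1 d (Subgroup.zpowers_le.2 hv3V hd) v2 hv2V
  set s := (p - 1) * k
  set x := u2 * w ^ s
  set y := u3 * w ^ i
  have hxU : x ∈ U := U.mul_mem hu2 (U.pow_mem hw s)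
  have hyU : y ∈ U := U.mul_mem hu3 (U.pow_mem hw i)
  have hlin : ∀ {a b d : Ω}, a ∈ U → b ∈ U → d ∈ U →
      ⁅a * b, d⁆ = ⁅b, d⁆ * ⁅a, d⁆ ∧ ⁅d, a * b⁆ = ⁅d, a⁆ * ⁅d, b⁆ := fun {a b d} ha hb hd => by
    constructor
    · rw [comm_mul_left, hcen hb hd a ha, mul_inv_cancel_right]
    · rw [comm_mul_right, hcen hd hb a ha, mul_inv_cancel_right]
  have hxy : ⁅x, y⁆ = 1 := by
    have hwsi : ⁅w ^ s, w ^ i⁆ = 1 := commutatorElement_eq_one_iff_mul_comm.2
      ((Commute.refl w).pow_pow s i).eq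
    rw [(hlin hu2 (U.pow_mem hw s) hyU).1, (hlin hu3 (U.pow_mem hw i) (U.pow_mem hw s)).2, hwsi,
      mul_one, (hlin hu3 (U.pow_mem hw i) hu2).2, hik, comm_pow_left (hcen hw hu3 w hw),
      comm_pow_right (hcen hu2 hw w hw), ← commutatorElement_inv w u2, ← hv2, ← hv3, inv_pow,
      ← mul_assoc, ← mul_assoc, (show Commute (v3 ^ s) (v2 ^ i) from
        hVe.1 _ (V.pow_mem hv3V s) _ (V.pow_mem hv2V i)).eq, mul_assoc (v2 ^ i), ← pow_add,
      show s + k = p * k by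
        rw [show s = (p - 1) * k from rfl, ← Nat.succ_mul, Nat.succ_eq_add_one,
          Nat.sub_add_cancel hp.1.one_le],
      pow_mul, hVe.2 v3 hv3V, one_pow, mul_one, mul_inv_cancel]
  have hxn : x ∉ M1 := fun hx => hu2M ((M1.mul_mem_cancel_right
    (pow_mem (Subgroup.mem_sup_right (Subgroup.mem_zpowers w)) s)).1 hx)
  have hle : V ⊔ Subgroup.zpowers x ≤ M2 := sup_le (le_sup_left.trans hwM2) (Subgroup.zpowers_le.2
    (mul_mem (Subgroup.mem_sup_right (Subgroup.mem_zpowers u2))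
      (pow_mem (hwM2 (Subgroup.mem_sup_right (Subgroup.mem_zpowers w))) s)))
  refine false_of_four hrank hVS hVe hVc.ge (hU hxU) (hU hyU) (hUp x hxU) (hUp y hyU) (hVU' x hxU)
    (hVU' y hyU) (commutatorElement_eq_one_iff_mul_comm.1 hxy) (fun hx => hxn (Subgroup.mem_sup_left hx))
    fun hy => hu3M ((M2.mul_mem_cancel_right
      (pow_mem (hwM2 (Subgroup.mem_sup_right (Subgroup.mem_zpowers w))) i)).1 (hle hy))

omit [Finite S] in
/-- The product of two opposite transvections squared inverts both centres. -/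
theorem exists_neg {E : Subgroup Ω} {K : Subgroup (MulAut E)} {τ τ' : MulAut E} (hτ : τ ∈ K)
    (hτ' : τ' ∈ K) {a a' : Ω} (ha : a ∈ E) (ha' : a' ∈ E) (hap : a ^ p = 1) (ha'p : a' ^ p = 1)
    (hcomm : a * a' = a' * a) {n m : ℕ} (hn : ¬ p ∣ n) (hm : ¬ p ∣ m)
    (h1 : autFun τ a = a) (h2 : autFun τ a' = a' * a ^ n) (h3 : autFun τ' a' = a')
    (h4 : autFun τ' a = a * a' ^ m) :
    ∃ g ∈ K, autFun g a = a⁻¹ ∧ autFun g a' = a'⁻¹ := by
  have hn0 : (n : ZMod p) ≠ 0 := fun h => hn ((ZMod.natCast_eq_zero_iff n p).1 h)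
  have hm0 : (m : ZMod p) ≠ 0 := fun h => hm ((ZMod.natCast_eq_zero_iff m p).1 h)
  have hiter : ∀ (σ : MulAut E) (x y : Ω), x ∈ E → y ∈ E → autFun σ y = y → ∀ l : ℕ,
      autFun σ x = x * y ^ l → ∀ k : ℕ, autFun (σ ^ k) x = x * y ^ (k * l) ∧
        autFun (σ ^ k) y = y := by
    intro σ x y hx hy hyy l hl k
    induction k with
    | zero => simp [autFun_one hx, autFun_one hy]
    | succ k ih =>
      constructor
      · rw [pow_succ', autFun_mul _ _ hx, ih.1, autFun_map_mul σ hx (E.pow_mem hy _), hl,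
          autFun_map_pow σ hy, hyy, mul_assoc, ← pow_add, Nat.succ_mul, add_comm l]
      · rw [pow_succ', autFun_mul _ _ hy, ih.2, hyy]
  set i1 := ((n : ZMod p)⁻¹).val
  set i2 := (-(m : ZMod p)⁻¹).val
  set τ1 := τ ^ i1
  set τ2 := τ' ^ i2
  obtain ⟨e1, e2⟩ := hiter τ a' a ha' ha h1 n h2 i1
  obtain ⟨e3, e4⟩ := hiter τ' a a' ha ha' h3 m h4 i2
  have hτ1a' : autFun τ1 a' = a' * a := by
    rw [e1, mul_right_inj]
    rcases eq_or_ne a 1 with h | h
    · rw [h, one_pow]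
    conv_rhs => rw [← pow_one a]
    rw [pow_eq_pow_iff_cast hap h, Nat.cast_mul, ZMod.natCast_zmod_val, Nat.cast_one,
      inv_mul_cancel₀ hn0]
  have hτ2a : autFun τ2 a = a * a'⁻¹ := by
    rw [e3, mul_right_inj]
    rcases eq_or_ne a' 1 with h | h
    · rw [h, one_pow, inv_one]
    rw [eq_inv_iff_mul_eq_one, ← pow_succ, pow_eq_one_iff_dvd ha'p h, ← ZMod.natCast_eq_zero_iff,
      Nat.cast_add, Nat.cast_mul, ZMod.natCast_zmod_val, Nat.cast_one, neg_mul,
      inv_mul_cancel₀ hm0]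
    ring
  set w := τ1 * τ2 * τ1
  have hwa : autFun w a = a'⁻¹ := by
    rw [show w = τ1 * τ2 * τ1 from rfl, autFun_mul _ _ ha, e2, autFun_mul _ _ ha, hτ2a,
      autFun_map_mul τ1 ha (E.inv_mem ha'), e2, autFun_inv_map τ1 ha', hτ1a',
      mul_inv_rev, mul_inv_cancel_left]
  have hwa' : autFun w a' = a := by
    rw [show w = τ1 * τ2 * τ1 from rfl, autFun_mul _ _ ha', hτ1a',
      autFun_mul _ _ (E.mul_mem ha' ha), autFun_map_mul τ2 ha' ha, e4, hτ2a,
      ← mul_assoc, ← hcomm, mul_inv_cancel_right, e2]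
  refine ⟨w * w, K.mul_mem (K.mul_mem (K.mul_mem (K.pow_mem hτ _) (K.pow_mem hτ' _)) (K.pow_mem hτ _))
    (K.mul_mem (K.mul_mem (K.pow_mem hτ _) (K.pow_mem hτ' _)) (K.pow_mem hτ _)), ?_, ?_⟩
  · rw [autFun_mul _ _ ha, hwa, autFun_inv_map w ha', hwa']
  · rw [autFun_mul _ _ ha', hwa', hwa]

end CfsgLib.Fusion.RankThreeNormal
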