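import Cfsg.Agent.Lib.Fusion.RankThreeNormal.Tools
import Cfsg.Agent.Lib.Fusion.RankThree.Main

/-!
# Sectional rank three with every essential subgroup normal: standing facts
-/

set_option autoImplicit false
set_option linter.unusedSectionVars false
set_option linter.style.haveILetI false

namespace CfsgLib.Fusion.RankThreeNormal

open Cfsg Cfsg.FusionSystem CfsgLib.Fusion CfsgLib.Fusion.RankThree
open scoped commutatorElement

universe u

variable {p : ℕ} [hp : Fact p.Prime] {Ω : Type u} [Group Ω] {S : Subgroup Ω} [Finite S]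
  {F : FusionSystem S}

/-- `Q` is preserved by the automorphisms of `E` in the system. -/
def Inv (F : FusionSystem S) (E Q : Subgroup Ω) : Prop :=
  ∀ α ∈ F.autGroup E, ∀ x ∈ Q, autFun α x ∈ Q

/-- The standing hypotheses. -/
structure Ctx (F : FusionSystem S) (p : ℕ) : Prop where
  pS : IsPGroup p S
  sat : F.IsSaturated p
  p2 : p ≠ 2
  rank : Cfsg.SectionalPRankLE p 3 S
  rank2 : ¬ Cfsg.SectionalPRankLE p 2 S
  core : F.core = ⊥
  nrm : ∀ E, F.IsEssential p E → S ≤ Subgroup.normalizer (E : Set Ω)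

theorem autFun_map_one {E : Subgroup Ω} (α : MulAut E) : autFun α 1 = 1 := by
  rw [autFun_of_mem α E.one_mem]
  exact congrArg Subtype.val (_root_.map_one α)

theorem autFun_map_pow {E : Subgroup Ω} (α : MulAut E) {x : Ω} (hx : x ∈ E) (n : ℕ) :
    autFun α (x ^ n) = autFun α x ^ n := by
  induction n with
  | zero => rw [pow_zero, pow_zero, autFun_map_one]
  | succ n ih => rw [pow_succ, pow_succ, autFun_map_mul α (E.pow_mem hx n) hx, ih]

theorem autFun_map_comm {E : Subgroup Ω} (α : MulAut E) {x y : Ω} (hx : x ∈ E) (hy : y ∈ E) :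
    autFun α ⁅x, y⁆ = ⁅autFun α x, autFun α y⁆ := by
  rw [commutatorElement_def, commutatorElement_def,
    autFun_map_mul α (E.mul_mem (E.mul_mem hx hy) (E.inv_mem hx)) (E.inv_mem hy),
    autFun_map_mul α (E.mul_mem hx hy) (E.inv_mem hx), autFun_map_mul α hx hy,
    autFun_inv_map α hx, autFun_inv_map α hy]

theorem autFun_map_ne_one {E : Subgroup Ω} (α : MulAut E) {x : Ω} (hx : x ∈ E) (h1 : x ≠ 1) :
    autFun α x ≠ 1 := fun e => h1 (by
  rw [← autFun_inv_left α hx, e, autFun_map_one])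

/-- Automorphisms preserve a closure when they send generators into it. -/
theorem mapsTo_closure {E : Subgroup Ω} (α : MulAut E) {t : Set Ω} (ht : t ⊆ E)
    {Q : Subgroup Ω} (h : ∀ x ∈ t, autFun α x ∈ Q) {x : Ω} (hx : x ∈ Subgroup.closure t) :
    autFun α x ∈ Q := by
  have hle : Subgroup.closure t ≤ E := (Subgroup.closure_le _).2 ht
  induction hx using Subgroup.closure_induction with
  | mem y hy => exact h y hy
  | one => rw [autFun_map_one]; exact Q.one_mem
  | mul y z hy hz hy' hz' =>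
    rw [autFun_map_mul α (hle hy) (hle hz)]
    exact Q.mul_mem hy' hz'
  | inv y hy hy' =>
    rw [autFun_inv_map α (hle hy)]
    exact Q.inv_mem hy'

/-- The subgroup generated by the orbit of `A` under the automorphisms of `E`. -/
def orb (F : FusionSystem S) (E A : Subgroup Ω) : Subgroup Ω :=
  Subgroup.closure {x | ∃ γ ∈ F.autGroup E, ∃ a ∈ A, x = autFun γ a}

theorem mem_orb {E A : Subgroup Ω} {γ : MulAut E} (hγ : γ ∈ F.autGroup E) {a : Ω} (ha : a ∈ A) :
    autFun γ a ∈ orb F E A :=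
  Subgroup.subset_closure ⟨γ, hγ, a, ha, rfl⟩

theorem le_orb {E A : Subgroup Ω} (hA : A ≤ E) : A ≤ orb F E A := fun a ha => by
  have := mem_orb (F := F) (F.autGroup E).one_mem ha
  rwa [autFun_one (hA ha)] at this

theorem orb_set_subset {E A : Subgroup Ω} (hA : A ≤ E) :
    {x | ∃ γ ∈ F.autGroup E, ∃ a ∈ A, x = autFun γ a} ⊆ (E : Set Ω) := by
  rintro _ ⟨γ, _, a, ha, rfl⟩
  exact autFun_mem γ (hA ha)

theorem orb_le {E A : Subgroup Ω} (hA : A ≤ E) : orb F E A ≤ E :=
  (Subgroup.closure_le _).2 (orb_set_subset hA)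

theorem orb_inv {E A : Subgroup Ω} (hA : A ≤ E) : Inv F E (orb F E A) := fun α hα x hx =>
  mapsTo_closure α (orb_set_subset hA) (fun y hy => by
    obtain ⟨γ, hγ, a, ha, rfl⟩ := hy
    rw [← autFun_mul α γ (hA ha)]
    exact mem_orb ((F.autGroup E).mul_mem hα hγ) ha) hx

theorem orb_min {E A Q : Subgroup Ω} (hAQ : A ≤ Q) (hQ : Inv F E Q) : orb F E A ≤ Q := by
  rw [orb, Subgroup.closure_le]
  rintro _ ⟨γ, hγ, a, ha, rfl⟩
  exact hQ γ hγ a (hAQ ha)

/-- An invariant subgroup of a normal subgroup is normal. -/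
theorem nrm_of_inv {E Q : Subgroup Ω} (hE : S ≤ Subgroup.normalizer (E : Set Ω)) (hES : E ≤ S)
    (hQE : Q ≤ E) (h : Inv F E Q) : Nrm S Q := fun s hs q hq => by
  obtain ⟨α, hα, e⟩ := exists_autInducedBy (P := E) hs (hE hs)
  rw [← cj_apply, ← e q (hQE hq)]
  exact h α (autInducedBy_le F hES hα) q hq

theorem inv_self (E : Subgroup Ω) : Inv F E E := fun α _ _ hx => autFun_mem α hx

namespace Ctx

variable (c : Ctx F p) {E : Subgroup Ω}
include c

theorem le (hE : F.IsEssential p E) : E ≤ S := hE.1.1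

theorem lt (hE : F.IsEssential p E) : E < S := essential_lt c.pS c.sat hE

theorem nrm' (hE : F.IsEssential p E) : Nrm S E := nrm_of_normalizer (c.nrm E hE)

theorem false_of_invariant {Q : Subgroup Ω} {q : Ω} (hq : q ∈ Q) (hq1 : q ≠ 1) (hQS : Q ≤ S)
    (hinvS : Inv F S Q) (h : ∀ E, F.IsEssential p E → Q ≤ E ∧ Inv F E Q) : False := by
  have hn : F.IsNormal Q := isNormal_of_invariant c.pS c.sat fun P hP => by
    rcases hP with rfl | hP
    · exact ⟨hQS, hinvS⟩
    · exact h P hP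
  exact hq1 (Subgroup.mem_bot.1 (c.core ▸ le_core hn hq))

theorem center_le (hE : F.IsEssential p E) {x : Ω} (hx : x ∈ S) (hc : ∀ s ∈ S, x * s = s * x) :
    x ∈ E :=
  centric_centralizer_le hE.1 (mem_centralizerIn.2 ⟨hx, fun a ha => by
    rw [cj_apply, mul_inv_eq_iff_eq_mul]
    exact hc a (c.le hE ha)⟩)

theorem omegaZ_le (hE : F.IsEssential p E) : omegaZ p S ≤ omegaZ p E := fun x hx => by
  obtain ⟨h1, h2, h3⟩ := mem_omegaZ.1 hx
  exact mem_omegaZ.2 ⟨c.center_le hE h1 h3, h2, fun e he => h3 e (c.le hE he)⟩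

theorem ne_bot : S ≠ ⊥ := fun h => c.rank2 (by
  intro H N _ A _ _
  refine le_trans ?_ (Nat.one_le_pow 2 p hp.1.pos)
  haveI : Subsingleton S := by
    rw [h]; infer_instance
  haveI : Subsingleton (H ⧸ N) := Quotient.instSubsingletonQuotient _
  exact Finite.card_le_one_iff_subsingleton.2 inferInstance)

theorem exists_omegaZ : ∃ z ∈ omegaZ p S, z ≠ 1 := by
  haveI : Nontrivial S := (Subgroup.nontrivial_iff_ne_bot S).2 c.ne_bot
  haveI := c.pS.center_nontrivial
  have hd : p ∣ Nat.card (Subgroup.center S) :=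
    (c.pS.to_subgroup _).card_eq_or_dvd.resolve_left fun h =>
      not_subsingleton (Subgroup.center S) (Nat.card_eq_one_iff_unique.1 h).1
  obtain ⟨z, hz⟩ := exists_prime_orderOf_dvd_card' p hd
  refine ⟨((z : S) : Ω), ⟨(z : S).2, ?_, fun e he => ?_⟩, fun h => ?_⟩
  · have h1 := congrArg (fun w : Subgroup.center S => ((w : S) : Ω)) (pow_orderOf_eq_one z)
    rw [hz] at h1
    simpa using h1
  · exact (congrArg Subtype.val (Subgroup.mem_center_iff.1 z.2 ⟨e, he⟩)).symm
  · rw [show z = 1 from Subtype.ext (Subtype.ext h), orderOf_one] at hz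
    exact hp.1.one_lt.ne hz

/-- An element stabilising an invariant chain of length two lies in the subgroup. -/
theorem stab2 (hE : F.IsEssential p E) {Q : Subgroup Ω} (_hQE : Q ≤ E) (hQ : Inv F E Q) {g : Ω}
    (hg : g ∈ S) (h1 : ∀ q ∈ Q, g * q * g⁻¹ = q) (h2 : ∀ e ∈ E, e⁻¹ * (g * e * g⁻¹) ∈ Q) :
    g ∈ E := by
  refine mem_of_stabilizing c.pS hE.1 (essential_radical c.pS hE) 2
    (fun i => if i = 0 then ⊥ else if i = 1 then Q else E) (fun α hα i x hx hxW => ?_) (by simp)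
    (by simp) (mem_normalizerIn.2 ⟨hg, c.nrm E hE hg⟩) fun i hi x hx hxW => ?_
  · by_cases h0 : i = 0
    · simp only [h0, if_true, Subgroup.mem_bot] at hxW ⊢
      rw [hxW, autFun_map_one]
    by_cases h1 : i = 1
    · simp only [h1, if_true, one_ne_zero, if_false] at hxW ⊢
      exact hQ α hα x hxW
    · simp only [h0, h1, if_false]
      exact autFun_mem α hx
  · rcases (by omega : i = 0 ∨ i = 1) with rfl | rfl
    · simp only [zero_add, one_ne_zero, if_false, if_true] at hxW ⊢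
      rw [Subgroup.mem_bot, cj_apply, h1 x hxW, inv_mul_cancel]
    · simp only [one_ne_zero, if_false, if_true]
      exact h2 x hx

/-- A map of an essential subgroup compatible with conjugation by all of `S` extends to `S`. -/
theorem exists_ext (hE : F.IsEssential p E) {δ : MulAut E} (hδ : δ ∈ F.autGroup E)
    (h : ∀ s ∈ S, ∃ t ∈ S, ∀ x ∈ E, autFun δ (s * x * s⁻¹) = t * autFun δ x * t⁻¹) :
    ∃ β ∈ F.autGroup S, ∀ x ∈ E, autFun β x = autFun δ x := by
  have hr := (isFullyAutomized_of_normalized c.pS c.sat hE.2.1).2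
  obtain ⟨g, hg, hge⟩ := (isReceptive_iff.1 hr).2 E _ (isMor_autFun (c.le hE) hδ) (img_autFun δ)
  have hle : S ≤ nExt S E (autFun δ) := fun s hs => by
    obtain ⟨t, ht, e⟩ := h s hs
    exact ⟨hs, c.nrm E hE hs, t, ht, fun x hx => by simpa [cj_apply] using e x hx⟩
  have hgS := hg.restrict hle
  obtain ⟨β, hβ, e⟩ := exists_aut hgS (hgS.img_eq_self fun x hx => hgS.mem hx)
  exact ⟨β, hβ, fun x hx => (e x (c.le hE hx)).trans (hge x hx)⟩

theorem sylow_ind (hE : F.IsEssential p E) : IsSylIn p (autInducedBy S E) (F.autGroup E) :=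
  (isFullyAutomized_iff.1 (isFullyAutomized_of_normalized c.pS c.sat hE.2.1).1).2

/-- A subgroup is invariant when the conjugates of the induced automorphisms preserve it and the
automorphisms of `S` preserve it. -/
theorem inv_of_stable (hE : F.IsEssential p E) {Y : Subgroup Ω} (hYE : Y ≤ E) (hYS : Inv F S Y)
    (h : ∀ γ ∈ F.autGroup E, ∀ s ∈ S, ∀ y ∈ Y, autFun γ (s * autFun γ⁻¹ y * s⁻¹) ∈ Y) :
    Inv F E Y := by
  have hES := c.le hE
  haveI : Finite E := finite_of_le hES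
  haveI := finite_mulAut (P := E) hES
  set Γ := F.autGroup E
  let St : Subgroup Γ :=
    { carrier := {γ | (∀ y ∈ Y, autFun (γ : MulAut E) y ∈ Y) ∧
        ∀ y ∈ Y, autFun (γ : MulAut E)⁻¹ y ∈ Y}
      one_mem' := ⟨fun y hy => by rw [OneMemClass.coe_one, autFun_one (hYE hy)]; exact hy,
        fun y hy => by rw [OneMemClass.coe_one, inv_one, autFun_one (hYE hy)]; exact hy⟩
      mul_mem' := fun {a b} ha hb => ⟨fun y hy => by
          rw [Subgroup.coe_mul, autFun_mul _ _ (hYE hy)]; exact ha.1 _ (hb.1 y hy),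
        fun y hy => by
          rw [Subgroup.coe_mul, mul_inv_rev, autFun_mul _ _ (hYE hy)]; exact hb.2 _ (ha.2 y hy)⟩
      inv_mem' := fun {a} ha => ⟨fun y hy => by rw [Subgroup.coe_inv]; exact ha.2 y hy,
        fun y hy => by rw [Subgroup.coe_inv, inv_inv]; exact ha.1 y hy⟩ }
  set R0 : Subgroup Γ := (autInducedBy S E).subgroupOf Γ
  obtain ⟨-, R, hR⟩ := (isFullyAutomized_of_normalized c.pS c.sat hE.2.1).1
  set K := Subgroup.normalClosure (R0 : Set Γ)
  have hRK : (R : Subgroup Γ) ≤ K := by rw [hR]; exact Subgroup.le_normalClosure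
  have hK : K ≤ St := by
    refine Subgroup.closure_le _ |>.2 fun x hx => ?_
    obtain ⟨r, hr, hconj⟩ := Group.mem_conjugatesOfSet_iff.1 hx
    obtain ⟨g, rfl⟩ := _root_.isConj_iff.1 hconj
    obtain ⟨s, hs, -, e⟩ := mem_autInducedBy.1 (show ((r : Γ) : MulAut E) ∈ autInducedBy S E from hr)
    obtain ⟨s', hs', -, e'⟩ := mem_autInducedBy.1
      ((autInducedBy S E).inv_mem (show ((r : Γ) : MulAut E) ∈ autInducedBy S E from hr))
    refine ⟨fun y hy => ?_, fun y hy => ?_⟩
    · have hy1 := autFun_mem (g : MulAut E)⁻¹ (hYE hy)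
      rw [Subgroup.coe_mul, Subgroup.coe_mul, Subgroup.coe_inv, autFun_mul _ _ (hYE hy),
        autFun_mul _ _ hy1, e _ hy1]
      exact h g g.2 s hs y hy
    · have hy1 := autFun_mem (g : MulAut E)⁻¹ (hYE hy)
      rw [Subgroup.coe_mul, Subgroup.coe_mul, Subgroup.coe_inv, mul_inv_rev, mul_inv_rev, inv_inv,
        ← mul_assoc, autFun_mul _ _ (hYE hy), autFun_mul _ _ hy1, e' _ hy1]
      exact h g g.2 s' hs' y hy
  have hN : Subgroup.normalizer ((R : Subgroup Γ) : Set Γ) ≤ St := by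
    have key : ∀ n ∈ Subgroup.normalizer ((R : Subgroup Γ) : Set Γ), ∀ y ∈ Y,
        autFun ((n : Γ) : MulAut E) y ∈ Y := by
      intro n hn y hy
      obtain ⟨β, hβ, hβe⟩ := c.exists_ext hE n.2 fun s hs => by
        obtain ⟨α, hα, e⟩ := exists_autInducedBy (P := E) hs (c.nrm E hE hs)
        have h1 : n * ⟨α, autInducedBy_le F hES hα⟩ * n⁻¹ ∈ (R : Subgroup Γ) :=
          (Subgroup.mem_normalizer_iff.1 hn _).1 (by rw [hR]; exact hα)
        rw [hR] at h1
        obtain ⟨t, ht, -, e'⟩ := mem_autInducedBy.1 (show _ ∈ autInducedBy S E from h1)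
        exact ⟨t, ht, (mul_conj_aut e e').1 rfl⟩
      rw [← hβe y (hYE hy)]
      exact hYS β hβ y hy
    intro n hn
    refine ⟨key n hn, fun y hy => ?_⟩
    have := key n⁻¹ (Subgroup.inv_mem _ hn) y hy
    rwa [Subgroup.coe_inv] at this
  intro α hα y hy
  have htop : (⊤ : Subgroup Γ) ≤ St := by
    rw [← Sylow.normalizer_sup_eq_top' (N := K) R hRK]
    exact sup_le hN hK
  exact (htop (Subgroup.mem_top (⟨α, hα⟩ : Γ))).1 y hy

/-- Inside an invariant subgroup centralised by `S`. -/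
theorem inv_of_fixed (hE : F.IsEssential p E) {X Y : Subgroup Ω} (hXE : X ≤ E) (hX : Inv F E X)
    (hfix : ∀ s ∈ S, ∀ x ∈ X, s * x * s⁻¹ = x) (hYX : Y ≤ X) (hYS : Inv F S Y) : Inv F E Y :=
  c.inv_of_stable hE (hYX.trans hXE) hYS fun γ hγ s hs y hy => by
    rw [hfix s hs _ (hX _ ((F.autGroup E).inv_mem hγ) y (hYX hy)),
      autFun_inv_right γ (hXE (hYX hy))]
    exact hy

/-- Between invariant subgroups on whose quotient `S` acts trivially. -/
theorem inv_of_quot (hE : F.IsEssential p E) {V U Y : Subgroup Ω} (hUE : U ≤ E) (hV : Inv F E V)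
    (hU : Inv F E U) (hc : ∀ s ∈ S, ∀ u ∈ U, ⁅s, u⁆ ∈ V) (hVY : V ≤ Y) (hYU : Y ≤ U)
    (hYS : Inv F S Y) : Inv F E Y :=
  c.inv_of_stable hE (hYU.trans hUE) hYS fun γ hγ s hs y hy => by
    have hu := hU _ ((F.autGroup E).inv_mem hγ) y (hYU hy)
    have h1 : ⁅s, autFun γ⁻¹ y⁆ ∈ E := (hVY.trans hYU |>.trans hUE) (hc s hs _ hu)
    rw [show s * autFun γ⁻¹ y * s⁻¹ = ⁅s, autFun γ⁻¹ y⁆ * autFun γ⁻¹ y by group,
      autFun_map_mul γ h1 (hUE hu), autFun_inv_right γ (hUE (hYU hy))]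
    exact Y.mul_mem (hVY (hV γ hγ _ (hc s hs _ hu))) hy

end Ctx

end CfsgLib.Fusion.RankThreeNormal
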