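import Cfsg.Agent.Lib.Fusion.RankThreeNormal.Ctx
import Cfsg.Agent.Lib.Spor.Fi22.Local.TransportEmbedded

/-!
# The image of an essential subgroup under an automorphism of the whole group
-/

set_option autoImplicit false
set_option linter.unusedSectionVars false
set_option linter.style.haveILetI false

namespace CfsgLib.Fusion.RankThreeNormal

open Cfsg Cfsg.FusionSystem CfsgLib.Fusion CfsgLib.Fusion.RankThree

universe u

variable {p : ℕ} [hp : Fact p.Prime] {Ω : Type u} [Group Ω] {S : Subgroup Ω} [Finite S]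
  {F : FusionSystem S} {E : Subgroup Ω}

/-- The automorphism group moved along an isomorphism of the system. -/
theorem exists_aut_congr {f : Ω → Ω} (hf : IsMor F E f) {E' : Subgroup Ω} (he' : img E f = E') :
    ∃ Φ : MulAut E ≃* MulAut E', (∀ α, ∀ x ∈ E, autFun (Φ α) (f x) = f (autFun α x)) ∧
      (∀ α, α ∈ F.autGroup E → Φ α ∈ F.autGroup E') ∧
      (∀ α', α' ∈ F.autGroup E' → Φ.symm α' ∈ F.autGroup E) ∧
      ∀ α, α ∈ Inn E ↔ Φ α ∈ Inn E' := by
  subst he'
  have hES := hf.le
  have hb : Function.Bijective (fun x : E => (⟨f x, mem_img_of_mem f x.2⟩ : img E f)) := by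
    refine ⟨fun x y e => Subtype.ext (hf.inj x.2 y.2 (congrArg Subtype.val e)), fun y => ?_⟩
    obtain ⟨x, hx, e⟩ := hf.mem_img.mp y.2
    exact ⟨⟨x, hx⟩, Subtype.ext e⟩
  let e : E ≃* img E f :=
    { Equiv.ofBijective _ hb with map_mul' := fun x y => Subtype.ext (hf.map_mul x.2 y.2) }
  have he : ∀ x : E, (e x : Ω) = f x := fun x => rfl
  have hΦ : ∀ (α : MulAut E), ∀ x ∈ E, autFun (MulAut.congr e α) (f x) = f (autFun α x) := by
    intro α x hx
    rw [autFun_of_mem _ (mem_img_of_mem f hx), autFun_of_mem α hx]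
    have h1 : e.symm ⟨f x, mem_img_of_mem f hx⟩ = ⟨x, hx⟩ := by
      rw [MulEquiv.symm_apply_eq]
      exact Subtype.ext (he ⟨x, hx⟩).symm
    show (e (α (e.symm ⟨f x, _⟩)) : Ω) = _
    rw [h1, he]
  obtain ⟨g, hg, hgl, hgr, hgi⟩ := hf.inverse
  have hES' : img E f ≤ S := hf.img_le
  refine ⟨MulAut.congr e, hΦ, fun α hα => ?_, fun α' hα' => ?_, fun α => ?_⟩
  · rw [autGroup_eq_set hES']
    have h1 : IsMor F (img E f) (f ∘ autFun α ∘ g) := by
      refine (hg.comp ((isMor_autFun hES hα).comp hf fun x hx => autFun_mem α hx) fun y hy => ?_)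
      rw [← hgi]
      exact mem_img_of_mem g hy
    refine h1.congr fun y hy => ?_
    obtain ⟨x, hx, rfl⟩ := hf.mem_img.1 hy
    rw [Function.comp_apply, Function.comp_apply, hgl x hx, hΦ α x hx]
  · rw [autGroup_eq_set hES]
    have h1 : IsMor F E (g ∘ autFun α' ∘ f) := by
      refine hf.comp ((isMor_autFun hES' hα').comp hg fun x hx => autFun_mem α' hx) fun y hy => ?_
      exact mem_img_of_mem f hy
    refine h1.congr fun x hx => ?_
    have h2 := hΦ ((MulAut.congr e).symm α') x hx
    rw [MulEquiv.apply_symm_apply] at h2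
    rw [Function.comp_apply, Function.comp_apply, h2, hgl _ (autFun_mem _ hx)]
  · constructor
    · intro hα
      obtain ⟨a, ha, hae⟩ := mem_inn.1 hα
      refine mem_inn.2 ⟨f a, mem_img_of_mem f ha, fun y hy => ?_⟩
      obtain ⟨x, hx, rfl⟩ := hf.mem_img.1 hy
      rw [hΦ α x hx, hae x hx]
      exact hf.map_conj ha hx
    · intro hα
      obtain ⟨b, hb', hbe⟩ := mem_inn.1 hα
      obtain ⟨a, ha, rfl⟩ := hf.mem_img.1 hb'
      refine mem_inn.2 ⟨a, ha, fun x hx => hf.inj (autFun_mem α hx)
        (E.mul_mem (E.mul_mem ha hx) (E.inv_mem ha)) ?_⟩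
      rw [← hΦ α x hx, hbe _ (mem_img_of_mem f hx)]
      exact (hf.map_conj ha hx).symm

/-- The image of an essential normal subgroup under an automorphism of `S` is essential. -/
theorem essential_image (_hS : IsPGroup p S) (hE : F.IsEssential p E)
    (hn : S ≤ Subgroup.normalizer (E : Set Ω)) {β : MulAut S} (hβ : β ∈ F.autGroup S) :
    F.IsEssential p (img E (autFun β)) := by
  have hES := hE.1.1
  have hf : IsMor F E (autFun β) := (isMor_autFun le_rfl hβ).restrict hES
  set E' := img E (autFun β)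
  obtain ⟨Φ, hΦ, hΦF, hΦF', hΦI⟩ := exists_aut_congr hf rfl
  have hE'S : E' ≤ S := hf.img_le
  have hconj : F.IsConj E E' := isConj_img hf
  have hn' : S ≤ Subgroup.normalizer (E' : Set Ω) := by
    have key : ∀ s ∈ S, ∀ y ∈ E', s * y * s⁻¹ ∈ E' := by
      intro s hs y hy
      obtain ⟨x, hx, rfl⟩ := hf.mem_img.1 hy
      have ht := autFun_mem β⁻¹ hs
      have h1 : autFun β (cj (autFun β⁻¹ s) x) = cj s (autFun β x) := by
        show autFun β (autFun β⁻¹ s * x * (autFun β⁻¹ s)⁻¹) = _
        have := (isMor_autFun le_rfl hβ).map_conj ht (hES hx)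
        rw [autFun_inv_right β hs] at this
        exact this
      rw [← cj_apply, ← h1]
      exact mem_img_of_mem _ ((Subgroup.mem_normalizer_iff.1 (hn ht) x).1 hx)
    intro s hs
    rw [Subgroup.mem_normalizer_iff]
    exact fun x => ⟨key s hs x,
      fun hx => by simpa [mul_assoc] using key _ (S.inv_mem hs) _ hx⟩
  refine ⟨centric_of_isConj hE.1 hconj, ⟨hE'S, fun Q _ => ?_⟩, inn_subgroupOf_normal F E', ?_⟩
  · haveI : Finite (normalizerIn S E') := finite_of_le normalizerIn_le
    refine Subgroup.card_le_of_le (normalizerIn_le.trans ?_)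
    exact fun s hs => mem_normalizerIn.2 ⟨hs, hn' hs⟩
  · obtain ⟨hN, Es, hEs⟩ := hE.2.2
    haveI := hN
    haveI := inn_subgroupOf_normal F E'
    haveI : Finite E := finite_of_le hES
    haveI : Finite E' := finite_of_le hE'S
    haveI := finite_mulAut (P := E) hES
    haveI := finite_mulAut (P := E') hE'S
    let φ : F.autGroup E ≃* F.autGroup E' :=
      { toFun := fun α => ⟨Φ α, hΦF α α.2⟩
        invFun := fun α => ⟨Φ.symm α, hΦF' α α.2⟩
        left_inv := fun α => Subtype.ext (Φ.symm_apply_apply _)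
        right_inv := fun α => Subtype.ext (Φ.apply_symm_apply _)
        map_mul' := fun a b => Subtype.ext (map_mul Φ _ _) }
    have hmap : ((Inn E).subgroupOf (F.autGroup E)).map φ.toMonoidHom =
        (Inn E').subgroupOf (F.autGroup E') := by
      ext α
      rw [Subgroup.mem_map_equiv, Subgroup.mem_subgroupOf, Subgroup.mem_subgroupOf]
      show Φ.symm (α : MulAut E') ∈ Inn E ↔ _
      rw [hΦI, MulEquiv.apply_symm_apply]
    exact ⟨_, CfsgLib.Spor.Fi22.Local.isStronglyPEmbedded_map
      (QuotientGroup.congr _ _ φ hmap) hEs⟩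

end CfsgLib.Fusion.RankThreeNormal
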