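import Cfsg.Agent.Lib.Fusion.RankThreeNormal.Tools

/-!
# Transvection groups on a space of dimension three with Sylow subgroups of order `p`
-/

set_option autoImplicit false
set_option linter.unusedSectionVars false
set_option linter.style.haveILetI false

namespace CfsgLib.Fusion.RankThreeNormal

universe u

variable {p : ℕ} [hp : Fact p.Prime]

/-- A `p`-element normalising a Sylow subgroup lies in it. -/
theorem mem_sylow_of_normalizes {G : Type*} [Group G] [Finite G] (P : Sylow p G) {x : G}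
    {k : ℕ} (hx : x ^ p ^ k = 1) (hn : x ∈ Subgroup.normalizer ((P : Subgroup G) : Set G)) :
    x ∈ (P : Subgroup G) := by
  have hz : IsPGroup p (Subgroup.zpowers x) := by
    rintro ⟨_, i, rfl⟩
    refine ⟨k, Subtype.ext ?_⟩
    show (x ^ i) ^ p ^ k = 1
    rw [← zpow_natCast, ← zpow_mul, mul_comm, zpow_mul, zpow_natCast, hx, one_zpow]
  have hsup : IsPGroup p ((P : Subgroup G) ⊔ Subgroup.zpowers x : Subgroup G) :=
    P.2.to_sup_of_normal_left' hz (Subgroup.zpowers_le.2 hn)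
  exact (P.3 hsup le_sup_left).le (Subgroup.mem_sup_right (Subgroup.mem_zpowers x))

/-- A transvection on `W`. -/
structure Transv {W : Type u} [CommGroup W] (T : MulAut W) (a : W) (Z : Subgroup W) : Prop where
  ctr : ∀ w, ∃ i : ℕ, T w = w * a ^ i
  fix : ∀ w, T w = w ↔ w ∈ Z

variable {W : Type u} [CommGroup W] {Γ : Type*} [Group Γ] [Finite Γ] {σ : Γ →* MulAut W}
  {R : Sylow p Γ} {τ : Γ} {a : W} {Z : Subgroup W}

theorem pow_apply_transv {T : MulAut W} (ha : T a = a) {w : W} {i : ℕ} (hw : T w = w * a ^ i)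
    (n : ℕ) : (T ^ n) w = w * a ^ (n * i) := by
  induction n with
  | zero => simp
  | succ n ih =>
    rw [pow_succ', MulAut.mul_apply, ih, map_mul, map_pow, ha, hw, mul_assoc, ← pow_add,
      Nat.succ_mul, add_comm i]

theorem app_mul_pow (f : MulAut W) (x y : W) (n : ℕ) : f (x * y ^ n) = f x * f y ^ n := by
  rw [map_mul, map_pow]

variable [Finite W] (hexp : ∀ w : W, w ^ p = 1) (hτ : τ ∈ (R : Subgroup Γ))
  (hR : ∀ r ∈ (R : Subgroup Γ), ∃ n : ℕ, σ r = σ τ ^ n) (hT : Transv (σ τ) a Z) (ha : a ∈ Z)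
  (hne : Z ≠ ⊤)

include hexp hτ hR hT ha hne

set_option maxHeartbeats 800000 in
/-- A conjugate of the axis containing the centre is the axis. -/
theorem axis_eq (γ : Γ) (hγ : a ∈ Z.map (σ γ).toMonoidHom) : Z.map (σ γ).toMonoidHom = Z := by
  have haT : σ τ a = a := (hT.fix a).2 ha
  set τ' := γ * τ * γ⁻¹ with hτ'
  set a' := σ γ a with ha'
  set Z' := Z.map (σ γ).toMonoidHom with hZ'
  have happ : ∀ w, σ τ' w = σ γ (σ τ ((σ γ).symm w)) := fun w => by
    rw [hτ', map_mul, map_mul, map_inv, MulAut.mul_apply, MulAut.mul_apply, MulAut.inv_apply]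
  have hT' : Transv (σ τ') a' Z' := by
    refine ⟨fun w => ?_, fun w => ?_⟩
    · obtain ⟨i, hi⟩ := hT.ctr ((σ γ).symm w)
      exact ⟨i, by rw [happ, hi, map_mul, map_pow, MulEquiv.apply_symm_apply]⟩
    · rw [happ, ← MulEquiv.eq_symm_apply (σ γ), hT.fix, hZ', Subgroup.mem_map_equiv]
  have ha'a : σ τ' a = a := (hT'.fix a).2 hγ
  have ha'' : σ τ' a' = a' := (hT'.fix a').2 ⟨a, ha, rfl⟩
  have hτp : ∀ w, (σ τ ^ p) w = w := fun w => by
    obtain ⟨i, hi⟩ := hT.ctr w
    rw [pow_apply_transv haT hi, pow_mul, hexp, one_pow, mul_one]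
  -- the conjugate of the transvection has the same centre
  set δ := τ' * τ * τ'⁻¹ with hδ
  have happδ : ∀ w, σ δ w = σ τ' (σ τ ((σ τ').symm w)) := fun w => by
    rw [hδ, map_mul, map_mul, map_inv, MulAut.mul_apply, MulAut.mul_apply, MulAut.inv_apply]
  have hδc : ∀ w, ∃ i : ℕ, σ δ w = w * a ^ i := fun w => by
    obtain ⟨i, hi⟩ := hT.ctr ((σ τ').symm w)
    exact ⟨i, by rw [happδ, hi, map_mul, map_pow, ha'a, MulEquiv.apply_symm_apply]⟩
  have hδa : σ δ a = a := by
    rw [happδ, show (σ τ').symm a = a by rw [MulEquiv.symm_apply_eq, ha'a], haT, ha'a]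
  have hcomm : σ δ * σ τ = σ τ * σ δ := MulEquiv.ext fun w => by
    obtain ⟨i, hi⟩ := hT.ctr w
    obtain ⟨j, hj⟩ := hδc w
    rw [MulAut.mul_apply, MulAut.mul_apply, hi, hj, app_mul_pow, app_mul_pow, hδa, haT,
      hi, hj, mul_right_comm]
  -- it is therefore a power of the transvection
  obtain ⟨n, hn⟩ : ∃ n : ℕ, σ δ = σ τ ^ n := by
    set f := σ.rangeRestrict
    have hf : Function.Surjective f := σ.rangeRestrict_surjective
    set P := R.mapSurjective hf
    have hmem : ∀ y : σ.range, y ∈ (P : Subgroup σ.range) ↔ ∃ n : ℕ, (y : MulAut W) = σ τ ^ n := by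
      intro y
      rw [Sylow.coe_mapSurjective, Subgroup.mem_map]
      constructor
      · rintro ⟨r, hr, rfl⟩
        exact hR r hr
      · rintro ⟨n, hn⟩
        exact ⟨τ ^ n, Subgroup.pow_mem _ hτ n, Subtype.ext (by rw [hn, map_pow]; rfl)⟩
    obtain ⟨k, hk⟩ := R.2 ⟨τ, hτ⟩
    have hk' : τ ^ p ^ k = 1 := congrArg Subtype.val hk
    have hmemδ : f δ ∈ (P : Subgroup σ.range) := by
      refine mem_sylow_of_normalizes P (k := k) ?_ ?_
      · rw [← map_pow, hδ, conj_pow, hk']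
        simp
      · have hδn : ∀ m : ℕ, σ δ * σ τ ^ m = σ τ ^ m * σ δ := fun m =>
          ((show Commute (σ δ) (σ τ) from hcomm).pow_right m).eq
        rw [Subgroup.mem_normalizer_iff]
        intro y
        rw [hmem, hmem]
        constructor
        · rintro ⟨m, hm⟩
          exact ⟨m, by
            rw [Subgroup.coe_mul, Subgroup.coe_mul, Subgroup.coe_inv, hm]
            show σ δ * σ τ ^ m * (σ δ)⁻¹ = _
            rw [hδn, mul_inv_cancel_right]⟩
        · rintro ⟨m, hm⟩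
          refine ⟨m, ?_⟩
          rw [Subgroup.coe_mul, Subgroup.coe_mul, Subgroup.coe_inv] at hm
          have hm' : σ δ * (y : MulAut W) * (σ δ)⁻¹ = σ τ ^ m := hm
          rw [mul_inv_eq_iff_eq_mul, ← hδn] at hm'
          exact mul_left_cancel hm'
    exact (hmem _).1 hmemδ
  obtain ⟨m, hm⟩ := hT.ctr a'
  have hval : σ δ a' = a' * a ^ m := by
    rw [happδ, show (σ τ').symm a' = a' by rw [MulEquiv.symm_apply_eq, ha''], hm, map_mul, map_pow,
      ha'a, ha'']
  have hcomm' : σ τ' * σ τ = σ τ * σ τ' := by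
    by_cases hz : a' ∈ Z
    · refine MulEquiv.ext fun w => ?_
      obtain ⟨i, hi⟩ := hT.ctr w
      obtain ⟨j, hj⟩ := hT'.ctr w
      rw [MulAut.mul_apply, MulAut.mul_apply, hi, hj, app_mul_pow, app_mul_pow, ha'a,
        (hT.fix a').2 hz, hi, hj, mul_right_comm]
    · have h2 : (σ τ ^ n) a' = σ τ a' := by rw [← hn, hval, hm]
      rw [pow_apply_transv haT hm, hm, mul_right_inj] at h2
      have hm0 : a ^ m ≠ 1 := fun h => hz ((hT.fix a').1 (by rw [hm, h, mul_one]))
      have ha1 : a ≠ 1 := fun h => hm0 (by rw [h, one_pow])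
      rw [pow_eq_pow_iff_cast (hexp a) ha1, Nat.cast_mul] at h2
      have hn1 : (n : ZMod p) = ((1 : ℕ) : ZMod p) := by
        have hmz : (m : ZMod p) ≠ 0 := fun h => hm0 ((pow_eq_one_iff_dvd (hexp a) ha1).2
          ((ZMod.natCast_eq_zero_iff m p).1 h))
        rw [Nat.cast_one]
        exact mul_right_cancel₀ hmz (by rw [one_mul]; exact h2)
      have hδτ : σ δ = σ τ := by
        refine MulEquiv.ext fun w => ?_
        obtain ⟨i, hi⟩ := hT.ctr w
        rw [hn, pow_apply_transv haT hi, hi, pow_mul]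
        congr 2
        rcases eq_or_ne a 1 with h | h
        · rw [h, one_pow]
        · have := (pow_eq_pow_iff_cast (hexp a) h).2 hn1
          rwa [pow_one] at this
      have h3 : σ τ' * σ τ * (σ τ')⁻¹ = σ τ := by
        rw [← map_inv, ← map_mul, ← map_mul, ← hδ, hδτ]
      rwa [mul_inv_eq_iff_eq_mul] at h3
  have hfa' : σ τ a' = a' := by
    by_contra hne'
    have hmv : ∀ w, σ τ' w = w := fun w => by
      obtain ⟨i, hi⟩ := hT.ctr w
      obtain ⟨j, hj⟩ := hT'.ctr w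
      have h1 := DFunLike.congr_fun hcomm' w
      rw [MulAut.mul_apply, MulAut.mul_apply, hi, hj, app_mul_pow, app_mul_pow, ha'a,
        hj, hi, hm, mul_pow, ← mul_assoc, ← pow_mul] at h1
      rw [mul_right_comm w (a' ^ j)] at h1
      have h4 : a ^ (m * j) = 1 := left_eq_mul.mp h1
      have ha1 : a ≠ 1 := fun h => hne' (by rw [hm, h, one_pow, mul_one])
      rw [pow_eq_one_iff_dvd (hexp a) ha1, hp.1.dvd_mul] at h4
      rcases h4 with h4 | h4
      · exact absurd (by rw [hm, (pow_eq_one_iff_dvd (hexp a) ha1).2 h4, mul_one]) hne'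
      · obtain ⟨d, rfl⟩ := h4
        rw [hj, pow_mul, hexp, one_pow, mul_one]
    refine hne (eq_top_iff.2 fun w _ => ?_)
    have h5 := (hT'.fix (σ γ w)).1 (hmv _)
    exact (Subgroup.mem_map_iff_mem (f := (σ γ).toMonoidHom) (σ γ).injective).1 h5
  -- commuting, so a power
  obtain ⟨n', hn'⟩ : ∃ n : ℕ, σ τ' = σ τ ^ n := by
    have h1 : σ δ = σ τ := by
      rw [hδ, map_mul, map_mul, map_inv, hcomm', mul_inv_cancel_right]
    set f := σ.rangeRestrict
    have hf : Function.Surjective f := σ.rangeRestrict_surjective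
    set P := R.mapSurjective hf
    obtain ⟨k, hk⟩ := R.2 ⟨τ, hτ⟩
    have hk' : τ ^ p ^ k = 1 := congrArg Subtype.val hk
    have hmem : f τ' ∈ (P : Subgroup σ.range) := by
      refine mem_sylow_of_normalizes P (k := k) ?_ ?_
      · rw [← map_pow, hτ', conj_pow, hk']
        simp
      · refine Subgroup.mem_normalizer_iff_map_conj_eq.2 (Subgroup.eq_of_le_of_card_ge ?_
          (Subgroup.card_map_of_injective (MulAut.conj _).injective).ge)
        rintro _ ⟨y, hy, rfl⟩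
        rw [Sylow.coe_mapSurjective] at hy ⊢
        obtain ⟨r, hr, rfl⟩ := hy
        obtain ⟨i, hi⟩ := hR r hr
        refine ⟨r, hr, Subtype.ext ?_⟩
        show σ r = σ τ' * σ r * (σ τ')⁻¹
        rw [hi, ((show Commute (σ τ') (σ τ) from hcomm').pow_right i).eq, mul_inv_cancel_right]
    rw [Sylow.coe_mapSurjective] at hmem
    obtain ⟨r, hr, hre⟩ := hmem
    obtain ⟨i, hi⟩ := hR r hr
    exact ⟨i, by rw [← hi]; exact (congrArg Subtype.val hre).symm⟩
  have hndvd : ¬ p ∣ n' := by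
    rintro ⟨d, rfl⟩
    refine hne (eq_top_iff.2 fun w _ => ?_)
    have h1 : σ τ' (σ γ w) = σ γ w := by
      rw [hn']
      obtain ⟨i, hi⟩ := hT.ctr (σ γ w)
      rw [pow_apply_transv haT hi, mul_assoc, pow_mul, hexp, one_pow, mul_one]
    exact (Subgroup.mem_map_iff_mem (f := (σ γ).toMonoidHom) (σ γ).injective).1
      ((hT'.fix _).1 h1)
  ext w
  rw [← hT'.fix, hn', ← hT.fix]
  obtain ⟨i, hi⟩ := hT.ctr w
  rw [pow_apply_transv haT hi, hi, mul_eq_left, mul_eq_left]
  rcases eq_or_ne a 1 with h | h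
  · simp [h]
  rw [pow_eq_one_iff_dvd (hexp a) h, pow_eq_one_iff_dvd (hexp a) h, hp.1.dvd_mul, or_iff_right hndvd]

set_option maxHeartbeats 800000 in
/-- Some nontrivial element of the axis stays in the axis under the whole group. -/
theorem exists_fixed_line (hW : Nat.card W = p ^ 3) (hZ : Nat.card Z = p ^ 2) (ha1 : a ≠ 1) :
    ∃ c ≠ (1 : W), ∀ γ, σ γ c ∈ Z := by
  have hcard : ∀ γ : Γ, Nat.card (Z.map (σ γ).toMonoidHom) = p ^ 2 := fun γ => by
    rw [Subgroup.card_map_of_injective (σ γ).injective, hZ]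
  have hbig : ∀ A B : Subgroup W, p ^ 3 < Nat.card A * Nat.card B → ∃ c ∈ A, c ∈ B ∧ c ≠ 1 := by
    intro A B h
    by_contra! hcon
    have hinj : Function.Injective fun q : A × B => (q.1 : W) * q.2 := by
      rintro ⟨x, y⟩ ⟨x', y'⟩ e
      have h1 : (x' : W)⁻¹ * (x : W) = (y' : W) * (y : W)⁻¹ := by
        rw [eq_mul_inv_iff_mul_eq, mul_assoc]
        have e' : (x : W) * y = x' * y' := e
        rw [e', inv_mul_cancel_left]
      have h2 := hcon _ (A.mul_mem (A.inv_mem x'.2) x.2) (h1 ▸ B.mul_mem y'.2 (B.inv_mem y.2))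
      have h3 : (x : W) = x' := (inv_mul_eq_one.1 h2).symm
      have h4 : (y : W) = y' := by
        have e' : (x : W) * y = x' * y' := e
        rw [h3] at e'
        exact mul_left_cancel e'
      exact Prod.ext (Subtype.ext h3) (Subtype.ext h4)
    have := Nat.card_le_card_of_injective _ hinj
    rw [Nat.card_prod, hW] at this
    omega
  by_cases hall : ∀ γ, Z.map (σ γ).toMonoidHom = Z
  · exact ⟨a, ha1, fun γ => (hall γ).le ⟨a, ha, rfl⟩⟩
  push Not at hall
  obtain ⟨γ, hγ⟩ := hall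
  set Z' := Z.map (σ γ).toMonoidHom
  set a' := σ γ a
  have haT : σ τ a = a := (hT.fix a).2 ha
  have haZ' : a ∉ Z' := fun h => hγ (axis_eq hexp hτ hR hT ha hne γ h)
  have ha'Z : a' ∉ Z := fun h => by
    have h1 := axis_eq hexp hτ hR hT ha hne γ⁻¹ ⟨a', h, by
      show σ γ⁻¹ (σ γ a) = a
      rw [← MulAut.mul_apply, ← map_mul, inv_mul_cancel, map_one, MulAut.one_apply]⟩
    refine hγ ?_
    show Z.map (σ γ).toMonoidHom = Z
    conv_lhs => rw [← h1]
    rw [Subgroup.map_map]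
    convert Subgroup.map_id Z
    ext w
    show σ γ (σ γ⁻¹ w) = w
    rw [← MulAut.mul_apply, ← map_mul, mul_inv_cancel, map_one, MulAut.one_apply]
  obtain ⟨c, hc, hc', hc1⟩ := hbig Z Z' (by
    rw [hZ, hcard, ← pow_add]
    exact Nat.pow_lt_pow_right hp.1.one_lt (by norm_num))
  refine ⟨c, hc1, fun δ => ?_⟩
  suffices h : c ∈ Z.map (σ δ⁻¹).toMonoidHom by
    obtain ⟨z, hz, rfl⟩ := h
    show σ δ (σ δ⁻¹ z) ∈ Z
    rw [← MulAut.mul_apply, ← map_mul, mul_inv_cancel, map_one, MulAut.one_apply]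
    exact hz
  set D := Z.map (σ δ⁻¹).toMonoidHom
  -- a point of the plane of the two centres
  set X := Subgroup.zpowers a ⊔ Subgroup.zpowers a'
  have ha'1 : a' ≠ 1 := fun h => ha1 ((σ γ).injective (h.trans (map_one _).symm))
  have hX : Nat.card X = p ^ 2 := by
    rw [card_sup_comm (fun k _ => mul_comm _ _) (hexp a') fun h => ha'Z
      (Subgroup.zpowers_le.2 ha h), card_zpowers_prime (hexp a) ha1, pow_two]
  obtain ⟨q, hqX, hqD, hq1⟩ := hbig X D (by
    rw [hX, hcard, ← pow_add]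
    exact Nat.pow_lt_pow_right hp.1.one_lt (by norm_num))
  obtain ⟨x, hx, y, hy, rfl⟩ := Subgroup.mem_sup.1 hqX
  obtain ⟨i, rfl⟩ := exists_pow_of_zpowers (hexp a) hx
  obtain ⟨k, rfl⟩ := exists_pow_of_zpowers (hexp a') hy
  by_cases hk : p ∣ k
  · obtain ⟨d, rfl⟩ := hk
    rw [pow_mul, hexp, one_pow, mul_one] at hqD hq1
    have hi : ¬ p ∣ i := fun h => hq1 ((pow_eq_one_iff_dvd (hexp a) ha1).2 h)
    have haD : a ∈ D := by
      by_contra h
      exact hi (dvd_of_pow_mem (by rw [hexp]; exact D.one_mem) h hqD)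
    rw [show D = Z from axis_eq hexp hτ hR hT ha hne _ haD]
    exact hc
  obtain ⟨l, -, hl⟩ := Nat.exists_mul_mod_eq_one_of_coprime
    (Nat.coprime_comm.1 (hp.1.coprime_iff_not_dvd.2 hk)) hp.1.one_lt
  have hql : a' * a ^ (i * l) ∈ D := by
    have h1 := D.pow_mem hqD l
    rwa [mul_pow, ← pow_mul, ← pow_mul, mul_comm (a ^ (i * l)), ← Nat.div_add_mod (k * l) p, hl,
      pow_add, pow_mul a', hexp, one_pow, one_mul, pow_one] at h1
  obtain ⟨m, hm⟩ := hT.ctr a'
  obtain ⟨r, hr⟩ : ∃ r : ℕ, (σ τ ^ r) a' = a' * a ^ (i * l) := by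
    have hm0 : ¬ p ∣ m := fun h => ha'Z ((hT.fix a').1 (by
      rw [hm, (pow_eq_one_iff_dvd (hexp a) ha1).2 h, mul_one]))
    refine ⟨((i * l : ℕ) / (m : ZMod p) : ZMod p).val, ?_⟩
    rw [pow_apply_transv haT hm, mul_right_inj, pow_eq_pow_iff_cast (hexp a) ha1, Nat.cast_mul,
      ZMod.natCast_zmod_val, div_mul_cancel₀]
    exact fun h => hm0 ((ZMod.natCast_eq_zero_iff m p).1 h)
  set γ' := τ ^ r * γ
  have hγ'a : σ γ' a ∈ D := by
    rw [map_mul, map_pow, MulAut.mul_apply, hr]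
    exact hql
  have h1 : a ∈ Z.map (σ (γ'⁻¹ * δ⁻¹)).toMonoidHom := by
    obtain ⟨z, hz, hze⟩ := hγ'a
    refine ⟨z, hz, ?_⟩
    show σ (γ'⁻¹ * δ⁻¹) z = a
    rw [map_mul, MulAut.mul_apply, show σ δ⁻¹ z = σ γ' a from hze, ← MulAut.mul_apply, ← map_mul,
      inv_mul_cancel, map_one, MulAut.one_apply]
  have h2 := axis_eq hexp hτ hR hT ha hne _ h1
  have h3 : D = Z.map (σ γ').toMonoidHom := by
    conv_rhs => rw [← h2]
    rw [Subgroup.map_map]
    show Z.map _ = _
    congr 1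
    ext w
    show σ δ⁻¹ w = σ γ' (σ (γ'⁻¹ * δ⁻¹) w)
    rw [← MulAut.mul_apply, ← map_mul, mul_inv_cancel_left]
  rw [h3]
  obtain ⟨z, hz, hze⟩ := hc'
  refine ⟨z, hz, ?_⟩
  show σ (τ ^ r * γ) z = c
  rw [map_mul, MulAut.mul_apply, show σ γ z = c from hze, map_pow]
  obtain ⟨j, hj⟩ := hT.ctr c
  rw [pow_apply_transv haT hj]
  have : a ^ j = 1 := by
    have h5 := (hT.fix c).2 hc
    rwa [hj, mul_eq_left] at h5
  rw [mul_comm r, pow_mul, this, one_pow, mul_one]

end CfsgLib.Fusion.RankThreeNormal
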