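import Cfsg.Agent.Lib.Fusion.RankThreeNormal.Index
import Cfsg.Agent.Lib.Fusion.RankThreeNormal.Image
import Cfsg.Agent.Lib.Fusion.RankThreeNormal.Line

/-!
# Elements of the automizers and small structural consequences
-/

set_option autoImplicit false
set_option linter.unusedSectionVars false
set_option linter.style.haveILetI false

namespace CfsgLib.Fusion.RankThreeNormal

open Cfsg Cfsg.FusionSystem CfsgLib.Fusion CfsgLib.Fusion.RankThree
open scoped commutatorElement

universe u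

variable {p : ℕ} [hp : Fact p.Prime] {Ω : Type u} [Group Ω] {S : Subgroup Ω} [Finite S]
  {F : FusionSystem S} {E : Subgroup Ω}

namespace Ctx

variable (c : Ctx F p)
include c

/-- Conjugation by an element of `S` as an automorphism of an essential subgroup. -/
theorem exists_conjAut (hE : F.IsEssential p E) {s : Ω} (hs : s ∈ S) :
    ∃ α ∈ F.autGroup E, ∀ x ∈ E, autFun α x = s * x * s⁻¹ := by
  obtain ⟨α, hα, e⟩ := exists_autInducedBy (P := E) hs (c.nrm E hE hs)
  exact ⟨α, autInducedBy_le F (c.le hE) hα, e⟩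

theorem mem_dec (hE : F.IsEssential p E) {z : Ω} (hz : z ∈ S) (hzE : z ∉ E) {s : Ω} (hs : s ∈ S) :
    ∃ e ∈ E, ∃ i : ℕ, s = e * z ^ i :=
  exists_dec c.pS le_rfl (c.le hE) (c.card hE) hz hzE hs

/-- An automorphism commuting with the action of an outer element is compatible with `S`. -/
theorem compatible_of_commute (hE : F.IsEssential p E) {z : Ω} (hz : z ∈ S) (hzE : z ∉ E)
    {δ : MulAut E} (hcomm : ∀ x ∈ E, autFun δ (z * x * z⁻¹) = z * autFun δ x * z⁻¹) :
    ∀ s ∈ S, ∃ t ∈ S, ∀ x ∈ E, autFun δ (s * x * s⁻¹) = t * autFun δ x * t⁻¹ := by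
  intro s hs
  obtain ⟨e, he, i, rfl⟩ := c.mem_dec hE hz hzE hs
  refine ⟨autFun δ e * z ^ i, S.mul_mem (c.le hE (autFun_mem δ he)) (S.pow_mem hz i),
    fun x hx => ?_⟩
  have hn := c.nrm' hE
  have hpow : ∀ j : ℕ, z ^ j * x * (z ^ j)⁻¹ ∈ E ∧
      autFun δ (z ^ j * x * (z ^ j)⁻¹) = z ^ j * autFun δ x * (z ^ j)⁻¹ := by
    intro j
    induction j with
    | zero => simpa using hx
    | succ j ih =>
      have h1 : z ^ (j + 1) * x * (z ^ (j + 1))⁻¹ = z * (z ^ j * x * (z ^ j)⁻¹) * z⁻¹ := by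
        rw [pow_succ']; group
      rw [h1]
      exact ⟨hn z hz _ ih.1, by rw [hcomm _ ih.1, ih.2, pow_succ']; group⟩
  obtain ⟨h1, h2⟩ := hpow i
  rw [show e * z ^ i * x * (e * z ^ i)⁻¹ = e * (z ^ i * x * (z ^ i)⁻¹) * e⁻¹ by group,
    (isMor_autFun_map δ) he h1, h2]
  group
where
  isMor_autFun_map (δ : MulAut E) {a b : Ω} (ha : a ∈ E) (hb : b ∈ E) :
      autFun δ (a * b * a⁻¹) = autFun δ a * autFun δ b * (autFun δ a)⁻¹ := by
    rw [autFun_map_mul δ (E.mul_mem ha hb) (E.inv_mem ha), autFun_map_mul δ ha hb,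
      autFun_inv_map δ ha]

/-- A `p`-element compatible with `S` is induced by `S`. -/
theorem exists_conj_of_compatible (hE : F.IsEssential p E) {δ : MulAut E}
    (hδ : δ ∈ F.autGroup E) {k : ℕ} (hk : δ ^ p ^ k = 1)
    (h : ∀ s ∈ S, ∃ t ∈ S, ∀ x ∈ E, autFun δ (s * x * s⁻¹) = t * autFun δ x * t⁻¹) :
    ∃ y ∈ S, ∀ x ∈ E, autFun δ x = y * x * y⁻¹ := by
  have hES := c.le hE
  haveI : Finite E := finite_of_le hES
  haveI := finite_mulAut (P := E) hES
  obtain ⟨-, R, hR⟩ := (isFullyAutomized_of_normalized c.pS c.sat hE.2.1).1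
  have hmem : (⟨δ, hδ⟩ : F.autGroup E) ∈ (R : Subgroup (F.autGroup E)) := by
    refine mem_sylow_of_normalizes R (k := k) (Subtype.ext (by simpa using hk)) ?_
    refine Subgroup.mem_normalizer_iff_map_conj_eq.2 (Subgroup.eq_of_le_of_card_ge ?_
      (Subgroup.card_map_of_injective (MulAut.conj _).injective).ge)
    rintro _ ⟨r, hr, rfl⟩
    rw [hR] at hr ⊢
    obtain ⟨s, hs, hsn, e⟩ := mem_autInducedBy.1 (show (r : MulAut E) ∈ autInducedBy S E from hr)
    obtain ⟨t, ht, e'⟩ := h s hs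
    obtain ⟨α, hα, hαe⟩ := exists_autInducedBy (P := E) ht (c.nrm E hE ht)
    show δ * (r : MulAut E) * δ⁻¹ ∈ autInducedBy S E
    rw [(mul_conj_aut e hαe).2 fun x hx => by simpa [cj_apply] using e' x hx]
    exact hα
  rw [hR] at hmem
  obtain ⟨y, hy, -, e⟩ := mem_autInducedBy.1 (show δ ∈ autInducedBy S E from hmem)
  exact ⟨y, hy, e⟩

theorem pow_conjAut_eq_one (hE : F.IsEssential p E) {z : Ω} (hz : z ∈ S) {α : MulAut E}
    (hα : ∀ x ∈ E, autFun α x = z * x * z⁻¹) : ∃ k, α ^ p ^ k = 1 := by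
  obtain ⟨β, hβ, e⟩ := exists_autInducedBy (P := E) hz (c.nrm E hE hz)
  rw [show α = β from autFun_inj fun x hx => by rw [hα x hx, e x hx]; rfl]
  obtain ⟨k, hk⟩ := isPGroup_autInducedBy c.pS ⟨β, hβ⟩
  exact ⟨k, congrArg (fun w : autInducedBy S E => (w : MulAut E)) hk⟩

/-- Two commuting elements of order `p` centralising a subgroup force it to be cyclic. -/
theorem cyclic_of_two {D : Subgroup Ω} (hD : D ≤ S) {u v : Ω} (hu : u ∈ S) (hv : v ∈ S)
    (hup : u ^ p = 1) (hvp : v ^ p = 1) (huv : u * v = v * u)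
    (hDu : ∀ d ∈ D, u * d = d * u) (hDv : ∀ d ∈ D, v * d = d * v) (huD : u ∉ D)
    (hvD : v ∉ D ⊔ Subgroup.zpowers u) : ∃ d ∈ D, D = Subgroup.zpowers d := by
  haveI : Finite D := finite_of_le hD
  set M := D ⊔ Subgroup.zpowers u
  set L := M ⊔ Subgroup.zpowers v
  have hMS : M ≤ S := sup_le hD (Subgroup.zpowers_le.2 hu)
  have hLS : L ≤ S := sup_le hMS (Subgroup.zpowers_le.2 hv)
  have hMv : ∀ m ∈ M, v * m = m * v := fun m hm => by
    have h : M ≤ Subgroup.centralizer {v} := by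
      refine sup_le (fun d hd => ?_) (Subgroup.zpowers_le.2 ?_) <;>
        rw [Subgroup.mem_centralizer_singleton_iff]
      · exact (hDv d hd).symm
      · exact huv
    exact (Subgroup.mem_centralizer_singleton_iff.1 (h hm)).symm
  have hcard : Nat.card L = Nat.card D * p * p := by
    rw [card_sup_comm hMv hvp hvD, card_sup_comm hDu hup huD]
  have hphi : phi D ≤ D := phi_le D
  set N : Subgroup S := (phi D).subgroupOf S
  have hNc : Nat.card N = Nat.card (phi D) :=
    Nat.card_congr (Subgroup.subgroupOfEquivOfLe (hphi.trans hD)).toEquiv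
  have hn : ∀ l ∈ L, ∀ k ∈ phi D, l * k * l⁻¹ ∈ phi D := by
    have h : L ≤ Subgroup.normalizer (phi D : Set Ω) := by
      have hc : ∀ w : Ω, (∀ d ∈ D, w * d = d * w) → w ∈ Subgroup.normalizer (phi D : Set Ω) := by
        intro w hw
        refine Subgroup.centralizer_le_normalizer _ (Subgroup.mem_centralizer_iff.2 fun d hd => ?_)
        exact (hw d (hphi hd)).symm
      refine sup_le (sup_le (fun d hd => ?_) (Subgroup.zpowers_le.2 (hc u hDu)))
        (Subgroup.zpowers_le.2 (hc v hDv))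
      haveI : Finite (phi D) := finite_of_le (hphi.trans hD)
      refine Subgroup.mem_normalizer_iff_map_conj_eq.2 (Subgroup.eq_of_le_of_card_ge ?_
        (Subgroup.card_map_of_injective (MulAut.conj d).injective).ge)
      rintro _ ⟨_, ⟨k, hk, rfl⟩, rfl⟩
      exact ⟨⟨d, hd⟩ * k * (⟨d, hd⟩ : D)⁻¹,
        (inferInstance : (frattini ↥D).Normal).conj_mem k hk _, rfl⟩
    exact fun l hl k hk => (Subgroup.mem_normalizer_iff.1 (h hl) k).1 hk
  have hDp : IsPGroup p D := isPGroup_of_le hD c.pS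
  have hgen : L = Subgroup.closure ((D : Set Ω) ∪ {u, v}) := by
    refine le_antisymm (sup_le (sup_le (fun d hd => Subgroup.subset_closure (Or.inl hd))
      (Subgroup.zpowers_le.2 (Subgroup.subset_closure (Or.inr (Or.inl rfl)))))
      (Subgroup.zpowers_le.2 (Subgroup.subset_closure (Or.inr (Or.inr rfl))))) ?_
    rw [Subgroup.closure_le]
    rintro w (hw | rfl | rfl)
    · exact Subgroup.mem_sup_left (Subgroup.mem_sup_left hw)
    · exact Subgroup.mem_sup_left (Subgroup.mem_sup_right (Subgroup.mem_zpowers _))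
    · exact Subgroup.mem_sup_right (Subgroup.mem_zpowers _)
  have hset : ((D : Set Ω) ∪ {u, v}) ⊆ L := by rw [hgen]; exact Subgroup.subset_closure
  have hcomm : ∀ a ∈ L, ∀ b ∈ L, ⁅a, b⁆ ∈ phi D := by
    have h0 : ∀ a ∈ ((D : Set Ω) ∪ {u, v}), ∀ b ∈ ((D : Set Ω) ∪ {u, v}), ⁅a, b⁆ ∈ phi D := by
      have h1 : ∀ {a b : Ω}, a * b = b * a → ⁅a, b⁆ ∈ phi D := fun {a b} h => by
        rw [commutatorElement_eq_one_iff_mul_comm.2 h]; exact (phi D).one_mem
      rintro a (ha | rfl | rfl) b (hb | rfl | rfl)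
      · exact comm_mem_phi hDp ha hb
      · exact h1 (hDu a ha).symm
      · exact h1 (hDv a ha).symm
      · exact h1 (hDu b hb)
      · exact h1 rfl
      · exact h1 huv
      · exact h1 (hDv b hb)
      · exact h1 huv.symm
      · exact h1 rfl
    intro a ha b hb
    refine comm_swap_mem (comm_mem_closure hn hset (Q := {a}) ?_ (hgen ▸ hb) rfl)
    intro x hx y hy
    rw [Set.mem_singleton_iff.1 hy]
    exact comm_swap_mem (comm_mem_closure hn hset (Q := {x})
      (fun w hw z hz => by rw [Set.mem_singleton_iff.1 hz]; exact h0 w hw x hx) (hgen ▸ ha) rfl)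
  have hpow : ∀ a ∈ L, a ^ p ∈ phi D := by
    have hcl : ∀ a ∈ Subgroup.closure ((D : Set Ω) ∪ {u, v}), a ∈ L ∧ a ^ p ∈ phi D := by
      intro a ha
      induction ha using Subgroup.closure_induction with
      | mem x hx =>
        refine ⟨hset hx, ?_⟩
        rcases hx with hx | rfl | rfl
        · exact pow_mem_phi hDp hx
        · rw [hup]; exact (phi D).one_mem
        · rw [hvp]; exact (phi D).one_mem
      | one => exact ⟨L.one_mem, by rw [one_pow]; exact (phi D).one_mem⟩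
      | mul x y _ _ hx hy =>
        refine ⟨L.mul_mem hx.1 hy.1, ?_⟩
        have hNn : ((phi D).subgroupOf L).Normal := ⟨fun k hk l => hn l l.2 k hk⟩
        have hyx : ⁅y, x⁆ ∈ L :=
          (hphi.trans (le_sup_left.trans le_sup_left)) (hcomm y hy.1 x hx.1)
        have h1 := mul_pow_p_mem (p := p) c.p2 hNn (a := (⟨x, hx.1⟩ : L)) (b := ⟨y, hy.1⟩)
          (hcomm ⁅y, x⁆ hyx x hx.1)
          (hcomm ⁅y, x⁆ hyx y hy.1)
          (((phi D).subgroupOf L).pow_mem (hcomm y hy.1 x hx.1) p)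
        have h1' : (x ^ p * y ^ p)⁻¹ * (x * y) ^ p ∈ phi D := h1
        have h2 := (phi D).mul_mem ((phi D).mul_mem hx.2 hy.2) h1'
        rwa [mul_inv_cancel_left] at h2
      | inv x _ hx => exact ⟨L.inv_mem hx.1, by rw [inv_pow]; exact (phi D).inv_mem hx.2⟩
    exact fun a ha => (hcl a (hgen ▸ ha)).2
  obtain ⟨V, _, _, ⟨s⟩⟩ := exists_secMap (p := p) (A := L.subgroupOf S) (B := N)
    (Subgroup.comap_mono (hphi.trans (le_sup_left.trans le_sup_left)))
    (fun a ha b hb => hn a ha b hb) (fun a ha b hb => hcomm a ha b hb) (fun a ha => hpow a ha)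
  have h1 := s.card_le c.rank
  have h2 := s.card_mul
  rw [hNc, Nat.card_congr (Subgroup.subgroupOfEquivOfLe hLS).toEquiv, hcard, ← card_phi_mul (P := D)]
    at h2
  haveI : Finite (phi D) := finite_of_le (hphi.trans hD)
  have h3 : Nat.card V = (frattini ↥D).index * (p * p) := by
    refine Nat.eq_of_mul_eq_mul_right (Nat.card_pos (α := phi D)) (h2.trans ?_)
    ring
  refine exists_zpowers_of_frattini hDp ?_
  rw [h3, show p ^ 3 = p * (p * p) by ring] at h1
  exact Nat.le_of_mul_le_mul_right h1 (Nat.mul_pos hp.1.pos hp.1.pos)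

/-- A central element whose `p`-th power spans all `p`-th powers is killed by `p`. -/
theorem false_of_agemo {d : Ω} (hd : d ∈ S) (hdc : ∀ s ∈ S, d * s = s * d) (hd1 : d ^ p ≠ 1)
    (hpw : ∀ s ∈ S, s ^ p ∈ Subgroup.zpowers (d ^ p)) : False := by
  have hQ : Subgroup.zpowers (d ^ p) ≤ S := Subgroup.zpowers_le.2 (S.pow_mem hd p)
  refine c.false_of_invariant (Subgroup.mem_zpowers _) hd1 hQ ?_ fun E hE =>
    ⟨Subgroup.zpowers_le.2 (E.pow_mem (c.center_le hE hd hdc) p), ?_⟩
  all_goals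
    intro α hα x hx
    rw [Subgroup.zpowers_eq_closure] at hx
    refine mapsTo_closure α (t := {d ^ p}) ?_ ?_ hx
  · exact Set.singleton_subset_iff.2 (S.pow_mem hd p)
  · rintro y (rfl : y = d ^ p)
    rw [autFun_map_pow α hd]
    exact hpw _ (autFun_mem α hd)
  · exact Set.singleton_subset_iff.2 (E.pow_mem (c.center_le hE hd hdc) p)
  · rintro y (rfl : y = d ^ p)
    rw [autFun_map_pow α (c.center_le hE hd hdc)]
    exact hpw _ (c.le hE (autFun_mem α (c.center_le hE hd hdc)))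

/-- An automorphism of `S` acting as a transvection on central elements is trivial there. -/
theorem dvd_of_central {μ : MulAut S} (hμ : μ ∈ F.autGroup S) {a d : Ω} (ha : a ∈ S) (hd : d ∈ S)
    (hap : a ^ p = 1) (ha1 : a ≠ 1) (hμa : autFun μ a = a) (hdc : ∀ s ∈ S, d * s = s * d) {m : ℕ}
    (hμd : autFun μ d = d * a ^ m) : p ∣ m := by
  haveI := finite_mulAut (P := S) (le_refl S)
  have hpow : ∀ n : ℕ, autFun (μ ^ n) d = d * a ^ (n * m) := by
    intro n
    induction n with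
    | zero => rw [pow_zero, autFun_one hd, zero_mul, pow_zero, mul_one]
    | succ n ih =>
      rw [pow_succ', autFun_mul _ _ hd, ih, autFun_map_mul μ hd (S.pow_mem ha _), hμd,
        autFun_map_pow μ ha, hμa, mul_assoc, ← pow_add]
      congr 2
      ring
  obtain ⟨e, f, hf, hef⟩ := Nat.exists_eq_pow_mul_and_not_dvd (orderOf_pos μ).ne' p hp.1.ne_one
  have hk : (μ ^ f) ^ p ^ e = 1 := by rw [← pow_mul, mul_comm f, ← hef, pow_orderOf_eq_one]
  have hsyl := (isFullyAutomized_iff.1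
    (isFullyAutomized_of_normalized c.pS c.sat (isFullyNormalized_self F)).1).2
  rw [← inn_eq_autInducedBy] at hsyl
  have hz : IsPGroup p (Subgroup.zpowers (μ ^ f)) := by
    rintro ⟨_, i, rfl⟩
    refine ⟨e, Subtype.ext ?_⟩
    show ((μ ^ f) ^ i) ^ p ^ e = 1
    rw [← zpow_natCast, ← zpow_mul, mul_comm, zpow_mul, zpow_natCast, hk, one_zpow]
  obtain ⟨b, -, hb⟩ := hsyl.exists_conj_le hz (Subgroup.zpowers_le.2 (Subgroup.pow_mem _ hμ f))
  have h1 := inn_conj_mem (a := b⁻¹) (hb _ (Subgroup.mem_zpowers _))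
  simp only [inv_inv, mul_assoc, inv_mul_cancel, mul_one, inv_mul_cancel_left] at h1
  obtain ⟨g, hg, hge⟩ := mem_inn.1 h1
  have h2 := hge d hd
  rw [hpow, cj_apply, ← hdc g hg, mul_inv_cancel_right, mul_eq_left,
    pow_eq_one_iff_dvd hap ha1, hp.1.dvd_mul] at h2
  exact h2.resolve_left hf

end Ctx

end CfsgLib.Fusion.RankThreeNormal
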