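import Cfsg.Agent.Lib.Fusion.RankThreeNormal.Ctx

/-!
# A normal essential subgroup has index `p`
-/

set_option autoImplicit false
set_option linter.unusedSectionVars false
set_option linter.style.haveILetI false

namespace CfsgLib.Fusion.RankThreeNormal

open Cfsg Cfsg.FusionSystem CfsgLib.Fusion CfsgLib.Fusion.RankThree
open scoped commutatorElement

universe u

variable {p : ℕ} [hp : Fact p.Prime]

/-- An element spanning the images modulo a normal subgroup, with its power inside. -/
theorem index_eq_of_powers {N : Type u} [Group N] [Finite N] {E₀ : Subgroup N} [E₀.Normal]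
    {Γ M : Type*} [Monoid Γ] [Monoid M] (σ : N →* Γ) (ρ : Γ →* M) {x : N}
    (hker : ∀ y, ρ (σ y) = 1 → y ∈ E₀) (hx : x ∉ E₀) (hp' : ρ (σ x) ^ p = 1)
    (hpow : ∀ y, ∃ n : ℕ, ρ (σ y) = ρ (σ x) ^ n) : E₀.index = p := by
  set q := QuotientGroup.mk' E₀
  have hord : orderOf (q x) = p := by
    refine orderOf_eq_prime ?_ fun h => hx ((QuotientGroup.eq_one_iff x).1 h)
    rw [← map_pow]
    exact (QuotientGroup.eq_one_iff _).2 (hker _ (by rw [map_pow, map_pow, hp']))
  rw [← hord, ← Nat.card_zpowers, Subgroup.index_eq_card]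
  suffices Subgroup.zpowers (q x) = ⊤ by rw [this, Subgroup.card_top]
  refine eq_top_iff.2 fun z _ => ?_
  obtain ⟨y, rfl⟩ := QuotientGroup.mk'_surjective E₀ z
  obtain ⟨n, hn⟩ := hpow y
  have h1 : y * (x ^ n)⁻¹ ∈ E₀ := hker _ (by
    have h2 : ρ (σ (x ^ n)) * ρ (σ (x ^ n)⁻¹) = 1 := by
      rw [← map_mul, ← map_mul, mul_inv_cancel, map_one, map_one]
    rw [map_mul, map_mul, hn, ← map_pow ρ, ← map_pow σ, h2])
  have h2 : q y = q x ^ n := by
    rw [← map_pow]
    refine mul_inv_eq_one.1 ?_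
    rw [← map_inv, ← map_mul]
    exact (QuotientGroup.eq_one_iff _).2 h1
  rw [h2]
  exact Subgroup.npow_mem_zpowers _ _

variable {Ω : Type u} [Group Ω] {S : Subgroup Ω} [Finite S] {F : FusionSystem S} {E : Subgroup Ω}

set_option maxHeartbeats 1000000 in
/-- Every essential subgroup has index `p`. -/
theorem Ctx.card (c : Ctx F p) (hE : F.IsEssential p E) : Nat.card E * p = Nat.card S := by
  classical
  have hES := c.le hE
  have hp3 : 3 ≤ p := by
    have := hp.1.two_le
    have := c.p2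
    omega
  set N := normalizerIn S E with hNdef
  have hNS : N = S := normalizerIn_eq (c.nrm E hE)
  have hEN : E ≤ N := le_normalizerIn hES
  haveI : Finite E := finite_of_le hES
  haveI : Finite N := finite_of_le normalizerIn_le
  haveI := finite_mulAut (P := E) hES
  haveI hnormal : (E.subgroupOf N).Normal := ⟨fun a ha y =>
    (Subgroup.mem_normalizer_iff.1 (mem_normalizerIn.1 y.2).2 a).1 ha⟩
  rw [← hNS]
  refine card_of_index hEN ?_
  obtain ⟨g, hg, hgE⟩ := SetLike.exists_of_lt (c.lt hE)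
  rw [← hNS] at hg
  obtain ⟨Ψ, hΨ, hΨe⟩ := exists_conjHom F hES
  obtain ⟨V, _, _, s, ρ, hρ, hker, hrad, hcardV⟩ := exists_space_top c.pS hE
  haveI := s.finite
  have hrankE : Cfsg.SectionalPRankLE p 3 E :=
    sectionalPRankLE_inj (Subgroup.inclusion hES) (Subgroup.inclusion_injective hES) c.rank
  have hk := s.finrank_le hrankE
  have hinner : ∀ y : N, ∀ {M : Type u} [AddCommGroup M] [Module (ZMod p) M]
      (σ : F.autGroup E →* Module.End (ZMod p) M)
      (_ : ∀ γ : F.autGroup E, σ γ = 1 → (γ : MulAut E) ∈ Inn E),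
      σ (Ψ y) = 1 → y ∈ E.subgroupOf N := by
    intro y M _ _ σ hσ hy
    obtain ⟨e, he, hee⟩ := mem_inn.1 (hσ _ hy)
    have h1 : e⁻¹ * (y : Ω) ∈ E := centric_centralizer_le hE.1 (mem_centralizerIn.2
      ⟨S.mul_mem (S.inv_mem (hES he)) (normalizerIn_le y.2), fun a ha => by
        rw [cj_mul, ← hΨe y a ha, hee a ha, cj_inv_cj]⟩)
    have h2 := E.mul_mem he h1
    rwa [mul_inv_cancel_left] at h2
  have hunip : ∀ y : N, ∀ {M : Type u} [AddCommGroup M] [Module (ZMod p) M]
      (σ : F.autGroup E →* Module.End (ZMod p) M), ∃ j, σ (Ψ y) ^ p ^ j = 1 := fun y M _ _ σ => by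
    obtain ⟨j, hj⟩ := isPGroup_of_le normalizerIn_le c.pS y
    exact ⟨j, by rw [← map_pow, ← map_pow, hj, map_one, map_one]⟩
  set x : N := ⟨g, hg⟩ with hx
  have hxE : x ∉ E.subgroupOf N := hgE
  by_cases h3 : Module.finrank (ZMod p) V = 3
  · -- three generators
    have hidx : (frattini ↥E).index = p ^ 3 := by
      rw [← hcardV, Module.natCard_eq_pow_finrank (K := ZMod p), Nat.card_zmod, h3]
    obtain ⟨W, _, _, t, σ, R, H, hσ, hsetup, hR, hker'⟩ := exists_space c.pS c.sat hE hidx
    haveI := t.finite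
    obtain ⟨j, hj⟩ := hunip x σ
    have hTp : σ (Ψ x) ^ p = 1 :=
      pow_p_of_cube hp3 _ (sub_one_cube _ hj hsetup.dim.le)
    exact index_eq_of_powers Ψ σ (fun y => hinner y σ hker') hxE hTp fun y =>
      hsetup.image_sylow ((hR _).2 (hΨ x)) (fun h => hxE (hinner x σ hker' h)) _ ((hR _).2 (hΨ y))
  · -- at most two generators
    replace hk : Module.finrank (ZMod p) V ≤ 2 := by omega
    set φ := Ψ x
    have hTne : ρ φ ≠ 1 := fun h => hxE (hinner x ρ hker h)
    haveI : Nontrivial V := by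
      by_contra h
      haveI := not_nontrivial_iff_subsingleton.1 h
      exact hTne (LinearMap.ext fun v => Subsingleton.elim _ _)
    have hsq : ∀ y : N, ∀ r, (ρ (Ψ y) - 1) ((ρ (Ψ y) - 1) r) = 0 := by
      intro y
      obtain ⟨j, hj⟩ := hunip y ρ
      haveI : CharP (Module.End (ZMod p) V) p := charP_of_injective_algebraMap
        (algebraMap (ZMod p) (Module.End (ZMod p) V)).injective p
      have hn : IsNilpotent (ρ (Ψ y) - 1) := ⟨p ^ j, by
        rw [sub_pow_char_pow_of_commute p j (Commute.one_right _), hj, one_pow, sub_self]⟩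
      have h1 := LinearMap.aeval_self_charpoly (ρ (Ψ y) - 1)
      rw [hn.charpoly_eq_X_pow_finrank, map_pow, Polynomial.aeval_X] at h1
      have h2 := pow_eq_zero_of_le hk h1
      intro r
      exact LinearMap.congr_fun
        (show (ρ (Ψ y) - 1) * (ρ (Ψ y) - 1) = 0 by rw [← pow_two]; exact h2) r
    set δ := ρ φ - 1 with hδ
    have hδsq : ∀ r, δ (δ r) = 0 := hsq x
    obtain ⟨v2, hv2⟩ : ∃ v2, δ v2 ≠ 0 := by
      by_contra! h
      exact hTne (sub_eq_zero.1 (LinearMap.ext h))
    obtain ⟨f, hf0, hf⟩ := exists_fixed ρ (G := Ψ.range) (by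
      refine IsPGroup.map ?_ _
      rintro ⟨_, y, rfl⟩
      obtain ⟨j, hj⟩ := isPGroup_of_le normalizerIn_le c.pS y
      exact ⟨j, Subtype.ext (by rw [SubmonoidClass.coe_pow, ← map_pow, hj, map_one]; rfl)⟩)
    have hdf : δ f = 0 := by
      rw [hδ, LinearMap.sub_apply, Module.End.one_apply, hf _ ⟨_, rfl⟩, sub_self]
    have hli : LinearIndependent (ZMod p) ![v2, f] := by
      rw [linearIndependent_fin2]
      refine ⟨hf0, fun a ha => hv2 ?_⟩
      simp only [Matrix.cons_val_zero, Matrix.cons_val_one] at ha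
      rw [← ha, map_smul, hdf, smul_zero]
    have hdim : Module.finrank (ZMod p) V = 2 := by
      have h := hli.fintype_card_le_finrank
      rw [Fintype.card_fin] at h
      omega
    have hcoord : ∀ v, ∃ a b : ZMod p, v = a • v2 + b • f := fun v => by
      have hsp := hli.span_eq_top_of_card_eq_finrank (by rw [Fintype.card_fin, hdim])
      obtain ⟨d, hd⟩ := (Submodule.mem_span_range_iff_exists_fun _).1
        (hsp ▸ trivial : v ∈ Submodule.span (ZMod p) (Set.range ![v2, f]))
      exact ⟨d 0, d 1, by rw [← hd, Fin.sum_univ_two]; rfl⟩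
    obtain ⟨c0, hc0⟩ : ∃ c : ZMod p, δ v2 = c • f := by
      obtain ⟨a, b, hab⟩ := hcoord (δ v2)
      have h1 := congrArg δ hab
      rw [hδsq, map_add, map_smul, map_smul, hdf, smul_zero, add_zero, eq_comm, smul_eq_zero] at h1
      exact ⟨b, by rw [hab, h1.resolve_right hv2, zero_smul, zero_add]⟩
    have hc00 : c0 ≠ 0 := fun h => hv2 (by rw [hc0, h, zero_smul])
    refine index_eq_of_powers Ψ ρ (fun y => hinner y ρ hker) hxE ?_ fun y => ?_
    · refine LinearMap.ext fun v => ?_
      rw [pow_apply_of_sq (ρ φ) hδsq, ZMod.natCast_self, zero_smul, add_zero,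
        Module.End.one_apply]
    set ε := ρ (Ψ y) - 1 with hε
    have hεf : ε f = 0 := by
      rw [hε, LinearMap.sub_apply, Module.End.one_apply, hf _ ⟨_, rfl⟩, sub_self]
    obtain ⟨a, b, hab⟩ := hcoord (ε v2)
    have ha : a = 0 := by
      have h1 := congrArg ε hab
      rw [hsq y, map_add, map_smul, map_smul, hεf, smul_zero, add_zero, eq_comm,
        smul_eq_zero] at h1
      rcases h1 with h1 | h1
      · exact h1
      · rw [h1] at hab
        exact (LinearIndependent.pair_iff.1 hli a b hab.symm).1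
    refine ⟨(b / c0).val, LinearMap.ext fun v => ?_⟩
    obtain ⟨i, j, rfl⟩ := hcoord v
    rw [pow_apply_of_sq (ρ φ) hδsq, ZMod.natCast_zmod_val, ← hδ, map_add δ, map_smul δ, map_smul δ,
      hdf, hc0, smul_zero, add_zero,
      show ρ (Ψ y) = 1 + ε by rw [hε, add_sub_cancel], LinearMap.add_apply, Module.End.one_apply,
      map_add, map_smul, map_smul, hεf, hab, ha, zero_smul, zero_add, smul_zero, add_zero,
      smul_smul, smul_smul, smul_smul]
    congr 2
    field_simp

end CfsgLib.Fusion.RankThreeNormal
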