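import Cfsg.Agent.Lib.Fusion.RankThreeNormal.Candidate

/-!
# All essential subgroups normal forces the shape of a symplectic Sylow subgroup
-/

set_option autoImplicit false
set_option linter.unusedSectionVars false
set_option linter.style.haveILetI false

namespace CfsgLib.Fusion.RankThreeNormal

open Cfsg Cfsg.FusionSystem CfsgLib.Fusion CfsgLib.Fusion.RankThree

universe u

variable {p : ℕ} [hp : Fact p.Prime] {Ω : Type u} [Group Ω] {S : Subgroup Ω} [Finite S]
  {F : FusionSystem S}

theorem Ctx.spShape (c : Ctx F p) : SpShape S p := by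
  by_contra hsp
  by_cases hmov : ∃ E, Mov F p E
  · obtain ⟨E0, h0⟩ := hmov
    by_cases huniq : ∀ E, Mov F p E → E = E0
    · exact (⟨c, hsp, h0, huniq⟩ : Single F p E0).contradiction
    · push Not at huniq
      obtain ⟨E1, h1, hne⟩ := huniq
      exact c.false_of_two hsp h1 h0 hne
  · obtain ⟨z, hz, hz1⟩ := c.exists_omegaZ
    refine c.false_of_invariant hz hz1 (fun x hx => (mem_omegaZ.1 hx).1) inv_omegaZ_self
      fun E hE => ⟨c.omegaZ_le' hE, c.inv_of_not_mov hE fun hm => hmov ⟨E, hm⟩⟩

end CfsgLib.Fusion.RankThreeNormal
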