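import Cfsg.Agent.Lib.Fusion.RankThreeNormal.Split

/-!
# A normal elementary subgroup outside an essential subgroup: the central case
-/

set_option autoImplicit false
set_option linter.unusedSectionVars false
set_option linter.style.haveILetI false

namespace CfsgLib.Fusion.RankThreeNormal

open Cfsg Cfsg.FusionSystem CfsgLib.Fusion CfsgLib.Fusion.RankThree
open scoped commutatorElement

universe u

variable {p : ℕ} [hp : Fact p.Prime] {Ω : Type u} [Group Ω] {S : Subgroup Ω} [Finite S]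
  {F : FusionSystem S} {E : Subgroup Ω}

namespace Ctx

variable (c : Ctx F p)
include c

/-- A nonabelian group of order at most `p ^ 3` is too small. -/
theorem false_of_small (h : Nat.card S ≤ p ^ 3) {x y : Ω} (hx : x ∈ S) (hy : y ∈ S)
    (hxy : x * y ≠ y * x) : False := by
  refine c.rank2 fun K N _ A hA hAp => ?_
  by_contra hgt
  have hAp' : IsPGroup p A := fun a => ⟨1, by rw [pow_one]; exact Subtype.ext (hAp _ a.2)⟩
  obtain ⟨k, hk⟩ := hAp'.exists_card_eq
  have h3 : p ^ 3 ≤ Nat.card A := by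
    rw [hk] at hgt ⊢
    refine Nat.pow_le_pow_right hp.1.pos (Nat.lt_of_not_le fun h => hgt ?_)
    exact Nat.pow_le_pow_right hp.1.pos h
  have hKS : Nat.card K ≤ Nat.card S := Subgroup.card_le_card_group K
  have h1 : Nat.card A ≤ Nat.card (K ⧸ N) := Subgroup.card_le_card_group A
  have h2 := N.card_mul_index
  rw [Subgroup.index_eq_card] at h2
  have hN : Nat.card N = 1 := by
    by_contra hne
    have : 1 < Nat.card N := lt_of_le_of_ne Nat.card_pos (Ne.symm hne)
    have h4 : 1 * Nat.card (K ⧸ N) < Nat.card N * Nat.card (K ⧸ N) :=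
      Nat.mul_lt_mul_of_pos_right this Nat.card_pos
    omega
  rw [hN, one_mul] at h2
  have hK : K = ⊤ := Subgroup.eq_top_of_le_card _ (by omega)
  have hA' : A = ⊤ := Subgroup.eq_top_of_le_card _ (by omega)
  have hb : Function.Bijective (QuotientGroup.mk' N) :=
    ⟨(MonoidHom.ker_eq_bot_iff _).1 (by rw [QuotientGroup.ker_mk', Subgroup.card_eq_one.1 hN]),
      QuotientGroup.mk'_surjective N⟩
  have hxK : (⟨x, hx⟩ : S) ∈ K := hK ▸ Subgroup.mem_top _
  have hyK : (⟨y, hy⟩ : S) ∈ K := hK ▸ Subgroup.mem_top _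
  refine hxy (congrArg (fun w : K => ((w : S) : Ω)) (hb.1 (?_ :
    QuotientGroup.mk' N ((⟨_, hxK⟩ : K) * ⟨_, hyK⟩) =
      QuotientGroup.mk' N ((⟨_, hyK⟩ : K) * ⟨_, hxK⟩))))
  rw [map_mul, map_mul]
  have := hA.is_comm.comm ⟨QuotientGroup.mk' N ⟨_, hxK⟩, hA' ▸ Subgroup.mem_top _⟩
    ⟨QuotientGroup.mk' N ⟨_, hyK⟩, hA' ▸ Subgroup.mem_top _⟩
  exact congrArg Subtype.val this

/-- Two automorphisms inverting `a` fix the same line next to it. -/
theorem same_line {β β' : MulAut S} (hβ : β ∈ F.autGroup S) (hβ' : β' ∈ F.autGroup S) {a d d' : Ω}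
    (ha : a ∈ S) (hd : d ∈ S) (hap : a ^ p = 1) (ha1 : a ≠ 1)
    (hdc : ∀ s ∈ S, d * s = s * d)
    (hβa : autFun β a = a⁻¹) (hβ'a : autFun β' a = a⁻¹) (hβd : autFun β d = d)
    (hβ'd : autFun β' d' = d') {i m : ℕ} (hdd : d' = d ^ i * a ^ m) : d' = d ^ i := by
  have hd'S : d' ∈ S := hdd ▸ S.mul_mem (S.pow_mem hd i) (S.pow_mem ha m)
  have hdi : d ^ i = d' * (a ^ m)⁻¹ := by rw [hdd, mul_inv_cancel_right]
  have h1 : autFun β' (d ^ i) = d ^ i * a ^ (m + m) := by
    rw [hdi, autFun_map_mul β' hd'S (S.inv_mem (S.pow_mem ha m)),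
      autFun_inv_map β' (S.pow_mem ha m), autFun_map_pow β' ha, hβ'd, hβ'a, inv_pow, inv_inv,
      mul_assoc, pow_add, inv_mul_cancel_left]
  have h2 : autFun (β * β') (d ^ i) = d ^ i * a ^ ((p - 1) * (m + m)) := by
    rw [autFun_mul _ _ (S.pow_mem hd i), h1,
      autFun_map_mul β (S.pow_mem hd i) (S.pow_mem ha _), autFun_map_pow β hd, hβd,
      autFun_map_pow β ha, hβa, pow_mul]
    congr 2
    rw [inv_eq_iff_mul_eq_one, ← pow_succ', Nat.sub_add_cancel hp.1.one_le, hap]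
  have h3 : autFun (β * β') a = a := by
    rw [autFun_mul _ _ ha, hβ'a, autFun_inv_map β ha, hβa, inv_inv]
  have h4 := c.dvd_of_central ((F.autGroup S).mul_mem hβ hβ') ha (S.pow_mem hd i) hap ha1 h3
    (fun s hs => ((show Commute d s from hdc s hs).pow_left i).eq) h2
  rw [← two_mul, hp.1.dvd_mul, hp.1.dvd_mul] at h4
  have h5 : p ∣ m := by
    rcases h4 with h4 | h4 | h4
    · exact absurd (Nat.le_of_dvd (Nat.sub_pos_of_lt hp.1.one_lt) h4)
        (not_le.2 (Nat.sub_lt hp.1.pos one_pos))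
    · exact absurd ((Nat.prime_dvd_prime_iff_eq hp.1 Nat.prime_two).1 h4) c.p2
    · exact h4
  rw [hdd, (pow_eq_one_iff_dvd hap ha1).2 h5, mul_one]

set_option maxHeartbeats 1600000 in
/-- The central case leads to a normal subgroup. -/
theorem false_of_central (hE : F.IsEssential p E) {z : Ω} (hz : z ∈ S) (hzE : z ∉ E)
    (hzp : z ^ p = 1) {H : Subgroup Ω} (hHE : H ≤ E) (hHcard : Nat.card H * p = Nat.card E)
    (hcomm : ∀ h ∈ H, z * h = h * z) {a : Ω} (haE : a ∈ E) (hap : a ^ p = 1)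
    (hac : ∀ s ∈ S, a * s = s * a) (hza : ∀ e ∈ E, ∃ i : ℕ, z * e * z⁻¹ = e * a ^ i) : False := by
  classical
  obtain ⟨C, a', D⟩ := c.exists_split hE hz hzE hzp hHE hHcard hcomm haE hap hac hza
  have hES := c.le hE
  have ha'S := hES D.a'_mem
  have hCE : C ≤ E := D.C_le.trans hHE
  have ha1 : a ≠ 1 := fun h => D.a_notMem (h ▸ C.one_mem)
  have haS := hES haE
  -- the fixed part is cyclic and central
  obtain ⟨d, hdC, hCd⟩ := c.cyclic_of_two (hCE.trans hES) haS hz hap hzp (hac z hz)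
    (fun x hx => hac x (hES (hCE hx))) (fun x hx => hcomm x (D.C_le hx)) D.a_notMem
    fun h => hzE (sup_le hCE (Subgroup.zpowers_le.2 haE) h)
  have hdE := hCE hdC
  have hdS := hES hdE
  have hEab : ∀ e ∈ E, ∀ e' ∈ E, e * e' = e' * e := by
    intro e he e' he'
    obtain ⟨x, hx, i, j, rfl⟩ := D.dec e he
    obtain ⟨y, hy, k, l, rfl⟩ := D.dec e' he'
    rw [hCd] at hx hy
    obtain ⟨n1, rfl⟩ := hx
    obtain ⟨n2, rfl⟩ := hy
    have h1 : Commute d a := (show Commute a d from hac d hdS).symm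
    have h2 : Commute d a' := (show Commute a' d from D.a'_cent d hdE).symm
    have h3 : Commute a a' := hac a' ha'S
    exact ((((Commute.zpow_zpow (Commute.refl d) n1 n2).mul_right
        ((h1.pow_right k).zpow_left n1)).mul_right ((h2.pow_right l).zpow_left n1)).mul_left
        ((((h1.symm.pow_left i).zpow_right n2).mul_right ((Commute.refl a).pow_pow i k)).mul_right
        (h3.pow_pow i l))).mul_left
      ((((h2.symm.pow_left j).zpow_right n2).mul_right (h3.symm.pow_pow j k)).mul_right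
        ((Commute.refl a').pow_pow j l))
  have hdc : ∀ s ∈ S, d * s = s * d := fun s hs => by
    obtain ⟨e, he, k, rfl⟩ := c.mem_dec hE hz hzE hs
    exact ((show Commute d e from hEab d hdE e he).mul_right
      ((show Commute z d from hcomm d (D.C_le hdC)).symm.pow_right k)).eq
  -- conjugation moves everything along the centre
  have hzk : ∀ e ∈ E, ∀ k : ℕ, ∃ i : ℕ, z ^ k * e * (z ^ k)⁻¹ = e * a ^ i := by
    intro e he k
    induction k with
    | zero => exact ⟨0, by simp⟩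
    | succ k ih =>
      obtain ⟨i, hi⟩ := ih
      obtain ⟨j, hj⟩ := hza e he
      refine ⟨j + i, ?_⟩
      rw [pow_succ', show z * z ^ k * e * (z * z ^ k)⁻¹ = z * (z ^ k * e * (z ^ k)⁻¹) * z⁻¹ by group,
        hi, show z * (e * a ^ i) * z⁻¹ = (z * e * z⁻¹) * (z * a * z⁻¹) ^ i by rw [conj_pow]; group,
        hj, ← hac z hz, mul_inv_cancel_right, mul_assoc, ← pow_add]
  have hconjE : ∀ s ∈ S, ∀ e ∈ E, ∃ i : ℕ, s * e * s⁻¹ = e * a ^ i := by
    intro s hs e he
    obtain ⟨e0, he0, k, rfl⟩ := c.mem_dec hE hz hzE hs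
    obtain ⟨i, hi⟩ := hzk e he k
    refine ⟨i, ?_⟩
    rw [show e0 * z ^ k * e * (e0 * z ^ k)⁻¹ = e0 * (z ^ k * e * (z ^ k)⁻¹) * e0⁻¹ by group, hi,
      hEab e0 he0 _ (E.mul_mem he (E.pow_mem haE i)), mul_inv_cancel_right]
  have hall : ∀ s ∈ S, ∀ t ∈ S, ∃ i : ℕ, s * t * s⁻¹ = t * a ^ i := by
    intro s hs t ht
    obtain ⟨l, hl⟩ : ∃ l : ℕ, s * z * s⁻¹ = z * a ^ l := by
      obtain ⟨e0, he0, k, rfl⟩ := c.mem_dec hE hz hzE hs
      obtain ⟨i, hi⟩ := hza e0 he0
      refine ⟨(p - 1) * i, ?_⟩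
      rw [show e0 * z ^ k * z * (e0 * z ^ k)⁻¹ = e0 * z * e0⁻¹ by group, pow_mul]
      have h1 : z * e0 = e0 * a ^ i * z := by rw [← hi, inv_mul_cancel_right]
      have h2 : (a ^ (p - 1)) ^ i = (a ^ i)⁻¹ := by
        rw [eq_inv_iff_mul_eq_one, ← pow_mul, ← pow_add,
          show (p - 1) * i + i = p * i by
            rw [← Nat.succ_mul, Nat.succ_eq_add_one, Nat.sub_add_cancel hp.1.one_le],
          pow_mul, hap, one_pow]
      rw [h2, eq_mul_inv_iff_mul_eq, mul_assoc _ e0⁻¹,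
        ← (((show Commute a e0 from hac e0 (hES he0)).pow_left i).inv_right).eq, ← mul_assoc,
        mul_assoc e0 z, ← ((show Commute a z from hac z hz).pow_left i).eq, ← mul_assoc, ← h1,
        mul_inv_cancel_right]
    obtain ⟨e, he, k, rfl⟩ := c.mem_dec hE hz hzE ht
    obtain ⟨i, hi⟩ := hconjE s hs e he
    refine ⟨i + l * k, ?_⟩
    rw [show s * (e * z ^ k) * s⁻¹ = (s * e * s⁻¹) * (s * z * s⁻¹) ^ k by rw [conj_pow]; group, hi,
      hl, (show Commute z (a ^ l) from ((show Commute a z from hac z hz).pow_left l).symm).mul_pow,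
      pow_add, ← pow_mul, ← mul_assoc, ← mul_assoc, mul_assoc e (a ^ i) (z ^ k),
      ((show Commute a z from hac z hz).pow_pow i k).eq, ← mul_assoc]
  obtain ⟨n, hnd, hna⟩ := D.za'
  have hza'ne : z * a' ≠ a' * z := fun h => hnd ((pow_eq_one_iff_dvd hap ha1).1 (by
    rw [h, mul_inv_cancel_right, eq_comm, mul_eq_left] at hna
    exact hna))
  have hd1 : d ≠ 1 := by
    intro h
    have hC : C = ⊥ := by rw [hCd, h, Subgroup.zpowers_one_eq_bot]
    haveI : Finite E := finite_of_le hES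
    refine c.false_of_small ?_ hz ha'S hza'ne
    have hle : E ≤ Subgroup.zpowers a ⊔ Subgroup.zpowers a' := fun e he => by
      obtain ⟨x, hx, i, j, rfl⟩ := D.dec e he
      rw [hC, Subgroup.mem_bot] at hx
      rw [hx, one_mul]
      exact mul_mem (Subgroup.mem_sup_left (Subgroup.npow_mem_zpowers a i))
        (Subgroup.mem_sup_right (Subgroup.npow_mem_zpowers a' j))
    haveI : Finite (Subgroup.zpowers a ⊔ Subgroup.zpowers a' : Subgroup Ω) :=
      finite_of_le (sup_le (Subgroup.zpowers_le.2 haS) (Subgroup.zpowers_le.2 ha'S))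
    have h1 := Subgroup.card_le_of_le hle
    rw [card_sup_comm (fun k hk => D.a'_cent k (Subgroup.zpowers_le.2 haE hk)) D.a'_pow
      (fun h' => D.a'_notMem (Subgroup.zpowers_le.2 (by
        by_contra hH
        exact hzE (centric_centralizer_le hE.1 (mem_centralizerIn.2 ⟨hz, fun e he => by
          obtain ⟨x, hx, i, rfl⟩ := exists_dec c.pS hES hHE hHcard haE hH he
          rw [cj_apply, mul_inv_eq_iff_eq_mul]
          exact ((show Commute z x from hcomm x hx).mul_right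
            ((show Commute a z from hac z hz).symm.pow_right i)).eq⟩))) h')),
      card_zpowers_prime hap ha1] at h1
    rw [← c.card hE, show p ^ 3 = p * p * p by ring]
    exact Nat.mul_le_mul_right p h1
  by_cases hdp : d ^ p = 1
  swap
  · refine c.false_of_agemo hdS hdc hdp fun s hs => ?_
    obtain ⟨e, he, k, rfl⟩ := c.mem_dec hE hz hzE hs
    obtain ⟨x, hx, i, j, rfl⟩ := D.dec e he
    rw [hCd] at hx
    obtain ⟨m, rfl⟩ := hx
    obtain ⟨l, hl⟩ := hzk _ (E.pow_mem D.a'_mem j) k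
    have h1 : ⁅z ^ k, a' ^ j⁆ = a ^ l := by
      rw [commutatorElement_def, hl]
      have := ((show Commute a a' from hac a' ha'S).pow_pow l j).symm.eq
      rw [this, mul_inv_cancel_right]
    have h2 : (a' ^ j * z ^ k) ^ p = 1 := by
      rw [mul_pow_p c.p2 (by rw [h1]; exact (show Commute a _ from hac _ (S.pow_mem ha'S j)).pow_left l)
        (by rw [h1]; exact (show Commute a _ from hac _ (S.pow_mem hz k)).pow_left l)
        (by rw [h1, ← pow_mul, mul_comm l, pow_mul, hap, one_pow]),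
        ← pow_mul, ← pow_mul, mul_comm j, mul_comm k, pow_mul, pow_mul, D.a'_pow, hzp, one_pow,
        one_pow, one_mul]
    rw [show d ^ m * a ^ i * a' ^ j * z ^ k = d ^ m * (a ^ i * (a' ^ j * z ^ k)) by group,
      ((show Commute d _ from hdc _ (S.mul_mem (S.pow_mem haS i) (S.mul_mem (S.pow_mem ha'S j)
        (S.pow_mem hz k)))).zpow_left m).mul_pow,
      ((show Commute a _ from hac _ (S.mul_mem (S.pow_mem ha'S j)
        (S.pow_mem hz k))).pow_left i).mul_pow, h2, mul_one, ← pow_mul, mul_comm i, pow_mul, hap,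
      one_pow, mul_one]
    refine ⟨m, ?_⟩
    show (d ^ p) ^ m = _
    rw [← zpow_natCast, ← zpow_natCast, ← zpow_mul, ← zpow_mul, mul_comm]
  -- the whole group has exponent `p` and the centre is `⟨d, a⟩`
  have hexp : ∀ s ∈ S, s ^ p = 1 := by
    intro s hs
    obtain ⟨e, he, k, rfl⟩ := c.mem_dec hE hz hzE hs
    have hep : e ^ p = 1 := by
      obtain ⟨x, hx, i, j, rfl⟩ := D.dec e he
      rw [hCd] at hx
      obtain ⟨m, rfl⟩ := hx
      rw [(show Commute (d ^ m * a ^ i) (a' ^ j) from hEab _ (E.mul_mem (E.zpow_mem hdE m)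
          (E.pow_mem haE i)) _ (E.pow_mem D.a'_mem j)).mul_pow,
        (show Commute (d ^ m) (a ^ i) from hEab _ (E.zpow_mem hdE m) _ (E.pow_mem haE i)).mul_pow,
        ← pow_mul, ← pow_mul, mul_comm i, mul_comm j, pow_mul, pow_mul, hap, D.a'_pow, one_pow,
        one_pow, mul_one, mul_one, ← zpow_natCast, ← zpow_mul, mul_comm, zpow_mul, zpow_natCast,
        hdp, one_zpow]
    obtain ⟨l, hl⟩ := hzk e he k
    have h1 : ⁅z ^ k, e⁆ = a ^ l := by
      rw [commutatorElement_def, hl, ((show Commute a e from hac e (hES he)).pow_left l).symm.eq,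
        mul_inv_cancel_right]
    rw [mul_pow_p c.p2 (by rw [h1]; exact (show Commute a _ from hac _ (hES he)).pow_left l)
      (by rw [h1]; exact (show Commute a _ from hac _ (S.pow_mem hz k)).pow_left l)
      (by rw [h1, ← pow_mul, mul_comm l, pow_mul, hap, one_pow]),
      hep, one_mul, ← pow_mul, mul_comm, pow_mul, hzp, one_pow]
  set Zs := C ⊔ Subgroup.zpowers a
  have haH : a ∈ H := by
    by_contra hH
    exact hzE (centric_centralizer_le hE.1 (mem_centralizerIn.2 ⟨hz, fun e he => by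
      obtain ⟨x, hx, i, rfl⟩ := exists_dec c.pS hES hHE hHcard haE hH he
      rw [cj_apply, mul_inv_eq_iff_eq_mul]
      exact ((show Commute z x from hcomm x hx).mul_right
        ((show Commute a z from hac z hz).symm.pow_right i)).eq⟩))
  have hZsH : Zs ≤ H := sup_le D.C_le (Subgroup.zpowers_le.2 haH)
  have hCcard : Nat.card C = p := by rw [hCd, card_zpowers_prime hdp hd1]
  have hZscard : Nat.card Zs = p ^ 2 := by
    rw [card_sup_comm (fun x hx => hac x (hES (hCE hx))) hap D.a_notMem, hCcard, pow_two]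
  have hHZs : H = Zs := by
    haveI : Finite H := finite_of_le (hHE.trans hES)
    refine (Subgroup.eq_of_le_of_card_ge hZsH ?_).symm
    have hle : E ≤ Zs ⊔ Subgroup.zpowers a' := fun e he => by
      obtain ⟨x, hx, i, j, rfl⟩ := D.dec e he
      exact mul_mem (Subgroup.mem_sup_left (mul_mem (Subgroup.mem_sup_left hx)
        (Subgroup.mem_sup_right (Subgroup.npow_mem_zpowers a i))))
        (Subgroup.mem_sup_right (Subgroup.npow_mem_zpowers a' j))
    haveI : Finite (Zs ⊔ Subgroup.zpowers a' : Subgroup Ω) :=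
      finite_of_le (sup_le ((hZsH.trans hHE).trans hES) (Subgroup.zpowers_le.2 ha'S))
    have h1 := Subgroup.card_le_of_le hle
    rw [card_sup_comm (fun x hx => D.a'_cent x (hHE (hZsH hx))) D.a'_pow
      (fun h => D.a'_notMem (hZsH h)), ← hHcard] at h1
    exact Nat.le_of_mul_le_mul_right h1 hp.1.pos
  have hZsS : Zs ≤ S := (hZsH.trans hHE).trans hES
  have hZsc : ∀ x ∈ Zs, ∀ s ∈ S, x * s = s * x := by
    intro x hx s hs
    have h : Zs ≤ Subgroup.centralizer {s} := by
      refine sup_le (hCd ▸ Subgroup.zpowers_le.2 ?_) (Subgroup.zpowers_le.2 ?_) <;>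
        rw [Subgroup.mem_centralizer_singleton_iff]
      · exact hdc s hs
      · exact hac s hs
    exact Subgroup.mem_centralizer_singleton_iff.1 (h hx)
  have hcentral : ∀ x ∈ S, (∀ s ∈ S, x * s = s * x) → x ∈ Zs := by
    intro x hx hxc
    rw [← hHZs]
    have hxE := c.center_le hE hx hxc
    by_contra hxH
    exact hzE (centric_centralizer_le hE.1 (mem_centralizerIn.2 ⟨hz, fun e he => by
      obtain ⟨h, hh, i, rfl⟩ := exists_dec c.pS hES hHE hHcard hxE hxH he
      rw [cj_apply, mul_inv_eq_iff_eq_mul]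
      exact ((show Commute z h from hcomm h hh).mul_right
        ((show Commute x z from hxc z hz).symm.pow_right i)).eq⟩))
  have hZsdec : ∀ x ∈ Zs, ∃ i m : ℕ, x = d ^ i * a ^ m := by
    intro x hx
    obtain ⟨k, hk, m, hxm⟩ := exists_dec c.pS hZsS le_sup_left
      (by rw [hCcard, hZscard, pow_two]) (Subgroup.mem_sup_right (Subgroup.mem_zpowers a))
      D.a_notMem hx
    rw [hCd] at hk
    obtain ⟨i, rfl⟩ := exists_pow_of_zpowers hdp hk
    exact ⟨i, m, hxm⟩
  obtain ⟨β, hβ, hβa, hβC⟩ := D.ext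
  have hβd := hβC d hdC
  have hline : ∀ (β' : MulAut S), β' ∈ F.autGroup S → autFun β' a = a⁻¹ → ∀ x ∈ Zs,
      autFun β' x = x → x ∈ Subgroup.zpowers d := by
    intro β' hβ' hβ'a x hx hxf
    obtain ⟨i, m, hxm⟩ := hZsdec x hx
    rw [c.same_line hβ hβ' haS hdS hap ha1 hdc hβa hβ'a hβd hxf hxm]
    exact Subgroup.npow_mem_zpowers d i
  refine c.false_of_invariant (Subgroup.mem_zpowers d) hd1 (Subgroup.zpowers_le.2 hdS) ?_
    fun E2 hE2 => ?_
  · -- invariance in the whole group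
    intro α hα x hx
    rw [Subgroup.zpowers_eq_closure] at hx
    refine mapsTo_closure α (t := {d}) (Set.singleton_subset_iff.2 hdS) ?_ hx
    rintro y (rfl : y = d)
    obtain ⟨j, hj⟩ : ∃ j : ℕ, autFun α⁻¹ a = a ^ j := by
      obtain ⟨i, hi⟩ := hall _ (autFun_mem α⁻¹ hz) _ (autFun_mem α⁻¹ ha'S)
      obtain ⟨l, -, hl⟩ := Nat.exists_mul_mod_eq_one_of_coprime
        (Nat.coprime_comm.1 (hp.1.coprime_iff_not_dvd.2 hnd)) hp.1.one_lt
      refine ⟨i * l, ?_⟩
      have h1 : autFun α⁻¹ (a ^ n) = a ^ i := by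
        have h2 := (isMor_autFun le_rfl ((F.autGroup S).inv_mem hα)).map_conj hz ha'S
        rw [hna, autFun_map_mul _ ha'S (S.pow_mem haS n), hi, mul_right_inj] at h2
        exact h2
      rw [pow_mul, ← h1, ← autFun_map_pow _ (S.pow_mem haS n), ← pow_mul,
        ← Nat.div_add_mod (n * l) p, hl, pow_add, pow_mul, hap, one_pow, one_mul, pow_one]
    refine hline (α * β * α⁻¹)
      ((F.autGroup S).mul_mem ((F.autGroup S).mul_mem hα hβ) ((F.autGroup S).inv_mem hα)) ?_ _
      (hcentral _ (autFun_mem α hdS) fun s hs => ?_) ?_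
    · rw [autFun_mul _ _ haS, autFun_mul _ _ (autFun_mem _ haS), hj,
        autFun_map_pow β haS, hβa, inv_pow, autFun_inv_map α (S.pow_mem haS j), ← hj,
        autFun_inv_right α haS]
    · rw [← autFun_inv_right α hs, ← autFun_map_mul α hdS (autFun_mem _ hs),
        hdc _ (autFun_mem _ hs), autFun_map_mul α (autFun_mem _ hs) hdS]
    · rw [autFun_mul _ _ (autFun_mem _ hdS), autFun_mul _ _ (autFun_mem _ (autFun_mem _ hdS)),
        autFun_inv_left α hdS, hβd]
  -- another essential subgroup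
  have hE2S := c.le hE2
  haveI : Finite E2 := finite_of_le hE2S
  haveI := finite_mulAut (P := E2) hE2S
  have hn2 := c.nrm' hE2
  have hZsE2 : Zs ≤ E2 := fun x hx => c.center_le hE2 (hZsS hx) (hZsc x hx)
  refine ⟨Subgroup.zpowers_le.2 (hZsE2 (Subgroup.mem_sup_left hdC)), ?_⟩
  obtain ⟨z2, hz2, hz2E⟩ := SetLike.exists_of_lt (c.lt hE2)
  have hE2card : Nat.card E2 = p ^ 3 := by
    refine Nat.eq_of_mul_eq_mul_right hp.1.pos ?_
    rw [c.card hE2, ← c.card hE, ← hHcard, hHZs, hZscard]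
    ring
  have hHcard2 : Nat.card Zs * p = Nat.card E2 := by rw [hE2card, hZscard]; ring
  have hz2Zs : ∀ x ∈ Zs, z2 * x = x * z2 := fun x hx => (hZsc x hx z2 hz2).symm
  obtain ⟨C2, a2, D2⟩ := c.exists_split hE2 hz2 hz2E (hexp z2 hz2) hZsE2 hHcard2 hz2Zs
    (hZsE2 (Subgroup.mem_sup_right (Subgroup.mem_zpowers a))) hap hac
    fun e he => hall z2 hz2 e (hE2S he)
  have hE2ab : ∀ e ∈ E2, ∀ e' ∈ E2, e * e' = e' * e := by
    intro e he e' he'
    obtain ⟨x, hx, i, j, rfl⟩ := D2.dec e he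
    have hxe : x * a ^ i ∈ Zs := mul_mem (D2.C_le hx)
      (Subgroup.mem_sup_right (Subgroup.npow_mem_zpowers a i))
    exact ((show Commute (x * a ^ i) e' from hZsc _ hxe _ (hE2S he')).mul_left
      ((show Commute a2 e' from D2.a'_cent e' he').pow_left j)).eq
  -- the line of the second subgroup
  letI : CommGroup E2 :=
    { (inferInstance : Group E2) with mul_comm := fun x y => Subtype.ext (hE2ab _ x.2 _ y.2) }
  obtain ⟨τ, hτF, hτ⟩ := c.exists_conjAut hE2 hz2
  obtain ⟨-, R, hR⟩ := (isFullyAutomized_of_normalized c.pS c.sat hE2.2.1).1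
  have hτR : (⟨τ, hτF⟩ : F.autGroup E2) ∈ (R : Subgroup (F.autGroup E2)) := by
    rw [hR]
    exact mem_autInducedBy.2 ⟨z2, hz2, c.nrm E2 hE2 hz2, hτ⟩
  have hτpow : ∀ (k : ℕ), ∀ x ∈ E2, autFun (τ ^ k) x = z2 ^ k * x * (z2 ^ k)⁻¹ := by
    intro k
    induction k with
    | zero => intro x hx; rw [pow_zero, autFun_one hx, pow_zero]; simp
    | succ k ih =>
      intro x hx
      rw [pow_succ', autFun_mul _ _ hx, hτ _ (autFun_mem _ hx), ih x hx, pow_succ']
      group
  have hza2 : ∀ x ∈ E2, z2 * x = x * z2 → x ∈ Zs := by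
    intro x hx hzx
    by_contra hxZ
    exact hz2E (centric_centralizer_le hE2.1 (mem_centralizerIn.2 ⟨hz2, fun e he => by
      obtain ⟨h, hh, i, rfl⟩ := exists_dec c.pS hE2S hZsE2 hHcard2 hx hxZ he
      rw [cj_apply, mul_inv_eq_iff_eq_mul]
      exact ((show Commute z2 h from hz2Zs h hh).mul_right
        ((show Commute z2 x from hzx).pow_right i)).eq⟩))
  set ae : E2 := ⟨a, hZsE2 (Subgroup.mem_sup_right (Subgroup.mem_zpowers a))⟩
  have hT : Transv (τ : MulAut E2) ae (Zs.subgroupOf E2) := by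
    refine ⟨fun w => ?_, fun w => ?_⟩
    · obtain ⟨i, hi⟩ := hall z2 hz2 w (hE2S w.2)
      refine ⟨i, Subtype.ext ?_⟩
      rw [← autFun_coe, hτ w w.2, hi]
      rfl
    · rw [Subtype.ext_iff, ← autFun_coe, hτ w w.2, mul_inv_eq_iff_eq_mul]
      exact ⟨fun h => hza2 w w.2 h, fun h => hz2Zs w h⟩
  have hZne : Zs.subgroupOf E2 ≠ ⊤ := fun h => D2.a'_notMem
    ((Subgroup.subgroupOf_eq_top.1 h) D2.a'_mem)
  obtain ⟨c2, hc21, hc2⟩ := exists_fixed_line (σ := (F.autGroup E2).subtype)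
    (fun w => Subtype.ext (hexp w (hE2S w.2))) hτR (fun r hr => by
      rw [hR] at hr
      obtain ⟨s, hs, -, e⟩ := mem_autInducedBy.1 (show (r : MulAut E2) ∈ autInducedBy S E2 from hr)
      obtain ⟨e0, he0, k, rfl⟩ := c.mem_dec hE2 hz2 hz2E hs
      refine ⟨k, autFun_inj fun x hx => ?_⟩
      show autFun (r : MulAut E2) x = autFun (τ ^ k) x
      rw [e x hx, hτpow k x hx, cj_mul, cj_apply (z2 ^ k),
        cj_apply, hE2ab e0 he0 _ (hn2 _ (S.pow_mem hz2 k) x hx), mul_inv_cancel_right])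
    hT (Subgroup.mem_sup_right (Subgroup.mem_zpowers a) : ae ∈ Zs.subgroupOf E2) hZne hE2card
    (by rw [Nat.card_congr (Subgroup.subgroupOfEquivOfLe hZsE2).toEquiv, hZscard])
    (fun h => ha1 (congrArg Subtype.val h))
  have hc2' : ∀ γ ∈ F.autGroup E2, autFun γ (c2 : Ω) ∈ Zs := fun γ hγ => by
    rw [autFun_coe]
    exact hc2 ⟨γ, hγ⟩
  have hfix2 : ∀ γ ∈ F.autGroup E2, autFun γ (c2 : Ω) ∈ C2 := fun γ hγ =>
    D2.fixed _ (autFun_mem γ c2.2) fun δ hδ => by
      rw [← autFun_mul _ _ c2.2]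
      exact hz2Zs _ (hc2' _ ((F.autGroup E2).mul_mem hδ hγ))
  obtain ⟨β2, hβ2, hβ2a, hβ2C⟩ := D2.ext
  have hC2d : C2 ≤ Subgroup.zpowers d := fun x hx =>
    hline β2 hβ2 hβ2a x (D2.C_le hx) (hβ2C x hx)
  have hc2d : (c2 : Ω) ∈ Subgroup.zpowers d := by
    have := hfix2 1 (F.autGroup E2).one_mem
    rw [autFun_one c2.2] at this
    exact hC2d this
  obtain ⟨m, hm⟩ := exists_pow_of_zpowers hdp hc2d
  obtain ⟨l, -, hl⟩ := Nat.exists_mul_mod_eq_one_of_coprime
    (Nat.coprime_comm.1 (hp.1.coprime_iff_not_dvd.2 fun h => hc21 (Subtype.ext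
      (hm.trans ((pow_eq_one_iff_dvd hdp hd1).2 h))))) hp.1.one_lt
  have hdl : d = (c2 : Ω) ^ l := by
    rw [hm, ← pow_mul, ← Nat.div_add_mod (m * l) p, hl, pow_add, pow_mul, hdp, one_pow, one_mul,
      pow_one]
  intro α hα x hx
  rw [Subgroup.zpowers_eq_closure] at hx
  refine mapsTo_closure α (t := {d})
    (Set.singleton_subset_iff.2 (hZsE2 (Subgroup.mem_sup_left hdC))) ?_ hx
  rintro y (rfl : y = d)
  rw [show autFun α y = autFun α (c2 : Ω) ^ l by rw [hdl, autFun_map_pow α c2.2]]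
  exact Subgroup.pow_mem _ (hC2d (hfix2 α hα)) l

end Ctx

end CfsgLib.Fusion.RankThreeNormal
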