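import Cfsg.Agent.Lib.Fusion.RankThreeNormal.Single
import Cfsg.Agent.Lib.Fusion.RankThreeNormal.Comm

/-!
# The orbit of the centre of order `p ^ 2`: first facts
-/

set_option autoImplicit false
set_option linter.unusedSectionVars false
set_option linter.style.haveILetI false

namespace CfsgLib.Fusion.RankThreeNormal

open Cfsg Cfsg.FusionSystem CfsgLib.Fusion CfsgLib.Fusion.RankThree
open scoped commutatorElement

universe u

variable {p : ℕ} [hp : Fact p.Prime] {Ω : Type u} [Group Ω] {S : Subgroup Ω} [Finite S]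
  {F : FusionSystem S} {E0 : Subgroup Ω}

namespace Single

variable (h : Single F p E0)
include h

theorem V_le_S : zc F p E0 ≤ S := (h.ctx.zc_le h.mov.1).trans (h.ctx.le h.mov.1)

theorem comm_V {v s : Ω} (hv : v ∈ zc F p E0) (hs : s ∈ S) : ⁅v, s⁆ ∈ omegaZ p S :=
  comm_swap_mem (comm_mem_chain h.ctx.pS h.V_le_S (h.ctx.le_zc h.mov.1) omegaZ_nrm
    (h.ctx.zc_nrm h.mov.1) (by rw [h.card_eq.1, h.card_eq.2]) hs hv)

theorem not_inv_Z_at : ¬ Inv F E0 (omegaZ p S) := h.mov.2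

/-- No line of the orbit is invariant at `E0`. -/
theorem false_of_line {d : Ω} (hd : d ∈ zc F p E0) (hd1 : d ≠ 1)
    (hinv : ∀ α ∈ F.autGroup E0, autFun α d ∈ Subgroup.zpowers d) : False := by
  have c := h.ctx
  have hdp : d ^ p = 1 := (c.zc_elem h.mov.1).2 d hd
  have hdE : d ∈ E0 := c.zc_le h.mov.1 hd
  have hdS := h.V_le_S hd
  have hdZ : d ∈ omegaZ p S := mem_omegaZ.2 ⟨hdS, hdp, fun s hs => by
    obtain ⟨α, hα, e⟩ := c.exists_conjAut h.mov.1 hs
    obtain ⟨m, hm⟩ := exists_pow_of_zpowers hdp (hinv α hα)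
    obtain ⟨k, hk⟩ := c.pS ⟨s, hs⟩
    exact (commute_of_normalises (congrArg Subtype.val hk) hdp ⟨m, by rw [← e d hdE, hm]⟩).symm⟩
  refine h.mov.2 fun α hα x hx => ?_
  have hαd : autFun α d ∈ omegaZ p S := by
    obtain ⟨m, hm⟩ := exists_pow_of_zpowers hdp (hinv α hα)
    rw [hm]
    exact (omegaZ p S).pow_mem hdZ m
  exact (c.inv_at_of_card h.card_eq.1 (c.omegaZ_le' h.mov.1) hdZ hd1 hαd x hx).1

/-- A subgroup between the centre and the orbit of the mover keeps the orbit. -/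
theorem not_comm_Z {E : Subgroup Ω} (hE : F.IsEssential p E) (hne : E ≠ E0)
    (hmove : ¬ Inv F E (zc F p E0)) {U : Subgroup Ω} (hUE : U ≤ E) (hVU : zc F p E0 ≤ U)
    (hU : Inv F E U) (hc : ∀ s ∈ S, ∀ w ∈ U, ⁅s, w⁆ ∈ omegaZ p S) : False :=
  hmove (h.ctx.inv_of_quot hE hUE (h.inv_Z hE hne) hU hc (h.ctx.le_zc h.mov.1) hVU h.inv_V)

/-- Facts about the orbit of the orbit in another essential subgroup. -/
theorem mover_facts {E : Subgroup Ω} (hE : F.IsEssential p E) (hne : E ≠ E0) :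
    let W := orb F E (zc F p E0)
    W ≤ E ∧ zc F p E0 ≤ W ∧ Inv F E W ∧ Nrm S W ∧ (∀ w ∈ W, ∀ e ∈ E, ⁅w, e⁆ ∈ omegaZ p S) ∧
      (∀ w ∈ W, w ^ p = 1) ∧ Nat.card W ≤ p ^ 4 := by
  intro W
  have c := h.ctx
  have hES := c.le hE
  have hVE := h.V_le hE
  have hWE : W ≤ E := orb_le hVE
  have hWS : W ≤ S := hWE.trans hES
  haveI : Finite W := finite_of_le hWS
  have hset := orb_set_subset (F := F) hVE
  have hZn : Nrm E (omegaZ p S) := fun s hs => omegaZ_nrm s (hES hs)
  have hc : ∀ w ∈ W, ∀ e ∈ E, ⁅w, e⁆ ∈ omegaZ p S := fun w hw e he =>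
    comm_mem_closure hZn (t := {x | ∃ γ ∈ F.autGroup E, ∃ a ∈ zc F p E0, x = autFun γ a}) hset
      (Q := (E : Set Ω)) (fun x hx y hy => by
        obtain ⟨γ, hγ, v, hv, rfl⟩ := hx
        rw [← autFun_inv_right γ hy, ← autFun_map_comm γ (hVE hv) (autFun_mem _ hy)]
        exact h.inv_Z hE hne γ hγ _ (h.comm_V hv (hES (autFun_mem _ hy)))) hw he
  have hp1 : ∀ w ∈ W, w ^ p = 1 := pow_p_eq_one_of_closure c.p2 rfl (fun x hx => by
    obtain ⟨γ, hγ, v, hv, rfl⟩ := hx
    rw [← autFun_map_pow γ (hVE hv), (c.zc_elem h.mov.1).2 v hv, autFun_map_one])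
    fun a ha b hb => by
      obtain ⟨-, h1, h2⟩ := mem_omegaZ.1 (hc a ha b (hWE hb))
      exact ⟨h1, fun d hd => h2 d (hWS hd)⟩
  refine ⟨hWE, le_orb hVE, orb_inv hVE, nrm_of_inv (c.nrm E hE) hES hWE (orb_inv hVE), hc, hp1, ?_⟩
  have hZW : omegaZ p S ≤ W := (c.le_zc h.mov.1).trans (le_orb hVE)
  obtain ⟨V', _, _, ⟨s⟩⟩ := exists_secMap (p := p) (A := W.subgroupOf S)
    (B := (omegaZ p S).subgroupOf S) (Subgroup.comap_mono hZW)
    (fun a _ b hb => omegaZ_nrm (p := p) (S := S) (a : Ω) a.2 (b : Ω) hb)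
    (fun a ha b hb => hc (a : Ω) ha (b : Ω) (hWE hb))
    (fun a ha => by
      show ((a : Ω) ^ p) ∈ omegaZ p S
      rw [hp1 a ha]; exact one_mem _)
  have h1 := s.card_mul
  rw [Nat.card_congr (Subgroup.subgroupOfEquivOfLe hWS).toEquiv,
    Nat.card_congr (Subgroup.subgroupOfEquivOfLe
      (fun x hx => (mem_omegaZ.1 hx).1 : omegaZ p S ≤ S)).toEquiv, h.card_eq.1] at h1
  rw [← h1, pow_succ]
  exact Nat.mul_le_mul_right p (s.card_le c.rank)

set_option maxHeartbeats 1600000 in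
/-- A moved orbit stays inside `E0`. -/
theorem orb_le_E0 {E : Subgroup Ω} (hE : F.IsEssential p E) (hne : E ≠ E0) :
    orb F E (zc F p E0) ≤ E0 := by
  classical
  by_contra hle
  have c := h.ctx
  set V := zc F p E0 with hVdef
  set Z := omegaZ p S with hZdef
  set W := orb F E V
  obtain ⟨hWE, hVW, -, hWn, hWc, hWp, hW4⟩ := h.mover_facts hE hne
  obtain ⟨u, hu, huE⟩ := SetLike.not_le_iff_exists.1 hle
  have hE0S := c.le h.mov.1
  have hVE0 : V ≤ E0 := c.zc_le h.mov.1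
  have hVS := h.V_le_S
  have hWS : W ≤ S := hWE.trans (c.le hE)
  have huS := hWS hu
  have hZV : Z ≤ V := c.le_zc h.mov.1
  haveI : Finite V := finite_of_le hVS
  haveI : Finite W := finite_of_le hWS
  haveI : Finite E0 := finite_of_le hE0S
  haveI := finite_mulAut (P := E0) hE0S
  obtain ⟨hZc, hVc⟩ := h.card_eq
  have hVe : Elem p V := c.zc_elem h.mov.1
  obtain ⟨γ, hγ, ζ, hζ, hout⟩ := c.mov_moves h.mov
  have hζ1 : ζ ≠ 1 := fun e => hout (by rw [e, autFun_map_one]; exact one_mem _)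
  have hζp := (mem_omegaZ.1 hζ).2.1
  have hZeq : Z = Subgroup.zpowers ζ := by
    haveI : Finite Z := finite_of_le fun x hx => (mem_omegaZ.1 hx).1
    exact (Subgroup.eq_of_le_of_card_ge (Subgroup.zpowers_le.2 hζ)
      (by rw [card_zpowers_prime hζp hζ1, hZc])).symm
  set v0 := autFun γ ζ
  have hv0 : v0 ∈ V := mem_orb hγ hζ
  have hv0p := hVe.2 v0 hv0
  have hcen : ∀ x ∈ E0, x ^ p = 1 → (∀ e ∈ E0, x * e = e * x) → u * x = x * u → x ∈ Z :=
    fun x hx hxp hxE hxu => mem_omegaZ.2 ⟨hE0S hx, hxp, fun s hs => by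
      obtain ⟨e, he, i, rfl⟩ := c.mem_dec h.mov.1 huS huE hs
      exact ((show Commute x e from hxE e he).mul_right
        ((show Commute x u from hxu.symm).pow_right i)).eq⟩
  have hucomm : u * v0 ≠ v0 * u := fun e =>
    hout (hcen v0 (hVE0 hv0) hv0p (fun _ he => c.zc_central h.mov.1 hv0 he) e)
  obtain ⟨n, hn⟩ : ∃ n : ℕ, ⁅u, v0⁆ = ζ ^ n :=
    exists_pow_of_zpowers hζp (hZeq.le (comm_swap_mem (h.comm_V hv0 huS)))
  have hnd : ¬ p ∣ n := fun hd => hucomm (commutatorElement_eq_one_iff_mul_comm.1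
    (hn.trans ((pow_eq_one_iff_dvd hζp hζ1).2 hd)))
  have huv0 : u * v0 * u⁻¹ = v0 * ζ ^ n := by
    rw [← ((show Commute ζ v0 from (mem_omegaZ.1 hζ).2.2 v0 (hVS hv0)).pow_left n).eq, ← hn]
    group
  set A' := W ⊓ E0
  have hA'c : Nat.card A' * p = Nat.card W := c.card_inf_mul h.mov.1 hWS fun hl => huE (hl hu)
  have hA'S : A' ≤ S := inf_le_left.trans hWS
  haveI : Finite A' := finite_of_le hA'S
  by_cases hA : A' ≤ V
  · -- the meet is the orbit
    have huE' : ∀ e ∈ E0, e⁻¹ * (u * e * u⁻¹) ∈ V := fun e he => hA ⟨by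
      rw [show e⁻¹ * (u * e * u⁻¹) = (e⁻¹ * u * e) * u⁻¹ by group]
      exact W.mul_mem (by simpa using hWn e⁻¹ (S.inv_mem (hE0S he)) u hu) (W.inv_mem hu),
      E0.mul_mem (E0.inv_mem he) (c.nrm' h.mov.1 u huS e he)⟩
    obtain ⟨τ, hτF, hτ⟩ := c.exists_conjAut h.mov.1 huS
    let K : Subgroup (MulAut E0) :=
      { carrier := {g | g ∈ F.autGroup E0 ∧ ∀ e ∈ E0, e⁻¹ * autFun g e ∈ V}
        one_mem' := ⟨(F.autGroup E0).one_mem, fun e he => by
          rw [autFun_one he, inv_mul_cancel]; exact one_mem _⟩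
        mul_mem' := fun {a b} ha hb => ⟨(F.autGroup E0).mul_mem ha.1 hb.1, fun e he => by
          rw [autFun_mul _ _ he, show e⁻¹ * autFun a (autFun b e) = (e⁻¹ * autFun b e) *
            ((autFun b e)⁻¹ * autFun a (autFun b e)) by group]
          exact mul_mem (hb.2 e he) (ha.2 _ (autFun_mem b he))⟩
        inv_mem' := fun {a} ha => ⟨(F.autGroup E0).inv_mem ha.1, fun e he => by
          have h1 := ha.2 _ (autFun_mem a⁻¹ he)
          rw [autFun_inv_right a he] at h1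
          simpa using V.inv_mem h1⟩ }
    have hτK : τ ∈ K := ⟨hτF, fun e he => by rw [hτ e he]; exact huE' e he⟩
    set τ' := γ * τ * γ⁻¹
    have hτ'K : τ' ∈ K := ⟨(F.autGroup E0).mul_mem ((F.autGroup E0).mul_mem hγ hτF)
      ((F.autGroup E0).inv_mem hγ), fun e he => by
        rw [show τ' = γ * τ * γ⁻¹ from rfl, autFun_mul _ _ he, autFun_mul _ _ (autFun_mem _ he)]
        have h1 := hτK.2 _ (autFun_mem γ⁻¹ he)
        have h2 := c.zc_inv h.mov.1 γ hγ _ h1
        rw [autFun_map_mul γ (E0.inv_mem (autFun_mem _ he)) (autFun_mem _ (autFun_mem _ he)),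
          autFun_inv_map γ (autFun_mem _ he), autFun_inv_right γ he] at h2
        exact h2⟩
    have hζE : ζ ∈ E0 := c.omegaZ_le' h.mov.1 hζ
    have hτζ : autFun τ ζ = ζ := by
      rw [hτ ζ hζE, ← (mem_omegaZ.1 hζ).2.2 u huS, mul_inv_cancel_right]
    have hτv : autFun τ v0 = v0 * ζ ^ n := by rw [hτ v0 (hVE0 hv0), huv0]
    have hτ'v : autFun τ' v0 = v0 := by
      rw [autFun_mul _ _ (hVE0 hv0), autFun_inv_left γ hζE, autFun_mul _ _ hζE, hτζ]
    obtain ⟨m, hmd, hτ'ζ⟩ : ∃ m : ℕ, ¬ p ∣ m ∧ autFun τ' ζ = ζ * v0 ^ m := by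
      set w := autFun γ⁻¹ ζ
      have hw : w ∈ V := mem_orb ((F.autGroup E0).inv_mem hγ) hζ
      obtain ⟨m, hm⟩ := exists_pow_of_zpowers hζp (hZeq.le (comm_swap_mem (h.comm_V hw huS)))
      have hwZ : w ∉ Z := fun hwZ => hout (by
        have h1 := (c.inv_at_of_card hZc (c.omegaZ_le' h.mov.1) hζ hζ1 hwZ ζ hζ).2
        rwa [inv_inv] at h1)
      refine ⟨m, fun hd => hwZ (hcen w (hVE0 hw) (hVe.2 w hw)
        (fun _ he => c.zc_central h.mov.1 hw he) (commutatorElement_eq_one_iff_mul_comm.1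
          (hm.trans ((pow_eq_one_iff_dvd hζp hζ1).2 hd)))), ?_⟩
      rw [show τ' = γ * τ * γ⁻¹ from rfl, autFun_mul _ _ hζE, autFun_mul _ _ (autFun_mem _ hζE),
        hτ _ (autFun_mem _ hζE), show u * w * u⁻¹ = ⁅u, w⁆ * w by group, hm,
        autFun_map_mul γ (E0.pow_mem hζE m) (autFun_mem _ hζE), autFun_map_pow γ hζE,
        autFun_inv_right γ hζE]
      exact ((show Commute ζ v0 from (mem_omegaZ.1 hζ).2.2 v0 (hVS hv0)).symm.pow_left m).eq
    obtain ⟨g, hg, hgζ, hgv⟩ := exists_neg (p := p) hτK hτ'K hζE (hVE0 hv0) hζp hv0p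
      ((mem_omegaZ.1 hζ).2.2 v0 (hVS hv0)) hnd hmd hτζ hτv hτ'v hτ'ζ
    have hVdec : ∀ v ∈ V, ∃ i j : ℕ, v = ζ ^ i * v0 ^ j := by
      intro v hv
      obtain ⟨z, hz, j, rfl⟩ := exists_dec c.pS hVS hZV (by rw [hZc, hVc]) hv0 hout hv
      obtain ⟨i, rfl⟩ := exists_pow_of_zpowers hζp (hZeq.le hz)
      exact ⟨i, j, rfl⟩
    have hgV : ∀ v ∈ V, autFun g v = v⁻¹ := by
      intro v hv
      obtain ⟨i, j, rfl⟩ := hVdec v hv
      rw [autFun_map_mul g (E0.pow_mem hζE i) (E0.pow_mem (hVE0 hv0) j), autFun_map_pow g hζE,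
        autFun_map_pow g (hVE0 hv0), hgζ, hgv, inv_pow, inv_pow, mul_inv_rev]
      exact (((show Commute ζ v0 from (mem_omegaZ.1 hζ).2.2 v0 (hVS hv0)).pow_pow i j).inv_inv).eq
    -- the involution
    obtain ⟨e1, f, hf, hef⟩ := Nat.exists_eq_pow_mul_and_not_dvd (orderOf_pos g).ne' p hp.1.ne_one
    set j := g ^ p ^ e1
    have hjK : j ∈ K := K.pow_mem hg _
    have hjV : ∀ v ∈ V, autFun j v = v⁻¹ := by
      have hodd : ∀ k : ℕ, Odd k → ∀ v ∈ V, autFun (g ^ k) v = v⁻¹ := by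
        rintro k ⟨l, rfl⟩ v hv
        have hev : ∀ l : ℕ, autFun (g ^ (2 * l)) v = v := by
          intro l
          induction l with
          | zero => rw [mul_zero, pow_zero, autFun_one (hVE0 hv)]
          | succ l ih =>
            rw [mul_add, mul_one, pow_add, autFun_mul _ _ (hVE0 hv), pow_two,
              autFun_mul _ _ (hVE0 hv), hgV v hv, hgV _ (V.inv_mem hv), inv_inv, ih]
        rw [pow_succ', autFun_mul _ _ (hVE0 hv), hev, hgV v hv]
      exact hodd _ ((hp.1.odd_of_ne_two c.p2).pow)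
    have hjj : j * j = 1 := by
      have hm : (j * j) ^ f = 1 := by
        rw [← pow_two, ← pow_mul, mul_comm, pow_mul, ← pow_mul g, ← hef, pow_orderOf_eq_one,
          one_pow]
      have hkp : (j * j) ^ p = 1 := by
        refine autFun_inj fun e he => ?_
        have hjjV : ∀ v ∈ V, autFun (j * j) v = v := fun v hv => by
          rw [autFun_mul _ _ (hVE0 hv), hjV v hv, hjV _ (V.inv_mem hv), inv_inv]
        set v := e⁻¹ * autFun (j * j) e
        have hv : v ∈ V := (K.mul_mem hjK hjK).2 e he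
        have hk : ∀ k : ℕ, autFun ((j * j) ^ k) e = e * v ^ k := by
          intro k
          induction k with
          | zero => simp [autFun_one he]
          | succ k ih =>
            rw [pow_succ', autFun_mul _ _ he, ih, autFun_map_mul _ he (E0.pow_mem (hVE0 hv) k),
              autFun_map_pow _ (hVE0 hv), hjjV v hv,
              show autFun (j * j) e = e * v from (mul_inv_cancel_left _ _).symm, mul_assoc,
              ← pow_succ']
        rw [hk, hVe.2 v hv, mul_one, autFun_one he]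
      rw [← orderOf_eq_one_iff]
      exact Nat.eq_one_of_dvd_coprimes (hp.1.coprime_iff_not_dvd.2 hf)
        (orderOf_dvd_of_pow_eq_one hkp) (orderOf_dvd_of_pow_eq_one hm)
    let C0 : Subgroup Ω :=
      { carrier := {e | e ∈ E0 ∧ autFun j e = e}
        one_mem' := ⟨one_mem _, autFun_map_one j⟩
        mul_mem' := fun {a b} ha hb => ⟨mul_mem ha.1 hb.1, by
          rw [autFun_map_mul j ha.1 hb.1, ha.2, hb.2]⟩
        inv_mem' := fun {a} ha => ⟨inv_mem ha.1, by rw [autFun_inv_map j ha.1, ha.2]⟩ }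
    obtain ⟨q, hq⟩ := hp.1.odd_of_ne_two c.p2
    have hdec : ∀ e ∈ E0, ∃ v ∈ V, ∃ x ∈ C0, e = v * x := by
      intro e he
      set d := e⁻¹ * autFun j e
      have hd : d ∈ V := hjK.2 e he
      refine ⟨(d ^ (q + 1))⁻¹, inv_mem (pow_mem hd _), e * d ^ (q + 1),
        ⟨mul_mem he (pow_mem (hVE0 hd) _), ?_⟩, ?_⟩
      · have hje : autFun j e = e * d := (mul_inv_cancel_left _ _).symm
        rw [autFun_map_mul j he (pow_mem (hVE0 hd) _), autFun_map_pow j (hVE0 hd), hjV d hd, hje,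
          mul_assoc, mul_right_inj, inv_pow, mul_inv_eq_iff_eq_mul, ← pow_add,
          show q + 1 + (q + 1) = p + 1 by omega, pow_succ, hVe.2 d hd, one_mul]
      · rw [← (show Commute (d ^ (q + 1)) e from
          c.zc_central h.mov.1 (pow_mem hd _) he).eq, inv_mul_cancel_left]
    have hVC : ∀ x ∈ C0, x ∈ V → x = 1 := by
      intro x hx hxV
      have h1 := hx.2
      rw [hjV x hxV, inv_eq_iff_mul_eq_one] at h1
      have h2 := hVe.2 x hxV
      rw [hq, pow_succ, pow_mul, pow_two, h1, one_pow, one_mul] at h2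
      exact h2
    -- the stabiliser of the orbit and its quotient is inner, hence trivial
    have hstab : ∀ g ∈ K, (∀ v ∈ V, autFun g v = v) → g = 1 := by
      intro g hg hgV'
      let K0 : Subgroup (MulAut E0) :=
        { carrier := {g | g ∈ K ∧ ∀ v ∈ V, autFun g v = v}
          one_mem' := ⟨one_mem _, fun v hv => autFun_one (hVE0 hv)⟩
          mul_mem' := fun {a b} ha hb => ⟨mul_mem ha.1 hb.1, fun v hv => by
            rw [autFun_mul _ _ (hVE0 hv), hb.2 v hv, ha.2 v hv]⟩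
          inv_mem' := fun {a} ha => ⟨inv_mem ha.1, fun v hv => by
            conv_lhs => rw [← ha.2 v hv]
            rw [autFun_inv_left a (hVE0 hv)]⟩ }
      have hK0p : IsPGroup p K0 := fun ⟨a, ha⟩ => ⟨1, Subtype.ext (by
        show a ^ p ^ 1 = 1
        rw [pow_one]
        refine autFun_inj fun e he => ?_
        set v := e⁻¹ * autFun a e
        have hv : v ∈ V := ha.1.2 e he
        have hk : ∀ k : ℕ, autFun (a ^ k) e = e * v ^ k := by
          intro k
          induction k with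
          | zero => simp [autFun_one he]
          | succ k ih =>
            rw [pow_succ', autFun_mul _ _ he, ih, autFun_map_mul _ he (E0.pow_mem (hVE0 hv) k),
              autFun_map_pow _ (hVE0 hv), ha.2 v hv,
              show autFun a e = e * v from (mul_inv_cancel_left _ _).symm, mul_assoc,
              ← pow_succ']
        rw [hk, hVe.2 v hv, mul_one, autFun_one he])⟩
      have hinn : g ∈ Inn E0 := by
        refine le_inn_of_radical (essential_radical c.pS h.mov.1) (K := K0) (fun a ha => ha.1.1) hK0p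
          ?_ ⟨hg, hgV'⟩
        rintro a ha k ⟨⟨hk, hkV⟩, hkfix⟩
        refine ⟨⟨(F.autGroup E0).mul_mem ((F.autGroup E0).mul_mem ha hk) ((F.autGroup E0).inv_mem ha),
          fun e he => ?_⟩, fun v hv => ?_⟩
        · rw [autFun_mul _ _ he, autFun_mul _ _ (autFun_mem _ he)]
          have h2 := c.zc_inv h.mov.1 a ha _ (hkV _ (autFun_mem a⁻¹ he))
          rw [autFun_map_mul a (E0.inv_mem (autFun_mem _ he)) (autFun_mem _ (autFun_mem _ he)),
            autFun_inv_map a (autFun_mem _ he), autFun_inv_right a he] at h2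
          exact h2
        · rw [autFun_mul _ _ (hVE0 hv), autFun_mul _ _ (autFun_mem _ (hVE0 hv)),
            hkfix _ (c.zc_inv h.mov.1 _ ((F.autGroup E0).inv_mem ha) v hv),
            autFun_inv_right a (hVE0 hv)]
      obtain ⟨y, hy, hye⟩ := mem_inn.1 hinn
      refine autFun_inj fun e he => ?_
      rw [autFun_one he, hye e he, cj_apply, mul_inv_eq_iff_eq_mul]
      obtain ⟨vy, hvy, xy, hxy, rfl⟩ := hdec y hy
      obtain ⟨ve, hve, xe, hxe, rfl⟩ := hdec e he
      have hvc : ∀ {a : Ω}, a ∈ V → ∀ b ∈ E0, Commute a b := fun ha b hb =>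
        c.zc_central h.mov.1 ha hb
      have hxx : Commute xy xe := by
        rw [← commutatorElement_eq_one_iff_commute]
        refine hVC _ (by
          rw [commutatorElement_def]
          exact mul_mem (mul_mem (mul_mem hxy hxe) (inv_mem hxy)) (inv_mem hxe)) ?_
        have h1 := hg.2 xe hxe.1
        rw [hye xe hxe.1, cj_apply] at h1
        have h2 : (vy * xy) * xe * (vy * xy)⁻¹ = xy * xe * xy⁻¹ := by
          rw [show (vy * xy) * xe * (vy * xy)⁻¹ = vy * (xy * xe * xy⁻¹) * vy⁻¹ by group,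
            (hvc hvy _ (mul_mem (mul_mem hxy.1 hxe.1) (inv_mem hxy.1))).eq, mul_inv_cancel_right]
        rw [h2] at h1
        rw [show ⁅xy, xe⁆ = xe * (xe⁻¹ * (xy * xe * xy⁻¹)) * xe⁻¹ by group,
          ← (hvc h1 xe hxe.1).eq, mul_inv_cancel_right]
        exact h1
      exact (((hvc hvy _ (mul_mem (hVE0 hve) hxe.1)).mul_left
        (((hvc hve xy hxy.1).symm).mul_right hxx))).eq
    -- `u` centralises the complement
    have hjτ : j * τ * j⁻¹ * τ⁻¹ = 1 := by
      refine hstab _ (mul_mem (mul_mem (mul_mem hjK hτK) (inv_mem hjK)) (inv_mem hτK)) fun v hv => ?_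
      have hji : j⁻¹ = j := inv_eq_of_mul_eq_one_right hjj
      have hw : autFun τ⁻¹ v ∈ V := c.zc_inv h.mov.1 _ ((F.autGroup E0).inv_mem hτF) v hv
      rw [autFun_mul _ _ (hVE0 hv), autFun_mul _ _ (hVE0 hw), hji, hjV _ hw,
        autFun_mul _ _ (hVE0 (V.inv_mem hw)), autFun_inv_map τ (hVE0 hw),
        autFun_inv_right τ (hVE0 hv), hjV _ (V.inv_mem hv), inv_inv]
    have huC : ∀ x ∈ C0, u * x = x * u := by
      intro x hx
      have hjτ' : j * τ = τ * j := mul_inv_eq_iff_eq_mul.1 (mul_inv_eq_one.1 hjτ)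
      have h1 : autFun j (autFun τ x) = autFun τ x := by
        rw [← autFun_mul _ _ hx.1, hjτ', autFun_mul _ _ hx.1, hx.2]
      have h2 : x⁻¹ * autFun τ x = 1 := hVC _
        (C0.mul_mem (C0.inv_mem hx) ⟨autFun_mem τ hx.1, h1⟩) (hτK.2 x hx.1)
      rw [inv_mul_eq_one] at h2
      have h3 := hτ x hx.1
      rw [← h2, eq_comm, mul_inv_eq_iff_eq_mul] at h3
      exact h3
    have hC0 : ∀ x ∈ C0, x = 1 := by
      by_contra! hC
      obtain ⟨x, hx, hx1⟩ := hC
      have hC0S : C0 ≤ S := fun e he => hE0S he.1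
      haveI : Finite C0 := finite_of_le hC0S
      haveI : Nontrivial C0 := ⟨⟨x, hx⟩, 1, fun e => hx1 (congrArg Subtype.val e)⟩
      have hC0p : IsPGroup p C0 := isPGroup_of_le hC0S c.pS
      haveI := hC0p.center_nontrivial
      have hd : p ∣ Nat.card (Subgroup.center C0) :=
        (hC0p.to_subgroup _).card_eq_or_dvd.resolve_left fun e =>
          not_subsingleton (Subgroup.center C0) (Nat.card_eq_one_iff_unique.1 e).1
      obtain ⟨⟨⟨w, hw⟩, hwc⟩, hwo⟩ := exists_prime_orderOf_dvd_card' p hd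
      have hwp : w ^ p = 1 := by
        have h1 := congrArg (fun y : Subgroup.center C0 => ((y : C0) : Ω))
          (pow_orderOf_eq_one (⟨⟨w, hw⟩, hwc⟩ : Subgroup.center C0))
        rw [hwo] at h1
        simpa using h1
      have hw1 : w = 1 := hVC w hw (hZV (hcen w hw.1 hwp (fun e he => by
        obtain ⟨v, hv, y, hy, rfl⟩ := hdec e he
        exact ((show Commute v w from c.zc_central h.mov.1 hv hw.1).symm.mul_right
          (congrArg Subtype.val (Subgroup.mem_center_iff.1 hwc ⟨y, hy⟩)).symm).eq) (huC w hw)))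
      rw [show (⟨⟨w, hw⟩, hwc⟩ : Subgroup.center C0) = 1 from Subtype.ext (Subtype.ext hw1),
        orderOf_one] at hwo
      exact hp.1.one_lt.ne hwo
    refine c.false_of_small ?_ huS (hVS hv0) hucomm
    rw [← c.card h.mov.1, show p ^ 3 = (p * p) * p by ring]
    refine Nat.mul_le_mul_right p ?_
    rw [← hVc]
    exact Subgroup.card_le_of_le fun e he => by
      obtain ⟨v, hv, y, hy, rfl⟩ := hdec e he
      rw [hC0 y hy, mul_one]
      exact hv
  -- the meet is larger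
  obtain ⟨a0, ha0, ha0V⟩ := SetLike.not_le_iff_exists.1 hA
  have hVA : V ≤ A' := le_inf hVW hVE0
  have hA3 : p ^ 3 ≤ Nat.card A' := by
    have h1 := lt_card_mul c.pS hA'S (lt_of_le_of_ne hVA fun e => ha0V (e.ge ha0))
    rw [hVc] at h1
    rwa [show p ^ 3 = p * p * p by ring]
  have hA3' : Nat.card A' = p ^ 3 := by
    refine le_antisymm (Nat.le_of_mul_le_mul_right ?_ hp.1.pos) hA3
    rw [hA'c, show p ^ 3 * p = p ^ 4 by ring]
    exact hW4
  have hVA' : Nat.card V * p = Nat.card A' := by rw [hVc, hA3']; ring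
  obtain ⟨i, hi⟩ := exists_pow_of_zpowers hζp (hZeq.le (comm_swap_mem (hWc a0 ha0.1 u (hWE hu))))
  obtain ⟨k, hk⟩ : ∃ k : ℕ, p ∣ i + n * k := by
    refine ⟨(-(i : ZMod p) / (n : ZMod p)).val, (ZMod.natCast_eq_zero_iff _ p).1 ?_⟩
    have hn0 : (n : ZMod p) ≠ 0 := fun e => hnd ((ZMod.natCast_eq_zero_iff n p).1 e)
    rw [Nat.cast_add, Nat.cast_mul, ZMod.natCast_zmod_val, mul_div_cancel₀ _ hn0, add_neg_cancel]
  set a := a0 * v0 ^ k
  have haA : a ∈ A' := mul_mem ha0 (hVA (pow_mem hv0 k))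
  have haV : a ∉ V := fun e => ha0V ((V.mul_mem_cancel_right (pow_mem hv0 k)).1 e)
  have hζc : ∀ l : ℕ, ∀ s ∈ S, Commute (ζ ^ l) s := fun l s hs =>
    (show Commute ζ s from (mem_omegaZ.1 hζ).2.2 s hs).pow_left l
  have hua : u * a = a * u := by
    refine commutatorElement_eq_one_iff_mul_comm.1 ?_
    rw [show ⁅u, a⁆ = ⁅u, a0⁆ * (a0 * ⁅u, v0 ^ k⁆ * a0⁻¹) from comm_mul_right _ _ _,
      comm_pow_right (by rw [hn]; exact ((hζc n v0 (hVS hv0)).symm).eq), hi, hn, ← pow_mul,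
      ((hζc (n * k) a0 (hWS ha0.1)).symm).eq, mul_inv_cancel_right, ← pow_add,
      pow_eq_one_iff_dvd hζp hζ1]
    exact hk
  have hdecA : ∀ x ∈ A', ∃ v ∈ V, ∃ l : ℕ, x = v * a ^ l := fun x hx =>
    exists_dec c.pS hA'S hVA hVA' haA haV hx
  have hA'e : Elem p A' := by
    refine ⟨fun x hx y hy => ?_, fun x hx => hWp x hx.1⟩
    obtain ⟨v, hv, l, rfl⟩ := hdecA x hx
    obtain ⟨w, hw, l', rfl⟩ := hdecA y hy
    have hva : ∀ {v : Ω}, v ∈ V → ∀ e ∈ E0, Commute v e := fun hv e he =>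
      c.zc_central h.mov.1 hv he
    exact ((hva hv _ (mul_mem (hVE0 hw) (pow_mem haA.2 l'))).mul_left
      (((hva hw a haA.2).symm.pow_left l).mul_right ((Commute.refl a).pow_pow l l'))).eq
  -- the commutators with the whole group lie in the centre
  set L := omegaZ p S ⊔ Subgroup.zpowers a
  have hLA : L ≤ A' := sup_le (hZV.trans hVA) (Subgroup.zpowers_le.2 haA)
  have hLu : ∀ x ∈ A', u * x = x * u → x ∈ L := by
    intro x hx hxu
    obtain ⟨v, hv, l, rfl⟩ := hdecA x hx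
    have hvu : Commute u v := by
      have h1 := (show Commute u (v * a ^ l) from hxu).mul_right
        ((show Commute u a from hua).pow_right l).inv_right
      rwa [mul_inv_cancel_right] at h1
    exact mul_mem (Subgroup.mem_sup_left (hcen v (hVE0 hv) (hVe.2 v hv)
      (fun _ he => c.zc_central h.mov.1 hv he) hvu.eq))
      (Subgroup.mem_sup_right (Subgroup.npow_mem_zpowers a l))
  have hWdec : ∀ x ∈ W, ∃ y ∈ A', ∃ l : ℕ, x = y * u ^ l := fun x hx =>
    exists_dec c.pS hWS inf_le_left hA'c hu (fun e => huE e.2) hx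
  have hcW : ∀ x ∈ L, ∀ w ∈ W, x * w = w * x := by
    intro x hx w hw
    obtain ⟨y, hy, l, rfl⟩ := hWdec w hw
    have hxu : Commute x u := by
      have : L ≤ Subgroup.centralizer {u} := by
        refine sup_le (fun z hz => ?_) (Subgroup.zpowers_le.2 ?_) <;>
          rw [Subgroup.mem_centralizer_singleton_iff]
        · exact (mem_omegaZ.1 hz).2.2 u huS
        · exact hua.symm
      exact Subgroup.mem_centralizer_singleton_iff.1 (this hx)
    exact ((show Commute x y from hA'e.1 x (hLA hx) y hy).mul_right (hxu.pow_right l)).eq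
  have hLn : Nrm S L := by
    intro s hs x hx
    have hxW : x ∈ W := (hLA hx).1
    have hy : s * x * s⁻¹ ∈ A' := ⟨hWn s hs x hxW, c.nrm' h.mov.1 s hs x (hLA hx).2⟩
    refine hLu _ hy ?_
    have hu' : s⁻¹ * u * s ∈ W := by simpa using hWn s⁻¹ (S.inv_mem hs) u hu
    have h1 := hcW x hx _ hu'
    calc u * (s * x * s⁻¹) = s * ((s⁻¹ * u * s) * x) * s⁻¹ := by group
      _ = s * (x * (s⁻¹ * u * s)) * s⁻¹ := by rw [h1]
      _ = s * x * s⁻¹ * u := by group
  have haZ : a ∉ Z := fun e => haV (hZV e)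
  have hLc : Nat.card L = Nat.card Z * p :=
    card_sup_comm (fun x hx => ((mem_omegaZ.1 hx).2.2 a (hA'S haA)).symm) (hWp a haA.1) haZ
  have hZn' : Nrm S Z := omegaZ_nrm
  have hA'c2 : ∀ x ∈ A', ∀ e ∈ E0, ⁅x, e⁆ ∈ Z := by
    intro x hx e he
    have hle : A' ≤ commSet S (S : Set Ω) Z hZn' := fun y hy => by
      obtain ⟨v, hv, l, rfl⟩ := hdecA y hy
      have ha2 : a ∈ commSet S (S : Set Ω) Z hZn' := ⟨hA'S haA, fun s hs =>
        comm_swap_mem (comm_mem_chain c.pS (hLA.trans hA'S) le_sup_left hZn' hLn hLc.symm hs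
          (Subgroup.mem_sup_right (Subgroup.mem_zpowers a)))⟩
      exact mul_mem ⟨hVS hv, fun s hs => h.comm_V hv hs⟩ (pow_mem ha2 l)
    exact (hle hx).2 e (hE0S he)
  obtain ⟨-, hA'cen⟩ := c.inv_of_comm_Z h.mov hZc inf_le_right hA'e hA3 hA'c2
  exact haZ (hcen a haA.2 (hWp a haA.1) (hA'cen a haA) hua)

end Single

end CfsgLib.Fusion.RankThreeNormal
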