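import Cfsg.Agent.Lib.Fusion.RankThreeNormal.Centre
import Cfsg.Agent.Lib.Fusion.RankTwoAux

/-!
# A single essential subgroup moves the centre: the orbit of order `p ^ 3`
-/

set_option autoImplicit false
set_option linter.unusedSectionVars false
set_option linter.style.haveILetI false

namespace CfsgLib.Fusion.RankThreeNormal

open Cfsg Cfsg.FusionSystem CfsgLib.Fusion CfsgLib.Fusion.RankThree
open scoped commutatorElement

universe u

variable {p : ℕ} [hp : Fact p.Prime] {Ω : Type u} [Group Ω] {S : Subgroup Ω} [Finite S]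
  {F : FusionSystem S}

/-- Exactly one essential subgroup moves the centre. -/
structure Single (F : FusionSystem S) (p : ℕ) (E0 : Subgroup Ω) : Prop where
  ctx : Ctx F p
  nsp : ¬ SpShape S p
  mov : Mov F p E0
  uniq : ∀ E, Mov F p E → E = E0

namespace Single

variable {E0 : Subgroup Ω} (h : Single F p E0)
include h

theorem V_le {E : Subgroup Ω} (hE : F.IsEssential p E) : zc F p E0 ≤ E :=
  h.ctx.zc_le_essential h.nsp h.mov hE

theorem inv_E0 : Inv F S E0 := fun β hβ x hx => by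
  rw [← h.uniq _ (h.ctx.mov_image h.mov hβ).1]
  exact mem_img_of_mem _ hx

theorem inv_V : Inv F S (zc F p E0) := fun β hβ v hv => by
  have h1 := h.ctx.mov_image h.mov hβ
  have h2 := h1.2 v hv
  rwa [h.uniq _ h1.1] at h2

theorem inv_Z {E : Subgroup Ω} (hE : F.IsEssential p E) (hne : E ≠ E0) :
    Inv F E (omegaZ p S) :=
  h.ctx.inv_of_not_mov hE fun hm => hne (h.uniq E hm)

theorem exists_restrict {β : MulAut S} (hβ : β ∈ F.autGroup S) :
    ∃ δ ∈ F.autGroup E0, ∀ x ∈ E0, autFun δ x = autFun β x := by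
  have hf := (isMor_autFun le_rfl hβ).restrict (h.ctx.le h.mov.1)
  exact exists_aut hf (hf.img_eq_self (h.inv_E0 β hβ))

theorem exists_mover : ∃ E, F.IsEssential p E ∧ E ≠ E0 ∧ ¬ Inv F E (zc F p E0) := by
  by_contra! hall
  obtain ⟨ζ, hζ, hζ1⟩ := h.ctx.exists_omegaZ
  refine h.ctx.false_of_invariant (h.ctx.le_zc h.mov.1 hζ) hζ1
    ((h.ctx.zc_le h.mov.1).trans (h.ctx.le h.mov.1)) h.inv_V fun E hE => ⟨h.V_le hE, ?_⟩
  by_cases he : E = E0
  · subst he
    exact h.ctx.zc_inv h.mov.1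
  · exact hall E hE he

theorem mem_E0 {g : Ω} (hg : g ∈ S) (hc : ∀ v ∈ zc F p E0, g * v = v * g) : g ∈ E0 :=
  h.ctx.mem_of_commute_zc h.mov hg hc

set_option maxHeartbeats 1600000 in
/-- The orbit of the centre has order `p ^ 2`. -/
theorem card_le : Nat.card (zc F p E0) ≤ p * p := by
  classical
  have c := h.ctx
  by_contra hgt
  set V := zc F p E0 with hVdef
  have hE0S := c.le h.mov.1
  have hVE0 : V ≤ E0 := c.zc_le h.mov.1
  have hVS : V ≤ S := hVE0.trans hE0S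
  haveI : Finite V := finite_of_le hVS
  haveI : Finite E0 := finite_of_le hE0S
  haveI := finite_mulAut (P := E0) hE0S
  have hVe : Elem p V := c.zc_elem h.mov.1
  have hV3 : Nat.card V = p ^ 3 := by
    refine le_antisymm (card_le_of_elementary c.rank hVS hVe.1 hVe.2) ?_
    obtain ⟨k, hk⟩ := (isPGroup_of_le hVS c.pS).exists_card_eq
    rw [hk] at hgt ⊢
    refine Nat.pow_le_pow_right hp.1.pos (Nat.lt_of_not_le fun hk2 => hgt ?_)
    rw [← pow_two]
    exact Nat.pow_le_pow_right hp.1.pos hk2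
  obtain ⟨E, hE, hne, hmove⟩ := h.exists_mover
  obtain ⟨α, hα, v1, hv1, hout⟩ : ∃ α ∈ F.autGroup E, ∃ v ∈ V, autFun α v ∉ V := by
    by_contra! hall
    exact hmove hall
  have hf := (isMor_autFun (c.le hE) hα).restrict (h.V_le hE)
  set V' := img V (autFun α)
  have hV'S : V' ≤ S := hf.img_le
  haveI : Finite V' := finite_of_le hV'S
  have hV'e : Elem p V' := hVe.img hf
  obtain ⟨u, hu, huE⟩ : ∃ u ∈ V', u ∉ E0 := by
    by_contra! hall
    exact hout (eq_of_commute c.rank hVS hV'S hVe.1 hV'e.1 hVe.2 hV'e.2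
      (fun x hx y hy => c.zc_central h.mov.1 hx (hall y hy)) hV3.ge (mem_img_of_mem _ hv1))
  have huS := hV'S hu
  -- the meet is central of order `p ^ 2`
  have hmeet : V' ⊓ E0 ≤ V := eq_of_commute c.rank hVS (inf_le_left.trans hV'S) hVe.1
    (hV'e.mono inf_le_left).1 hVe.2 (hV'e.mono inf_le_left).2
    (fun x hx y hy => c.zc_central h.mov.1 hx hy.2) hV3.ge
  haveI : Finite (omegaZ p S) := finite_of_le fun x hx => (mem_omegaZ.1 hx).1
  have hmeetZ : V' ⊓ E0 ≤ omegaZ p S := fun y hy => by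
    refine mem_omegaZ.2 ⟨hVS (hmeet hy), hVe.2 y (hmeet hy), fun s hs => ?_⟩
    obtain ⟨e, he, i, rfl⟩ := c.mem_dec h.mov.1 huS huE hs
    exact ((show Commute y e from c.zc_central h.mov.1 (hmeet hy) he).mul_right
      ((show Commute y u from hV'e.1 y hy.1 u hu).pow_right i)).eq
  have hcm := c.card_inf_mul h.mov.1 hV'S fun hle => huE (hle hu)
  rw [hf.card_img, hV3, show p ^ 3 = p ^ 2 * p by ring] at hcm
  have hZlo : p ^ 2 ≤ Nat.card (omegaZ p S) :=
    (Nat.eq_of_mul_eq_mul_right hp.1.pos hcm).symm.le.trans (Subgroup.card_le_of_le hmeetZ)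
  have hZc : Nat.card (omegaZ p S) = p ^ 2 := by
    refine le_antisymm (Nat.le_of_mul_le_mul_right (c := p) ?_ hp.1.pos) hZlo
    exact (c.mov_card h.mov).trans (le_of_eq (by rw [show Nat.card (zc F p E0) = p ^ 3 from hV3]; ring))
  set Z := omegaZ p S
  have hZV : Z ≤ V := c.le_zc h.mov.1
  have hVn : Nrm S V := c.zc_nrm h.mov.1
  have hZpV : Nat.card Z * p = Nat.card V := by rw [hZc, hV3]; ring
  have huV : ∀ v ∈ V, ⁅u, v⁆ ∈ Z := fun v hv =>
    comm_mem_chain c.pS hVS hZV omegaZ_nrm hVn hZpV huS hv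
  obtain ⟨v0, hv0, hv0Z⟩ := SetLike.exists_of_lt
    (lt_of_le_of_ne hZV fun e => c.zc_not_le h.mov e.ge)
  set a := ⁅u, v0⁆ with ha
  have haZ : a ∈ Z := huV v0 hv0
  have hcenV : ∀ v ∈ V, u * v = v * u → v ∈ Z := by
    intro v hv huv
    refine mem_omegaZ.2 ⟨hVS hv, hVe.2 v hv, fun s hs => ?_⟩
    obtain ⟨e, he, i, rfl⟩ := c.mem_dec h.mov.1 huS huE hs
    exact ((show Commute v e from c.zc_central h.mov.1 hv he).mul_right
      ((show Commute v u from huv.symm).pow_right i)).eq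
  have ha1 : a ≠ 1 := fun e => hv0Z (hcenV v0 hv0 (commutatorElement_eq_one_iff_mul_comm.1 e))
  -- the action on the orbit
  letI : CommGroup V :=
    { (inferInstance : Group V) with mul_comm := fun x y => Subtype.ext (hVe.1 _ x.2 _ y.2) }
  set σ := RankTwo.resHom (F := F) (E := E0) hVE0 (c.zc_inv h.mov.1)
  obtain ⟨τ, hτF, hτ⟩ := c.exists_conjAut h.mov.1 huS
  obtain ⟨-, R, hR⟩ := (isFullyAutomized_of_normalized c.pS c.sat h.mov.1.2.1).1
  have hτR : (⟨τ, hτF⟩ : F.autGroup E0) ∈ (R : Subgroup (F.autGroup E0)) := by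
    rw [hR]
    exact mem_autInducedBy.2 ⟨u, huS, c.nrm E0 h.mov.1 huS, hτ⟩
  have hσ : ∀ (γ : F.autGroup E0) (v : V), ((σ γ v : V) : Ω) = autFun (γ : MulAut E0) v :=
    fun γ v => RankTwo.resHom_coe hVE0 (c.zc_inv h.mov.1) γ v
  have hT : Transv (σ ⟨τ, hτF⟩) (⟨a, hZV haZ⟩ : V) (Z.subgroupOf V) := by
    refine ⟨fun w => ?_, fun w => ?_⟩
    · obtain ⟨ζ, hζ, i, hw⟩ := exists_dec c.pS hVS hZV hZpV hv0 hv0Z w.2
      refine ⟨i, Subtype.ext ?_⟩
      rw [hσ, hτ _ (hVE0 w.2), Subgroup.coe_mul, SubgroupClass.coe_pow]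
      show u * (w : Ω) * u⁻¹ = (w : Ω) * a ^ i
      have hua : u * v0 * u⁻¹ = a * v0 := by rw [ha]; group
      rw [hw, show u * (ζ * v0 ^ i) * u⁻¹ = (u * ζ * u⁻¹) * (u * v0 * u⁻¹) ^ i by
        rw [conj_pow]; group, ← (mem_omegaZ.1 hζ).2.2 u huS, mul_inv_cancel_right, hua,
        (show Commute a v0 from hVe.1 a (hZV haZ) v0 hv0).mul_pow,
        ((show Commute a v0 from hVe.1 a (hZV haZ) v0 hv0).pow_pow i i).eq, mul_assoc]
    · rw [Subtype.ext_iff, hσ, hτ _ (hVE0 w.2), mul_inv_eq_iff_eq_mul]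
      exact ⟨fun e => hcenV w w.2 e, fun e => ((mem_omegaZ.1 e).2.2 u huS).symm⟩
  obtain ⟨d, hd1, hd⟩ := exists_fixed_line (σ := σ) (fun w => Subtype.ext (hVe.2 w w.2)) hτR
    (fun r hr => by
      rw [hR] at hr
      obtain ⟨s, hs, -, e⟩ := mem_autInducedBy.1 (show (r : MulAut E0) ∈ autInducedBy S E0 from hr)
      obtain ⟨e0, he0, k, rfl⟩ := c.mem_dec h.mov.1 huS huE hs
      refine ⟨k, ?_⟩
      rw [← map_pow]
      refine MulEquiv.ext fun w => Subtype.ext ?_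
      rw [hσ, hσ, e _ (hVE0 w.2), cj_mul, cj_apply e0]
      have hpow : ∀ n : ℕ, autFun ((⟨τ, hτF⟩ : F.autGroup E0) ^ n : F.autGroup E0).1 w =
          cj (u ^ n) w := by
        intro n
        induction n with
        | zero =>
          show autFun (1 : MulAut E0) (w : Ω) = _
          rw [autFun_one (hVE0 w.2), pow_zero, cj_one]
        | succ n ih =>
          rw [pow_succ', Subgroup.coe_mul, autFun_mul _ _ (hVE0 w.2), pow_succ', cj_mul, ← ih,
            hτ _ (autFun_mem _ (hVE0 w.2)), cj_apply]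
      rw [hpow k, cj_apply (u ^ k), ← c.zc_central h.mov.1 (hVn _ (S.pow_mem huS k) _ w.2) he0,
        mul_inv_cancel_right])
    hT (show (⟨a, hZV haZ⟩ : V) ∈ Z.subgroupOf V from haZ)
    (fun e => hv0Z ((Subgroup.subgroupOf_eq_top.1 e) hv0)) hV3
    (by rw [Nat.card_congr (Subgroup.subgroupOfEquivOfLe hZV).toEquiv, hZc])
    (fun e => ha1 (congrArg Subtype.val e))
  let Y : Subgroup Ω :=
    { carrier := {x | x ∈ Z ∧ ∀ γ ∈ F.autGroup E0, autFun γ x ∈ Z}
      one_mem' := ⟨one_mem _, fun γ _ => by rw [autFun_map_one]; exact one_mem _⟩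
      mul_mem' := fun {x y} hx hy => ⟨mul_mem hx.1 hy.1, fun γ hγ => by
        rw [autFun_map_mul γ (c.omegaZ_le' h.mov.1 hx.1) (c.omegaZ_le' h.mov.1 hy.1)]
        exact mul_mem (hx.2 γ hγ) (hy.2 γ hγ)⟩
      inv_mem' := fun {x} hx => ⟨inv_mem hx.1, fun γ hγ => by
        rw [autFun_inv_map γ (c.omegaZ_le' h.mov.1 hx.1)]
        exact inv_mem (hx.2 γ hγ)⟩ }
  have hdY : (d : Ω) ∈ Y := by
    have hγ : ∀ γ ∈ F.autGroup E0, autFun γ (d : Ω) ∈ Z := fun γ hγ => by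
      rw [← hσ ⟨γ, hγ⟩ d]
      exact hd ⟨γ, hγ⟩
    have h1 := hγ 1 (F.autGroup E0).one_mem
    rw [autFun_one (hVE0 d.2)] at h1
    exact ⟨h1, hγ⟩
  have hYS : Inv F S Y := fun β hβ x hx => ⟨inv_omegaZ_self β hβ x hx.1, fun γ hγ => by
    obtain ⟨δ, hδ, e⟩ := h.exists_restrict hβ
    have hxE := c.omegaZ_le' h.mov.1 hx.1
    rw [← e x hxE, ← autFun_mul _ _ hxE]
    exact hx.2 _ ((F.autGroup E0).mul_mem hγ hδ)⟩
  refine c.false_of_invariant hdY (fun e => hd1 (Subtype.ext e))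
    (fun x hx => (mem_omegaZ.1 hx.1).1) hYS fun E'' hE'' => ?_
  refine ⟨fun x hx => c.omegaZ_le' hE'' hx.1, ?_⟩
  by_cases he : E'' = E0
  · subst he
    intro α hα x hx
    refine ⟨hx.2 α hα, fun γ hγ => ?_⟩
    rw [← autFun_mul _ _ (c.omegaZ_le' h.mov.1 hx.1)]
    exact hx.2 _ ((F.autGroup E'').mul_mem hγ hα)
  · exact c.inv_of_fixed hE'' (c.omegaZ_le' hE'') (h.inv_Z hE'' he)
      (fun s hs x hx => by rw [← (mem_omegaZ.1 hx).2.2 s hs, mul_inv_cancel_right])
      (fun x hx => hx.1) hYS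

theorem card_eq : Nat.card (omegaZ p S) = p ∧ Nat.card (zc F p E0) = p * p := by
  have h1 := h.ctx.mov_card h.mov
  have h2 := h.card_le
  have h3 := h.ctx.card_omegaZ_pos
  exact ⟨le_antisymm (Nat.le_of_mul_le_mul_right (h1.trans h2) hp.1.pos) h3,
    le_antisymm h2 ((Nat.mul_le_mul_right p h3).trans h1)⟩

end Single

end CfsgLib.Fusion.RankThreeNormal
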