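import Cfsg.Agent.Lib.Fusion.RankThreeNormal.SpData
import Cfsg.Agent.Lib.Classical.SympOrder

/-!
# A group of the shape `SpShape` is a Sylow subgroup of the symplectic group
-/

set_option autoImplicit false
set_option linter.unusedSectionVars false
set_option linter.style.haveILetI false
set_option linter.unusedSimpArgs false

namespace CfsgLib.Fusion.RankThreeNormal

open Cfsg Cfsg.FusionSystem CfsgLib.Fusion CfsgLib.Fusion.RankThree
open scoped commutatorElement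

universe u v

variable {p : ℕ} [hp : Fact p.Prime]

section Shape

variable {Ω : Type u} [Group Ω] {S : Subgroup Ω}

/-- A normal subgroup of a nilpotent group strictly contains its commutator with the group. -/
theorem commutator_top_lt {G : Type u} [Group G] [Group.IsNilpotent G] {N : Subgroup G} [N.Normal]
    (hN : N ≠ ⊥) : ⁅N, (⊤ : Subgroup G)⁆ < N := by
  refine lt_of_le_of_ne (Subgroup.commutator_le_left N ⊤) fun h => hN (eq_bot_iff.2 ?_)
  have hle : ∀ n, N ≤ (⊤ : Subgroup G).lowerCentralSeries n := by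
    intro n
    induction n with
    | zero => simp
    | succ n ih => exact h.ge.trans (Subgroup.commutator_mono ih le_rfl)
  exact (hle _).trans (Subgroup.lowerCentralSeries_nilpotencyClass (G := G)).le

/-- Generators of the normal form. -/
structure SpGens {X : Type*} [Group X] (p : ℕ) (a₁ a₂ a₃ x : X) : Prop where
  p₁ : a₁ ^ p = 1
  p₂ : a₂ ^ p = 1
  p₃ : a₃ ^ p = 1
  px : x ^ p = 1
  c₁₂ : a₁ * a₂ = a₂ * a₁
  c₁₃ : a₁ * a₃ = a₃ * a₁
  c₂₃ : a₂ * a₃ = a₃ * a₂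
  h₁ : x * a₁ * x⁻¹ = a₂ * a₁
  h₂ : x * a₂ * x⁻¹ = a₃ * a₂
  h₃ : x * a₃ * x⁻¹ = a₃

theorem exists_spGens [Finite S] (hS : IsPGroup p S) (h : SpShape S p) :
    ∃ a₁ a₂ a₃ x : Ω, a₁ ∈ S ∧ a₂ ∈ S ∧ a₃ ∈ S ∧ x ∈ S ∧ SpGens p a₁ a₂ a₃ x ∧
      Nat.card S = p ^ 4 ∧
      ∀ s ∈ S, ∃ i j k l : ℕ, s = a₁ ^ i * a₂ ^ j * a₃ ^ k * x ^ l := by
  obtain ⟨A, x, hAS, hAe, hAn, hAc, hSc, hx, hxA, hxp, a, ha, hne⟩ := h
  haveI : Finite A := finite_of_le hAS
  haveI : Group.IsNilpotent S := hS.isNilpotent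
  have hcm : ∀ b ∈ A, ⁅x, b⁆ ∈ A := fun b hb => by
    rw [commutatorElement_def]
    exact A.mul_mem (hAn x hx b hb) (A.inv_mem hb)
  set a₂ := ⁅x, a⁆ with ha₂
  set a₃ := ⁅x, a₂⁆ with ha₃
  set a₄ := ⁅x, a₃⁆ with ha₄
  have h2 : a₂ ∈ A := hcm a ha
  have h3 : a₃ ∈ A := hcm a₂ h2
  -- the commutator series
  haveI hN0n : (A.subgroupOf S).Normal := hAn.normal_subgroupOf
  set N0 := A.subgroupOf S
  set N1 := ⁅N0, (⊤ : Subgroup S)⁆
  set N2 := ⁅N1, (⊤ : Subgroup S)⁆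
  set N3 := ⁅N2, (⊤ : Subgroup S)⁆
  have hstep : ∀ (N : Subgroup S) (b : Ω) (hb : b ∈ S) (hc : ⁅x, b⁆ ∈ S), (⟨b, hb⟩ : S) ∈ N →
      (⟨⁅x, b⁆, hc⟩ : S) ∈ ⁅N, (⊤ : Subgroup S)⁆ := by
    intro N b hb hc hbN
    rw [Subgroup.commutator_comm]
    exact Subgroup.commutator_mem_commutator (Subgroup.mem_top (⟨x, hx⟩ : S)) hbN
  have m1 : (⟨a₂, hAS h2⟩ : S) ∈ N1 := hstep N0 a (hAS ha) _ ha
  have m2 : (⟨a₃, hAS h3⟩ : S) ∈ N2 := hstep N1 a₂ (hAS h2) _ m1
  have m3 : (⟨a₄, hAS (hcm a₃ h3)⟩ : S) ∈ N3 := hstep N2 a₃ (hAS h3) _ m2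
  have hN2 : N2 ≠ ⊥ := fun e => by
    rw [e, Subgroup.mem_bot] at m2
    exact hne (congrArg Subtype.val m2)
  have l21 : N2 ≤ N1 := Subgroup.commutator_le_left N1 ⊤
  have l10 : N1 ≤ N0 := Subgroup.commutator_le_left N0 ⊤
  have hN1 : N1 ≠ ⊥ := fun e => hN2 (eq_bot_iff.2 (e ▸ l21))
  have hN0 : N0 ≠ ⊥ := fun e => hN1 (eq_bot_iff.2 (e ▸ l10))
  have hT : IsPGroup p (⊤ : Subgroup S) := hS.to_subgroup ⊤
  have k1 := lt_card_mul hT le_top (commutator_top_lt hN0)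
  have k2 := lt_card_mul hT le_top (commutator_top_lt hN1)
  have k3 := lt_card_mul hT le_top (commutator_top_lt hN2)
  have hN0c : Nat.card N0 = p ^ 3 := by
    rw [Nat.card_congr (Subgroup.subgroupOfEquivOfLe hAS).toEquiv, hAc]
  have hN3 : Nat.card N3 ≤ 1 := by
    have hp0 := hp.1.pos
    have h' : Nat.card N3 * p ^ 3 ≤ 1 * p ^ 3 := by
      calc Nat.card N3 * p ^ 3 = Nat.card N3 * p * (p * p) := by ring
        _ ≤ Nat.card N2 * (p * p) := Nat.mul_le_mul_right _ k3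
        _ = Nat.card N2 * p * p := by ring
        _ ≤ Nat.card N1 * p := Nat.mul_le_mul_right _ k2
        _ ≤ Nat.card N0 := k1
        _ = 1 * p ^ 3 := by rw [hN0c, one_mul]
    exact Nat.le_of_mul_le_mul_right h' (by positivity)
  have h4 : a₄ = 1 := by
    rw [Subgroup.eq_bot_of_card_le N3 hN3, Subgroup.mem_bot] at m3
    exact congrArg Subtype.val m3
  have hc3 : x * a₃ = a₃ * x := commutatorElement_eq_one_iff_mul_comm.1 h4
  have g : SpGens p a a₂ a₃ x :=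
    { p₁ := hAe.2 a ha
      p₂ := hAe.2 _ h2
      p₃ := hAe.2 _ h3
      px := hxp
      c₁₂ := hAe.1 a ha _ h2
      c₁₃ := hAe.1 a ha _ h3
      c₂₃ := hAe.1 _ h2 _ h3
      h₁ := by rw [ha₂]; group
      h₂ := by rw [ha₃]; group
      h₃ := by rw [hc3, mul_inv_cancel_right] }
  refine ⟨a, a₂, a₃, x, hAS ha, hAS h2, hAS h3, hx, g, hSc, ?_⟩
  -- the elements `a, a₂, a₃` generate `A`
  have h31 : a₃ ≠ 1 := hne
  have n2 : a₂ ∉ Subgroup.zpowers a₃ := fun hmem => hne (by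
    obtain ⟨i, hi⟩ := exists_pow_of_zpowers g.p₃ hmem
    rw [commutatorElement_eq_one_iff_mul_comm, hi]
    exact ((show Commute x a₃ from hc3).pow_right i).eq)
  set Z := Subgroup.zpowers a₃ ⊔ Subgroup.zpowers a₂
  have hZA : Z ≤ A := sup_le (Subgroup.zpowers_le.2 h3) (Subgroup.zpowers_le.2 h2)
  have hZ : Nat.card Z = p * p := by
    rw [card_sup_comm (fun k hk => hAe.1 a₂ h2 k (Subgroup.zpowers_le.2 h3 hk)) g.p₂ n2,
      card_zpowers_prime g.p₃ h31]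
  have n1 : a ∉ Z := fun hmem => by
    obtain ⟨u, hu, w, hw, e⟩ := mem_sup_zpowers g.c₂₃.symm hmem
    obtain ⟨k, rfl⟩ := exists_pow_of_zpowers g.p₃ hu
    obtain ⟨j, rfl⟩ := exists_pow_of_zpowers g.p₂ hw
    refine hne ?_
    have h5 : x * a * x⁻¹ = a₃ ^ j * a := by
      rw [← e, show x * (a₃ ^ k * a₂ ^ j) * x⁻¹ = (x * a₃ * x⁻¹) ^ k * (x * a₂ * x⁻¹) ^ j by
        rw [conj_pow, conj_pow]; group, g.h₃, g.h₂, (show Commute a₃ a₂ from g.c₂₃.symm).mul_pow,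
        ← mul_assoc, ← mul_assoc, ((Commute.refl a₃).pow_pow k j).eq]
    rw [g.h₁, mul_left_inj] at h5
    rw [ha₃, h5, commutatorElement_eq_one_iff_mul_comm]
    exact ((show Commute x a₃ from hc3).pow_right j).eq
  have hA : Z ⊔ Subgroup.zpowers a = A :=
    Subgroup.eq_of_le_of_card_ge (sup_le hZA (Subgroup.zpowers_le.2 ha)) (by
      rw [card_sup_comm (fun k hk => hAe.1 a ha k (hZA hk)) g.p₁ n1, hZ, hAc]
      exact le_of_eq (by ring))
  have hdecA : ∀ b ∈ A, ∃ i j k : ℕ, b = a ^ i * a₂ ^ j * a₃ ^ k := by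
    intro b hb
    rw [← hA] at hb
    have hb' : b ∈ (Subgroup.zpowers a ⊔ Z : Subgroup Ω) := by rwa [sup_comm]
    have hn : Subgroup.zpowers a ≤ Subgroup.normalizer (Z : Set Ω) := by
      refine Subgroup.zpowers_le.2 (Subgroup.centralizer_le_normalizer _
        (Subgroup.mem_centralizer_iff.2 fun k hk => ?_))
      exact (hAe.1 a ha k (hZA hk)).symm
    rw [← SetLike.mem_coe, Subgroup.coe_mul_of_left_le_normalizer_right _ _ hn] at hb'
    obtain ⟨u, hu, w, hw, rfl⟩ := hb'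
    obtain ⟨i, rfl⟩ := exists_pow_of_zpowers g.p₁ hu
    obtain ⟨s, hs, t, ht, rfl⟩ := mem_sup_zpowers g.c₂₃.symm hw
    obtain ⟨k, rfl⟩ := exists_pow_of_zpowers g.p₃ hs
    obtain ⟨j, rfl⟩ := exists_pow_of_zpowers g.p₂ ht
    exact ⟨i, j, k, by
      show a ^ i * (a₃ ^ k * a₂ ^ j) = a ^ i * a₂ ^ j * a₃ ^ k
      rw [((show Commute a₃ a₂ from g.c₂₃.symm).pow_pow k j).eq, ← mul_assoc]⟩
  intro s hs
  obtain ⟨b, hb, l, rfl⟩ := exists_dec hS le_rfl hAS (by rw [hAc, hSc]; ring) hx hxA hs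
  obtain ⟨i, j, k, rfl⟩ := hdecA b hb
  exact ⟨i, j, k, l, rfl⟩

end Shape

section Model

open Matrix

/-- The symplectic group in dimension four. -/
abbrev SpFour (p : ℕ) [Fact p.Prime] : Type := ↥(Matrix.symplecticGroup (Fin 2) (ZMod p))

/-- A symmetric two by two matrix. -/
def sym (s t u : ZMod p) : Matrix (Fin 2) (Fin 2) (ZMod p) := !![s, t; t, u]

theorem shear_mem (s t u : ZMod p) :
    fromBlocks 1 (sym s t u) 0 1 ∈ Matrix.symplecticGroup (Fin 2) (ZMod p) := by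
  rw [SymplecticGroup.fromBlocks_mem_iff]
  refine ⟨by simp, ?_, by simp⟩
  ext i j
  fin_cases i <;> fin_cases j <;> simp [sym]

/-- A shear. -/
def shear (s t u : ZMod p) : SpFour p := ⟨_, shear_mem s t u⟩

/-- The top left block of the Levi element. -/
def uMat (l : ZMod p) : Matrix (Fin 2) (Fin 2) (ZMod p) := !![1, l; 0, 1]

/-- The bottom right block of the Levi element. -/
def wMat (l : ZMod p) : Matrix (Fin 2) (Fin 2) (ZMod p) := !![1, 0; -l, 1]

theorem levi_mem (l : ZMod p) :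
    fromBlocks (uMat l) 0 0 (wMat l) ∈ Matrix.symplecticGroup (Fin 2) (ZMod p) := by
  rw [SymplecticGroup.fromBlocks_mem_iff]
  refine ⟨by simp, by simp, ?_⟩
  ext i j
  fin_cases i <;> fin_cases j <;> simp [uMat, wMat, Matrix.mul_apply, Fin.sum_univ_two]

/-- A Levi element. -/
def levi (l : ZMod p) : SpFour p := ⟨_, levi_mem l⟩

theorem shear_zero : shear (0 : ZMod p) 0 0 = 1 := by
  refine Subtype.ext ?_
  show fromBlocks 1 (sym (0 : ZMod p) 0 0) 0 1 = 1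
  rw [← fromBlocks_one]
  congr 1
  ext i j
  fin_cases i <;> fin_cases j <;> simp [sym]

theorem shear_mul (s t u s' t' u' : ZMod p) :
    shear s t u * shear s' t' u' = shear (s + s') (t + t') (u + u') := by
  refine Subtype.ext ?_
  show fromBlocks 1 (sym s t u) 0 1 * fromBlocks 1 (sym s' t' u') 0 1 =
    fromBlocks 1 (sym (s + s') (t + t') (u + u')) 0 1
  rw [fromBlocks_multiply]
  congr 1 <;> ext i j <;> fin_cases i <;> fin_cases j <;>
    simp [sym, Matrix.mul_apply, Fin.sum_univ_two] <;> ring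

theorem shear_pow (s t u : ZMod p) : ∀ n : ℕ,
    shear s t u ^ n = shear ((n : ZMod p) * s) ((n : ZMod p) * t) ((n : ZMod p) * u)
  | 0 => by simp [shear_zero]
  | n + 1 => by rw [pow_succ, shear_pow s t u n, shear_mul]; push_cast; congr 1 <;> ring

theorem levi_zero : levi (0 : ZMod p) = 1 := by
  refine Subtype.ext ?_
  show fromBlocks (uMat (0 : ZMod p)) 0 0 (wMat 0) = 1
  rw [← fromBlocks_one]
  congr 1 <;> ext i j <;> fin_cases i <;> fin_cases j <;> simp [uMat, wMat]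

theorem levi_mul (l l' : ZMod p) : levi l * levi l' = levi (l + l') := by
  refine Subtype.ext ?_
  show fromBlocks (uMat l) 0 0 (wMat l) * fromBlocks (uMat l') 0 0 (wMat l') =
    fromBlocks (uMat (l + l')) 0 0 (wMat (l + l'))
  rw [fromBlocks_multiply]
  congr 1 <;> ext i j <;> fin_cases i <;> fin_cases j <;>
    simp [uMat, wMat, Matrix.mul_apply, Fin.sum_univ_two] <;> ring

theorem levi_pow (l : ZMod p) : ∀ n : ℕ, levi l ^ n = levi ((n : ZMod p) * l)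
  | 0 => by simp [levi_zero]
  | n + 1 => by rw [pow_succ, levi_pow l n, levi_mul]; push_cast; congr 1; ring

theorem levi_shear (s t u : ZMod p) :
    levi 1 * shear s t u = shear (s + 2 * t + u) (t + u) u * levi 1 := by
  refine Subtype.ext ?_
  show fromBlocks (uMat (1 : ZMod p)) 0 0 (wMat 1) * fromBlocks 1 (sym s t u) 0 1 =
    fromBlocks 1 (sym (s + 2 * t + u) (t + u) u) 0 1 * fromBlocks (uMat (1 : ZMod p)) 0 0 (wMat 1)
  rw [fromBlocks_multiply, fromBlocks_multiply]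
  congr 1 <;> ext i j <;> fin_cases i <;> fin_cases j <;>
    simp [sym, uMat, wMat, Matrix.mul_apply, Fin.sum_univ_two] <;> ring

/-- A shear times a Levi element is trivial only trivially. -/
theorem shear_levi_eq_one {s t u l : ZMod p} (h : shear s t u * levi l = 1) :
    s = 0 ∧ t = 0 ∧ u = 0 ∧ l = 0 := by
  have h' : fromBlocks 1 (sym s t u) 0 1 * fromBlocks (uMat l) 0 0 (wMat l) = fromBlocks 1 0 0 1 := by
    rw [fromBlocks_one]
    exact congrArg Subtype.val h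
  rw [fromBlocks_multiply, fromBlocks_inj] at h'
  obtain ⟨h1, h2, -, -⟩ := h'
  have hl : l = 0 := by simpa [uMat] using congrFun (congrFun h1 0) 1
  subst hl
  have hw : wMat (0 : ZMod p) = 1 := by
    ext i j; fin_cases i <;> fin_cases j <;> simp [wMat]
  simp only [Matrix.one_mul, Matrix.mul_zero, zero_add, hw, Matrix.mul_one] at h2
  exact ⟨by simpa [sym] using congrFun (congrFun h2 0) 0, by simpa [sym] using congrFun (congrFun h2 0) 1,
    by simpa [sym] using congrFun (congrFun h2 1) 1, rfl⟩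

theorem spGens_model : SpGens p (shear (p := p) 0 0 1) (shear 1 1 0) (shear 2 0 0) (levi 1) where
  p₁ := by simp [shear_pow, shear_zero]
  p₂ := by simp [shear_pow, shear_zero]
  p₃ := by simp [shear_pow, shear_zero]
  px := by simp [levi_pow, levi_zero]
  c₁₂ := by simp [shear_mul]
  c₁₃ := by simp [shear_mul]
  c₂₃ := by simp only [shear_mul]; congr 1 <;> ring
  h₁ := by
    rw [levi_shear, mul_inv_cancel_right, shear_mul]
    congr 1 <;> ring
  h₂ := by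
    rw [levi_shear, mul_inv_cancel_right, shear_mul]
    congr 1 <;> ring
  h₃ := by
    rw [levi_shear, mul_inv_cancel_right]
    congr 1 <;> ring

theorem model_inj (hp2 : p ≠ 2) {i j k l : ℕ}
    (h : (shear (p := p) 0 0 1) ^ i * shear 1 1 0 ^ j * shear 2 0 0 ^ k * levi 1 ^ l = 1) :
    p ∣ i ∧ p ∣ j ∧ p ∣ k ∧ p ∣ l := by
  simp only [shear_pow, levi_pow, shear_mul, mul_zero, mul_one, add_zero, zero_add] at h
  obtain ⟨hs, ht, hu, hl⟩ := shear_levi_eq_one h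
  have h2 : (2 : ZMod p) ≠ 0 := fun h => by
    have h' : ((2 : ℕ) : ZMod p) = 0 := by simpa using h
    rw [ZMod.natCast_eq_zero_iff] at h'
    exact hp2 ((Nat.prime_dvd_prime_iff_eq hp.1 Nat.prime_two).1 h')
  rw [ht, zero_add, mul_eq_zero, or_iff_left h2] at hs
  exact ⟨(ZMod.natCast_eq_zero_iff _ _).1 hu, (ZMod.natCast_eq_zero_iff _ _).1 ht,
    (ZMod.natCast_eq_zero_iff _ _).1 hs, (ZMod.natCast_eq_zero_iff _ _).1 hl⟩

end Model

/-- The products in normal form make up the subgroup generated. -/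
theorem SpGens.exists_subgroup {X : Type*} [Group X] [Finite X] {a₁ a₂ a₃ x : X}
    (g : SpGens p a₁ a₂ a₃ x) :
    ∃ K : Subgroup X, (a₁ ∈ K ∧ a₂ ∈ K ∧ a₃ ∈ K ∧ x ∈ K) ∧
      (∀ k ∈ K, ∃ i j m l : ℕ, k = a₁ ^ i * a₂ ^ j * a₃ ^ m * x ^ l) ∧ Nat.card K ≤ p ^ 4 := by
  haveI : NeZero p := ⟨hp.1.ne_zero⟩
  set M := Subgroup.zpowers a₁ ⊔ (Subgroup.zpowers a₂ ⊔ Subgroup.zpowers a₃)
  have m1 : a₁ ∈ M := Subgroup.mem_sup_left (Subgroup.mem_zpowers _)
  have m2 : a₂ ∈ M := Subgroup.mem_sup_right (Subgroup.mem_sup_left (Subgroup.mem_zpowers _))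
  have m3 : a₃ ∈ M := Subgroup.mem_sup_right (Subgroup.mem_sup_right (Subgroup.mem_zpowers _))
  have hxM : ∀ k ∈ M, x * k * x⁻¹ ∈ M := by
    have hle : M ≤ M.comap (MulAut.conj x).toMonoidHom := by
      refine sup_le (Subgroup.zpowers_le.2 ?_) (sup_le (Subgroup.zpowers_le.2 ?_)
        (Subgroup.zpowers_le.2 ?_)) <;> rw [Subgroup.mem_comap]
      · show x * a₁ * x⁻¹ ∈ M
        rw [g.h₁]; exact mul_mem m2 m1
      · show x * a₂ * x⁻¹ ∈ M
        rw [g.h₂]; exact mul_mem m3 m2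
      · show x * a₃ * x⁻¹ ∈ M
        rw [g.h₃]; exact m3
    exact fun k hk => hle hk
  have hpow : ∀ n : ℕ, ∀ k ∈ M, x ^ n * k * (x ^ n)⁻¹ ∈ M := by
    intro n
    induction n with
    | zero => simp
    | succ n ih =>
      intro k hk
      rw [pow_succ', show x * x ^ n * k * (x * x ^ n)⁻¹ = x * (x ^ n * k * (x ^ n)⁻¹) * x⁻¹ by group]
      exact hxM _ (ih k hk)
  have hxinv : x⁻¹ = x ^ (p - 1) := inv_eq_of_mul_eq_one_right (by
    rw [← pow_succ', Nat.sub_add_cancel hp.1.one_le, g.px])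
  have hxN : Subgroup.zpowers x ≤ Subgroup.normalizer (M : Set X) := by
    refine Subgroup.zpowers_le.2 (Subgroup.mem_normalizer_iff.2 fun k => ⟨hxM k, fun hk => ?_⟩)
    have h := hpow (p - 1) _ hk
    rw [← hxinv] at h
    simpa [mul_assoc] using h
  refine ⟨Subgroup.zpowers x ⊔ M, ⟨Subgroup.mem_sup_right m1, Subgroup.mem_sup_right m2,
    Subgroup.mem_sup_right m3, Subgroup.mem_sup_left (Subgroup.mem_zpowers _)⟩, ?_⟩
  have hdec : ∀ k ∈ (Subgroup.zpowers x ⊔ M : Subgroup X),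
      ∃ i j m l : ℕ, k = a₁ ^ i * a₂ ^ j * a₃ ^ m * x ^ l := by
    intro k hk
    rw [sup_comm, ← SetLike.mem_coe, Subgroup.coe_mul_of_right_le_normalizer_left _ _ hxN] at hk
    obtain ⟨u, hu, w, hw, rfl⟩ := hk
    obtain ⟨l, rfl⟩ := exists_pow_of_zpowers g.px hw
    have hn : Subgroup.zpowers a₁ ≤
        Subgroup.normalizer ((Subgroup.zpowers a₂ ⊔ Subgroup.zpowers a₃ : Subgroup X) : Set X) := by
      have hc : Subgroup.zpowers a₂ ⊔ Subgroup.zpowers a₃ ≤ Subgroup.centralizer {a₁} :=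
        sup_le (Subgroup.zpowers_le.2 (Subgroup.mem_centralizer_singleton_iff.2 g.c₁₂.symm))
          (Subgroup.zpowers_le.2 (Subgroup.mem_centralizer_singleton_iff.2 g.c₁₃.symm))
      refine Subgroup.zpowers_le.2 (Subgroup.centralizer_le_normalizer _
        (Subgroup.mem_centralizer_iff.2 fun k hk => ?_))
      exact Subgroup.mem_centralizer_singleton_iff.1 (hc hk)
    rw [Subgroup.coe_mul_of_left_le_normalizer_right _ _ hn] at hu
    obtain ⟨s, hs, t, ht, rfl⟩ := hu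
    obtain ⟨i, rfl⟩ := exists_pow_of_zpowers g.p₁ hs
    obtain ⟨y, hy, z, hz, rfl⟩ := mem_sup_zpowers g.c₂₃ ht
    obtain ⟨j, rfl⟩ := exists_pow_of_zpowers g.p₂ hy
    obtain ⟨m, rfl⟩ := exists_pow_of_zpowers g.p₃ hz
    exact ⟨i, j, m, l, by simp only [mul_assoc]⟩
  refine ⟨hdec, ?_⟩
  have hmem : ∀ v : Fin p × Fin p × Fin p × Fin p,
      a₁ ^ (v.1 : ℕ) * a₂ ^ (v.2.1 : ℕ) * a₃ ^ (v.2.2.1 : ℕ) * x ^ (v.2.2.2 : ℕ) ∈
        (Subgroup.zpowers x ⊔ M : Subgroup X) := fun v =>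
    mul_mem (Subgroup.mem_sup_right (mul_mem (mul_mem (pow_mem m1 _) (pow_mem m2 _)) (pow_mem m3 _)))
      (Subgroup.mem_sup_left (Subgroup.npow_mem_zpowers x _))
  have hsur : Function.Surjective fun v => (⟨_, hmem v⟩ : (Subgroup.zpowers x ⊔ M : Subgroup X)) := by
    rintro ⟨k, hk⟩
    obtain ⟨i, j, m, l, rfl⟩ := hdec k hk
    refine ⟨(⟨i % p, Nat.mod_lt _ hp.1.pos⟩, ⟨j % p, Nat.mod_lt _ hp.1.pos⟩,
      ⟨m % p, Nat.mod_lt _ hp.1.pos⟩, ⟨l % p, Nat.mod_lt _ hp.1.pos⟩), Subtype.ext ?_⟩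
    show a₁ ^ (i % p) * a₂ ^ (j % p) * a₃ ^ (m % p) * x ^ (l % p) = _
    rw [← pow_eq_pow_mod i g.p₁, ← pow_eq_pow_mod j g.p₂, ← pow_eq_pow_mod m g.p₃,
      ← pow_eq_pow_mod l g.px]
  refine (Nat.card_le_card_of_surjective _ hsur).trans (le_of_eq ?_)
  simp [Nat.card_eq_fintype_card]
  ring

variable {Ω : Type u} [Group Ω] {S : Subgroup Ω}

/-- A group of the shape `SpShape` is a Sylow subgroup of the symplectic group in dimension four. -/
theorem exists_sylow_of_spShape [Finite S] (hp2 : p ≠ 2) (hS : IsPGroup p S) (h : SpShape S p) :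
    ∃ P : Sylow p ↥(Matrix.symplecticGroup (Fin 2) (ZMod p)),
      Nonempty (↥S ≃* ↥(P : Subgroup ↥(Matrix.symplecticGroup (Fin 2) (ZMod p)))) := by
  classical
  haveI : NeZero p := ⟨hp.1.ne_zero⟩
  obtain ⟨a₁, a₂, a₃, x, e1, e2, e3, ex, g, hSc, hdec⟩ := exists_spGens hS h
  have q := spGens_model (p := p)
  let c1 : S × ↥(Matrix.symplecticGroup (Fin 2) (ZMod p)) := (⟨a₁, e1⟩, shear 0 0 1)
  let c2 : S × ↥(Matrix.symplecticGroup (Fin 2) (ZMod p)) := (⟨a₂, e2⟩, shear 1 1 0)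
  let c3 : S × ↥(Matrix.symplecticGroup (Fin 2) (ZMod p)) := (⟨a₃, e3⟩, shear 2 0 0)
  let cx : S × ↥(Matrix.symplecticGroup (Fin 2) (ZMod p)) := (⟨x, ex⟩, levi 1)
  have gp : SpGens p c1 c2 c3 cx :=
    { p₁ := Prod.ext (Subtype.ext g.p₁) q.p₁
      p₂ := Prod.ext (Subtype.ext g.p₂) q.p₂
      p₃ := Prod.ext (Subtype.ext g.p₃) q.p₃
      px := Prod.ext (Subtype.ext g.px) q.px
      c₁₂ := Prod.ext (Subtype.ext g.c₁₂) q.c₁₂
      c₁₃ := Prod.ext (Subtype.ext g.c₁₃) q.c₁₃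
      c₂₃ := Prod.ext (Subtype.ext g.c₂₃) q.c₂₃
      h₁ := Prod.ext (Subtype.ext g.h₁) q.h₁
      h₂ := Prod.ext (Subtype.ext g.h₂) q.h₂
      h₃ := Prod.ext (Subtype.ext g.h₃) q.h₃ }
  obtain ⟨K, ⟨k1, k2, k3, kx⟩, hKdec, hKcard⟩ := gp.exists_subgroup
  let π₁ : K →* S := (MonoidHom.fst S ↥(Matrix.symplecticGroup (Fin 2) (ZMod p))).comp K.subtype
  let π₂ : K →* ↥(Matrix.symplecticGroup (Fin 2) (ZMod p)) :=
    (MonoidHom.snd S ↥(Matrix.symplecticGroup (Fin 2) (ZMod p))).comp K.subtype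
  have hs : Function.Surjective π₁ := by
    rintro ⟨s, hs⟩
    obtain ⟨i, j, k, l, rfl⟩ := hdec s hs
    exact ⟨⟨c1 ^ i * c2 ^ j * c3 ^ k * cx ^ l, mul_mem (mul_mem (mul_mem (pow_mem k1 i)
      (pow_mem k2 j)) (pow_mem k3 k)) (pow_mem kx l)⟩, Subtype.ext rfl⟩
  have hb : Function.Bijective π₁ := by
    rw [Nat.bijective_iff_surjective_and_card]
    refine ⟨hs, le_antisymm ?_ (Nat.card_le_card_of_surjective π₁ hs)⟩
    rw [hSc]; exact hKcard
  have hi : Function.Injective π₂ := by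
    rw [injective_iff_map_eq_one]
    rintro ⟨k, hk⟩ hone
    obtain ⟨i, j, m, l, rfl⟩ := hKdec k hk
    obtain ⟨⟨i', rfl⟩, ⟨j', rfl⟩, ⟨m', rfl⟩, ⟨l', rfl⟩⟩ := model_inj hp2 hone
    refine Subtype.ext ?_
    show c1 ^ (p * i') * c2 ^ (p * j') * c3 ^ (p * m') * cx ^ (p * l') = 1
    simp only [pow_mul, gp.p₁, gp.p₂, gp.p₃, gp.px, one_pow, mul_one]
  have hc : Nat.card π₂.range = p ^ (Nat.card ↥(Matrix.symplecticGroup (Fin 2) (ZMod p))).factorization p := by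
    have e : Nat.card π₂.range = p ^ 4 := by
      rw [← Nat.card_congr (MonoidHom.ofInjective hi).toEquiv, Nat.card_eq_of_bijective π₁ hb, hSc]
    have e2 : (Nat.card ↥(Matrix.symplecticGroup (Fin 2) (ZMod p))).factorization p = 4 := by
      have hnd : ∀ n : ℕ, 0 < n → ¬ p ∣ p ^ n - 1 := fun n hn hd => by
        have h1 : p ∣ p ^ n := dvd_pow_self p hn.ne'
        have h2 := Nat.dvd_sub h1 hd
        rw [Nat.sub_sub_self (Nat.one_le_pow _ _ hp.1.pos)] at h2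
        exact hp.1.not_dvd_one h2
      rw [CfsgLib.Classical.card_symplecticGroup, Nat.card_zmod, Fintype.card_fin,
        Finset.prod_range_succ, Finset.prod_range_one]
      have hne : ∀ n : ℕ, 0 < n → p ^ n - 1 ≠ 0 := fun n hn =>
        Nat.sub_ne_zero_of_lt (Nat.one_lt_pow hn.ne' hp.1.one_lt)
      rw [Nat.factorization_mul (pow_ne_zero _ hp.1.ne_zero)
        (mul_ne_zero (hne _ (by norm_num)) (hne _ (by norm_num))),
        Nat.factorization_mul (hne _ (by norm_num)) (hne _ (by norm_num)), hp.1.factorization_pow]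
      simp [Nat.factorization_eq_zero_of_not_dvd (hnd _ _)]
    rw [e, e2]
  exact ⟨Sylow.ofCard π₂.range hc,
    ⟨(MulEquiv.ofBijective π₁ hb).symm.trans (MonoidHom.ofInjective hi)⟩⟩

end CfsgLib.Fusion.RankThreeNormal
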