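import Cfsg.Agent.Lib.Fusion.RankThreeNormal.Outside

/-!
# A normal elementary subgroup outside an essential subgroup
-/

set_option autoImplicit false
set_option linter.unusedSectionVars false
set_option linter.style.haveILetI false

namespace CfsgLib.Fusion.RankThreeNormal

open Cfsg Cfsg.FusionSystem CfsgLib.Fusion CfsgLib.Fusion.RankThree
open scoped commutatorElement

universe u

variable {p : ℕ} [hp : Fact p.Prime] {Ω : Type u} [Group Ω] {S : Subgroup Ω} [Finite S]
  {F : FusionSystem S} {E : Subgroup Ω}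

/-- The shape of a Sylow subgroup of the symplectic group of dimension four. -/
def SpShape (S : Subgroup Ω) (p : ℕ) : Prop :=
  ∃ (A : Subgroup Ω) (x : Ω), A ≤ S ∧ Elem p A ∧ Nrm S A ∧ Nat.card A = p ^ 3 ∧
    Nat.card S = p ^ 4 ∧ x ∈ S ∧ x ∉ A ∧ x ^ p = 1 ∧ ∃ a ∈ A, ⁅x, ⁅x, a⁆⁆ ≠ 1

/-- An element of `p`-power order fixes the subgroup of order `p` it normalises. -/
theorem commute_of_normalises {x b : Ω} {k : ℕ} (hx : x ^ p ^ k = 1) (hb : b ^ p = 1)
    (h : ∃ m : ℕ, x * b * x⁻¹ = b ^ m) : x * b = b * x := by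
  obtain ⟨m, hm⟩ := h
  rcases eq_or_ne b 1 with rfl | hb1
  · simp
  have hpow : ∀ n : ℕ, x ^ n * b * (x ^ n)⁻¹ = b ^ (m ^ n) := by
    intro n
    induction n with
    | zero => simp
    | succ n ih =>
      rw [pow_succ', show x * x ^ n * b * (x * x ^ n)⁻¹ = x * (x ^ n * b * (x ^ n)⁻¹) * x⁻¹ by group,
        ih, ← conj_pow, hm, ← pow_mul, pow_succ']
  have h1 := hpow (p ^ k)
  rw [hx, one_mul, inv_one, mul_one] at h1
  conv_lhs at h1 => rw [← pow_one b]
  rw [pow_eq_pow_iff_cast hb hb1, Nat.cast_one, Nat.cast_pow, ZMod.pow_card_pow] at h1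
  have h2 : b ^ m = b ^ 1 := by rw [pow_eq_pow_iff_cast hb hb1, Nat.cast_one, ← h1]
  rw [pow_one] at h2
  rw [h2, mul_inv_eq_iff_eq_mul] at hm
  exact hm

/-- Decomposition in the product of two commuting cyclic subgroups. -/
theorem mem_sup_zpowers {a b x : Ω} (h : a * b = b * a)
    (hx : x ∈ Subgroup.zpowers a ⊔ Subgroup.zpowers b) :
    ∃ u ∈ Subgroup.zpowers a, ∃ v ∈ Subgroup.zpowers b, u * v = x := by
  have hle : Subgroup.zpowers a ≤ Subgroup.normalizer (Subgroup.zpowers b : Set Ω) := by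
    refine Subgroup.zpowers_le.2 (Subgroup.centralizer_le_normalizer _
      (Subgroup.mem_centralizer_iff.2 ?_))
    rintro _ ⟨k, rfl⟩
    exact ((show Commute b a from h.symm).zpow_left k).eq
  rw [← SetLike.mem_coe, Subgroup.coe_mul_of_left_le_normalizer_right _ _ hle] at hx
  obtain ⟨u, hu, v, hv, huv⟩ := hx
  exact ⟨u, hu, v, hv, huv⟩

namespace Ctx

variable (c : Ctx F p)
include c

set_option maxHeartbeats 2400000 in
/-- A normal elementary subgroup outside an essential subgroup. -/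
theorem spShape_of_outside (hE : F.IsEssential p E) {A : Subgroup Ω} (hAS : A ≤ S)
    (hAe : Elem p A) (hAn : Nrm S A) {z : Ω} (hzA : z ∈ A) (hzE : z ∉ E) {H : Subgroup Ω}
    (hHE : H ≤ E) (hHcard : Nat.card H * p = Nat.card E)
    (hHA : ∀ h ∈ H, ∀ x ∈ A, x * h = h * x) : SpShape S p := by
  classical
  have hES := c.le hE
  have hn := c.nrm' hE
  have hz := hAS hzA
  have hzp := hAe.2 z hzA
  haveI : Finite E := finite_of_le hES
  haveI : Finite A := finite_of_le hAS
  haveI : Finite H := finite_of_le (hHE.trans hES)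
  have hcomm : ∀ h ∈ H, z * h = h * z := fun h hh => hHA h hh z hzA
  have hCz : ∀ x ∈ E, z * x = x * z → x ∈ H := by
    intro x hx hzx
    by_contra hxH
    exact hzE (centric_centralizer_le hE.1 (mem_centralizerIn.2 ⟨hz, fun e he => by
      obtain ⟨h, hh, i, rfl⟩ := exists_dec c.pS hES hHE hHcard hx hxH he
      rw [cj_apply, mul_inv_eq_iff_eq_mul]
      exact ((show Commute z h from hcomm h hh).mul_right
        ((show Commute z x from hzx).pow_right i)).eq⟩))
  have hAEH : A ⊓ E ≤ H := fun x hx => hCz x hx.2 (hAe.1 z hzA x hx.1)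
  obtain ⟨e0, he0, he0H⟩ : ∃ e0 ∈ E, e0 ∉ H := SetLike.exists_of_lt (lt_of_le_of_ne hHE fun h => by
    rw [h] at hHcard
    exact hp.1.ne_one (Nat.eq_of_mul_eq_mul_left Nat.card_pos (hHcard.trans (mul_one _).symm)))
  set a := ⁅z, e0⁆ with ha_def
  have haA : a ∈ A := by
    rw [ha_def, show ⁅z, e0⁆ = z * (e0 * z⁻¹ * e0⁻¹) by group]
    exact A.mul_mem hzA (hAn e0 (hES he0) _ (A.inv_mem hzA))
  have haE : a ∈ E := by
    rw [ha_def, commutatorElement_def]
    exact E.mul_mem (hn z hz e0 he0) (E.inv_mem he0)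
  have hap := hAe.2 a haA
  have haH : a ∈ H := hAEH ⟨haA, haE⟩
  have ha1 : a ≠ 1 := fun h => he0H (hCz e0 he0 (commutatorElement_eq_one_iff_mul_comm.1 h))
  have hAa : ∀ x ∈ A, x * a = a * x := fun x hx => hAe.1 x hx a haA
  have hze0 : z * e0 * z⁻¹ = a * e0 := by rw [ha_def]; group
  by_cases hb : e0 * a = a * e0
  · -- the centre is central
    exfalso
    have hac : ∀ s ∈ S, a * s = s * a := by
      intro s hs
      obtain ⟨e, he, k, rfl⟩ := c.mem_dec hE hz hzE hs
      obtain ⟨h, hh, i, rfl⟩ := exists_dec c.pS hES hHE hHcard he0 he0H he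
      exact (((show Commute a h from hHA h hh a haA).mul_right
        ((show Commute a e0 from hb.symm).pow_right i)).mul_right
        ((show Commute a z from hAe.1 a haA z hzA).pow_right k)).eq
    refine c.false_of_central hE hz hzE hzp hHE hHcard hcomm haE hap hac fun e he => ?_
    obtain ⟨h, hh, i, rfl⟩ := exists_dec c.pS hES hHE hHcard he0 he0H he
    refine ⟨i, ?_⟩
    rw [show z * (h * e0 ^ i) * z⁻¹ = (z * h * z⁻¹) * (z * e0 * z⁻¹) ^ i by rw [conj_pow]; group,
      hcomm h hh, mul_inv_cancel_right, hze0, (show Commute a e0 from hb.symm).mul_pow,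
      ((show Commute a e0 from hb.symm).pow_pow i i).eq, mul_assoc]
  -- the centre is not central
  set b := ⁅e0, a⁆ with hb_def
  have hb1 : b ≠ 1 := fun h => hb (commutatorElement_eq_one_iff_mul_comm.1 h)
  have hbA : b ∈ A := by
    rw [hb_def, commutatorElement_def]
    exact A.mul_mem (hAn e0 (hES he0) a haA) (A.inv_mem haA)
  have hbE : b ∈ E := by
    rw [hb_def, commutatorElement_def]
    exact E.mul_mem (E.mul_mem (E.mul_mem he0 haE) (E.inv_mem he0)) (E.inv_mem haE)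
  have hbp := hAe.2 b hbA
  have he0a : e0 * a * e0⁻¹ = b * a := by rw [hb_def]; group
  obtain ⟨k0, hk0⟩ := c.pS ⟨e0, hES he0⟩
  have hk0' : e0 ^ p ^ k0 = 1 := congrArg Subtype.val hk0
  have hba : b ∉ Subgroup.zpowers a := fun h => by
    obtain ⟨i, hi⟩ := exists_pow_of_zpowers hap h
    exact hb (commute_of_normalises hk0' hap ⟨i + 1, by rw [he0a, hi, pow_succ]⟩)
  set Z2 := Subgroup.zpowers a ⊔ Subgroup.zpowers b
  have hZ2A : Z2 ≤ A := sup_le (Subgroup.zpowers_le.2 haA) (Subgroup.zpowers_le.2 hbA)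
  have hZ2E : Z2 ≤ E := sup_le (Subgroup.zpowers_le.2 haE) (Subgroup.zpowers_le.2 hbE)
  haveI : Finite Z2 := finite_of_le (hZ2A.trans hAS)
  have hZ2card : Nat.card Z2 = p ^ 2 := by
    rw [card_sup_comm (fun x hx => hAe.1 b hbA x (Subgroup.zpowers_le.2 haA hx)) hbp hba,
      card_zpowers_prime hap ha1, pow_two]
  have hAle : Nat.card A ≤ p ^ 3 := card_le_of_elementary c.rank hAS hAe.1 hAe.2
  have hA3 : Nat.card (Z2 ⊔ Subgroup.zpowers z : Subgroup Ω) = p ^ 3 := by
    rw [card_sup_comm (fun x hx => hAe.1 z hzA x (hZ2A hx)) hzp fun h => hzE (hZ2E h), hZ2card]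
    ring
  have hAeq : A = Z2 ⊔ Subgroup.zpowers z :=
    (Subgroup.eq_of_le_of_card_ge (sup_le hZ2A (Subgroup.zpowers_le.2 hzA)) (by omega)).symm
  have hAcard : Nat.card A = p ^ 3 := by rw [hAeq, hA3]
  have hAEZ : A ⊓ E = Z2 := by
    haveI : Finite (A ⊓ E : Subgroup Ω) := finite_of_le (inf_le_left.trans hAS)
    refine (Subgroup.eq_of_le_of_card_ge (le_inf hZ2A hZ2E) ?_).symm
    have hlt : A ⊓ E < A := lt_of_le_of_ne inf_le_left fun h => hzE (h.ge hzA).2
    have h1 := lt_card_mul c.pS hAS hlt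
    rw [hAcard, show p ^ 3 = p ^ 2 * p by ring] at h1
    rw [hZ2card]
    exact Nat.le_of_mul_le_mul_right h1 hp.1.pos
  have hZ2n : Nrm S Z2 := by
    rw [← hAEZ]
    exact fun s hs q hq => ⟨hAn s hs q hq.1, hn s hs q hq.2⟩
  -- `b` is central
  have hbc : ∀ s ∈ S, b * s = s * b := by
    haveI := hZ2n.normal_subgroupOf
    have hne : Z2.subgroupOf S ≠ ⊥ := fun h => ha1 (by
      have := h.le (show (⟨a, hES haE⟩ : S) ∈ Z2.subgroupOf S from
        Subgroup.mem_sup_left (Subgroup.mem_zpowers a))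
      exact congrArg Subtype.val (Subgroup.mem_bot.1 this))
    obtain ⟨w, hw, hw1⟩ := (Subgroup.bot_or_exists_ne_one _).resolve_left
      (CfsgLib.PGroups.inf_center_ne_bot c.pS hne)
    obtain ⟨hwZ, hwc⟩ := Subgroup.mem_inf.1 hw
    have hwc' : ∀ s ∈ S, (w : Ω) * s = s * w := fun s hs =>
      (congrArg Subtype.val (Subgroup.mem_center_iff.1 hwc ⟨s, hs⟩)).symm
    set K := Subgroup.zpowers (w : Ω)
    have hKZ : K ≤ Z2 := Subgroup.zpowers_le.2 hwZ
    have hw1' : (w : Ω) ≠ 1 := fun h => hw1 (Subtype.ext h)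
    have hwp : (w : Ω) ^ p = 1 := hAe.2 _ (hZ2A hwZ)
    have hKn : Nrm S K := fun s hs q hq => by
      obtain ⟨m, rfl⟩ := exists_pow_of_zpowers hwp hq
      rw [← conj_pow, ← hwc' s hs, mul_inv_cancel_right]
      exact Subgroup.npow_mem_zpowers _ m
    have hbK : b ∈ K := comm_mem_chain c.pS (hZ2A.trans hAS) hKZ hKn hZ2n
      (by rw [card_zpowers_prime hwp hw1', hZ2card, pow_two]) (hES he0)
      (Subgroup.mem_sup_left (Subgroup.mem_zpowers a))
    obtain ⟨m, hm⟩ := exists_pow_of_zpowers hwp hbK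
    intro s hs
    rw [hm]
    exact ((show Commute (w : Ω) s from hwc' s hs).pow_left m).eq
  have hbH : b ∈ H := hAEH ⟨hbA, hbE⟩
  have hCZ2 : ∀ x ∈ E, x * a = a * x → x ∈ H := by
    intro x hx hxa
    by_contra hxH
    obtain ⟨h, hh, i, hi⟩ := exists_dec c.pS hES hHE hHcard hx hxH he0
    refine hb ?_
    rw [hi]
    exact ((show Commute h a from (hHA h hh a haA).symm).mul_left
      ((show Commute x a from hxa).pow_left i)).eq
  have he0pow : ∀ i : ℕ, e0 ^ i * a * (e0 ^ i)⁻¹ = b ^ i * a := by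
    intro i
    induction i with
    | zero => simp
    | succ i ih =>
      rw [pow_succ' e0, show e0 * e0 ^ i * a * (e0 * e0 ^ i)⁻¹ =
        e0 * (e0 ^ i * a * (e0 ^ i)⁻¹) * e0⁻¹ by group, ih,
        show e0 * (b ^ i * a) * e0⁻¹ = (e0 * b * e0⁻¹) ^ i * (e0 * a * e0⁻¹) by
          rw [conj_pow]; group,
        ← hbc e0 (hES he0), mul_inv_cancel_right, he0a, ← mul_assoc, ← pow_succ]
  have hEa : ∀ x ∈ E, ⁅x, a⁆ ∈ Subgroup.zpowers b := by
    intro x hx
    obtain ⟨h, hh, i, rfl⟩ := exists_dec c.pS hES hHE hHcard he0 he0H hx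
    rw [commutatorElement_def, show h * e0 ^ i * a * (h * e0 ^ i)⁻¹ * a⁻¹ =
      h * (e0 ^ i * a * (e0 ^ i)⁻¹) * h⁻¹ * a⁻¹ by group, he0pow,
      show h * (b ^ i * a) = (b ^ i * a) * h from
        (hHA h hh (b ^ i * a) (A.mul_mem (A.pow_mem hbA i) haA)).symm,
      mul_inv_cancel_right, mul_inv_cancel_right]
    exact Subgroup.npow_mem_zpowers b i
  -- moving the subgroup `H`
  obtain ⟨γ, hγ, h0, hh0, hh0'⟩ : ∃ γ ∈ F.autGroup E, ∃ h ∈ H, autFun γ h ∉ H := by
    by_contra! hall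
    refine hzE (c.stab2 hE hHE hall hz (fun q hq => by rw [hcomm q hq, mul_inv_cancel_right])
      fun e he => ?_)
    refine hAEH ⟨?_, E.mul_mem (E.inv_mem he) (hn z hz e he)⟩
    rw [show e⁻¹ * (z * e * z⁻¹) = (e⁻¹ * z * e) * z⁻¹ by group]
    have h1 := hAn e⁻¹ (S.inv_mem (hES he)) z hzA
    rw [inv_inv] at h1
    exact A.mul_mem h1 (A.inv_mem hzA)
  set a' := autFun γ a with ha'_def
  set b' := autFun γ b with hb'_def
  have ha'E : a' ∈ E := autFun_mem γ haE
  have hb'E : b' ∈ E := autFun_mem γ hbE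
  have ha'p : a' ^ p = 1 := by rw [ha'_def, ← autFun_map_pow γ haE, hap, autFun_map_one]
  have hb'p : b' ^ p = 1 := by rw [hb'_def, ← autFun_map_pow γ hbE, hbp, autFun_map_one]
  have hb'c : ∀ e ∈ E, b' * e = e * b' := fun e he => by
    rw [← autFun_inv_right γ he, hb'_def, ← autFun_map_mul γ hbE (autFun_mem _ he),
      hbc _ (hES (autFun_mem _ he)), autFun_map_mul γ (autFun_mem _ he) hbE]
  have hb'H : b' ∈ H := hCZ2 b' hb'E (hb'c a haE)
  have ha'H : a' ∉ H := by
    intro ha'H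
    set T := Subgroup.zpowers a' ⊔ Subgroup.zpowers b'
    have hTE : T ≤ H := sup_le (Subgroup.zpowers_le.2 ha'H) (Subgroup.zpowers_le.2 hb'H)
    have hTe : Elem p T := Elem.sup
      (Elem.mono (B := Subgroup.closure {a'}) (by rw [← Subgroup.zpowers_eq_closure])
        (Elem.closure (by rintro x rfl y rfl; rfl) (by rintro x rfl; exact ha'p)))
      (Elem.mono (B := Subgroup.closure {b'}) (by rw [← Subgroup.zpowers_eq_closure])
        (Elem.closure (by rintro x rfl y rfl; rfl) (by rintro x rfl; exact hb'p)))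
      fun x hx y hy => by
        obtain ⟨i, rfl⟩ := exists_pow_of_zpowers ha'p hx
        obtain ⟨j, rfl⟩ := exists_pow_of_zpowers hb'p hy
        exact ((show Commute a' b' from (hb'c a' ha'E).symm).pow_pow i j).eq
    have hTA : T ≤ A := eq_of_commute c.rank hAS ((hTE.trans hHE).trans hES) hAe.1 hTe.1 hAe.2
      hTe.2 (fun x hx y hy => hHA y (hTE hy) x hx) hAcard.ge
    have hTZ : T ≤ Z2 := fun x hx => hAEZ.le ⟨hTA hx, (hTE.trans hHE) hx⟩
    have hb'Z : Nat.card T = p ^ 2 := by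
      rw [card_sup_comm (fun k hk => hb'c k (Subgroup.zpowers_le.2 ha'E hk)) hb'p ?_,
        card_zpowers_prime ha'p (autFun_map_ne_one γ haE ha1), pow_two]
      intro hmem
      obtain ⟨i, hi⟩ := exists_pow_of_zpowers ha'p hmem
      refine hba ?_
      rw [← autFun_inv_left γ hbE, ← hb'_def, hi, autFun_map_pow _ ha'E, ha'_def,
        autFun_inv_left γ haE]
      exact Subgroup.npow_mem_zpowers a i
    have hTeq : T = Z2 := Subgroup.eq_of_le_of_card_ge hTZ (by rw [hb'Z, hZ2card])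
    refine hh0' (hCZ2 _ (autFun_mem γ (hHE hh0)) ?_)
    have haT : a ∈ T := hTeq ▸ Subgroup.mem_sup_left (Subgroup.mem_zpowers a)
    have key : T ≤ Subgroup.centralizer {autFun γ h0} := by
      refine sup_le (Subgroup.zpowers_le.2 ?_) (Subgroup.zpowers_le.2 ?_) <;>
        rw [Subgroup.mem_centralizer_singleton_iff]
      · rw [ha'_def, ← autFun_map_mul γ haE (hHE hh0), ← autFun_map_mul γ (hHE hh0) haE,
          hHA h0 hh0 a haA]
      · exact hb'c _ (autFun_mem γ (hHE hh0))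
    exact (Subgroup.mem_centralizer_singleton_iff.1 (key haT)).symm
  -- the image of `H`
  have hf := (isMor_autFun hES hγ).restrict hHE
  set H' := img H (autFun γ)
  have hH'E : H' ≤ E := img_le fun x hx => autFun_mem γ (hHE hx)
  have hH'card : Nat.card H' * p = Nat.card E := by rw [hf.card_img, hHcard]
  have hH'a' : ∀ x ∈ H', x * a' = a' * x := by
    intro x hx
    obtain ⟨y, hy, rfl⟩ := hf.mem_img.1 hx
    rw [ha'_def, ← autFun_map_mul γ (hHE hy) haE, ← autFun_map_mul γ haE (hHE hy), hHA y hy a haA]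
  have ha'H' : a' ∈ H' := mem_img_of_mem _ haH
  have haa' : ⁅a', a⁆ ≠ 1 := fun h =>
    ha'H (hCZ2 a' ha'E (commutatorElement_eq_one_iff_mul_comm.1 h))
  have hbb' : Subgroup.zpowers b' = Subgroup.zpowers b := by
    have h1 := hEa a' ha'E
    have h2 : ⁅a', a⁆ ∈ Subgroup.zpowers b' := by
      refine comm_swap_mem ?_
      rw [← autFun_inv_right γ haE, ha'_def,
        ← autFun_map_comm γ (autFun_mem _ haE) haE]
      obtain ⟨i, hi⟩ := exists_pow_of_zpowers hbp (hEa _ (autFun_mem γ⁻¹ haE))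
      rw [hi, autFun_map_pow γ hbE]
      exact Subgroup.npow_mem_zpowers _ i
    have key : ∀ x w : Ω, x ^ p = 1 → w ≠ 1 → w ∈ Subgroup.zpowers x →
        Subgroup.zpowers w = Subgroup.zpowers x := fun x w hx hw hmem => by
      have hx1 : x ≠ 1 := fun h => hw (by
        rwa [h, Subgroup.zpowers_one_eq_bot, Subgroup.mem_bot] at hmem)
      haveI : Finite (Subgroup.zpowers x) :=
        Nat.finite_of_card_ne_zero (by rw [card_zpowers_prime hx hx1]; exact hp.1.ne_zero)
      obtain ⟨i, rfl⟩ := exists_pow_of_zpowers hx hmem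
      refine Subgroup.eq_of_le_of_card_ge (Subgroup.zpowers_le.2 hmem) ?_
      rw [card_zpowers_prime hx hx1,
        card_zpowers_prime (by rw [← pow_mul, mul_comm, pow_mul, hx, one_pow]) hw]
    rw [← key b' _ hb'p haa' h2, key b _ hbp haa' h1]
  have hbH' : b ∈ H' := by
    have hle : Subgroup.zpowers b' ≤ H' := Subgroup.zpowers_le.2 (mem_img_of_mem _ hbH)
    exact hle (hbb' ▸ Subgroup.mem_zpowers b)
  have haH' : a ∉ H' := fun h => haa'
    (commutatorElement_eq_one_iff_mul_comm.2 (hH'a' a h).symm)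
  have hne : H ≠ H' := fun h => haH' (h ▸ haH)
  set D := H ⊓ H'
  have hDcard : Nat.card D * p = Nat.card H := inf_index c.pS hES hHE hH'E hHcard hH'card hne
  have hDS : D ≤ S := (inf_le_left.trans hHE).trans hES
  obtain ⟨d, hdD, hDd⟩ := c.cyclic_of_two hDS (hES haE) hz hap hzp (hAe.1 a haA z hzA)
    (fun x hx => hHA x hx.1 a haA) (fun x hx => hcomm x hx.1) (fun h => haH' h.2)
    fun h => hzE (sup_le (inf_le_left.trans hHE) (Subgroup.zpowers_le.2 haE) h)
  have hdec : ∀ e ∈ E, ∃ m : ℤ, ∃ i j : ℕ, e = d ^ m * a ^ i * a' ^ j := by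
    intro e he
    obtain ⟨h, hh, j, rfl⟩ := exists_dec c.pS hES hHE hHcard ha'E ha'H he
    obtain ⟨x, hx, i, rfl⟩ := exists_dec c.pS (hHE.trans hES) inf_le_left hDcard haH
      (fun h' => haH' h'.2) hh
    obtain ⟨m, hm⟩ := hDd.le hx
    exact ⟨m, i, j, by rw [show d ^ m = x from hm]⟩
  have hdc : ∀ s ∈ S, d * s = s * d := fun s hs => by
    obtain ⟨e, he, k, rfl⟩ := c.mem_dec hE hz hzE hs
    obtain ⟨m, i, j, rfl⟩ := hdec e he
    exact (((((Commute.refl d).zpow_right m).mul_right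
      ((show Commute a d from hHA d hdD.1 a haA).symm.pow_right i)).mul_right
      ((show Commute d a' from hH'a' d hdD.2).pow_right j)).mul_right
      ((show Commute z d from hcomm d hdD.1).symm.pow_right k)).eq
  have hbd : b ∈ Subgroup.zpowers d := hDd.le ⟨hbH, hbH'⟩
  by_cases hdp : d ^ p = 1
  swap
  · exfalso
    have hbdp : b ∈ Subgroup.zpowers (d ^ p) := by
      obtain ⟨l, hl⟩ := hbd
      have h1 : d ^ (l * p) = 1 := by
        rw [zpow_mul, zpow_natCast]
        show (d ^ l) ^ p = 1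
        rw [show d ^ l = b from hl, hbp]
      rw [← orderOf_dvd_iff_zpow_eq_one] at h1
      obtain ⟨k, hk⟩ := c.pS ⟨d, hDS hdD⟩
      have hk' : d ^ p ^ k = 1 := congrArg Subtype.val hk
      obtain ⟨j, -, hj⟩ := (Nat.dvd_prime_pow hp.1).1 (orderOf_dvd_of_pow_eq_one hk')
      have hj2 : 2 ≤ j := by
        by_contra hlt
        refine hdp (orderOf_dvd_iff_pow_eq_one.1 ?_)
        rw [hj]
        exact dvd_trans (pow_dvd_pow p (Nat.le_of_lt_succ (Nat.lt_of_not_le hlt))) (by rw [pow_one])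
      rw [hj, show j = (j - 1) + 1 by omega, pow_succ, Nat.cast_mul] at h1
      have h2 : ((p : ℕ) : ℤ) ∣ l := dvd_trans
        (by push_cast; exact dvd_pow_self _ (by omega))
        (Int.dvd_of_mul_dvd_mul_right (by exact_mod_cast hp.1.ne_zero) h1)
      obtain ⟨l', rfl⟩ := h2
      refine ⟨l', ?_⟩
      show (d ^ p) ^ l' = b
      rw [← zpow_natCast, ← zpow_mul]
      exact hl
    refine c.false_of_agemo (hDS hdD) hdc hdp fun s hs => ?_
    obtain ⟨e, he, k, rfl⟩ := c.mem_dec hE hz hzE hs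
    obtain ⟨m, i, j, rfl⟩ := hdec e he
    set N := (Subgroup.zpowers b).subgroupOf S
    have hNc : N ≤ Subgroup.center S := fun x hx => Subgroup.mem_center_iff.2 fun y => by
      obtain ⟨l, hl⟩ := hx
      refine Subtype.ext ?_
      show (y : Ω) * x = x * y
      rw [← show b ^ l = (x : Ω) from hl]
      exact ((show Commute b y from hbc y y.2).zpow_left l).symm.eq
    have hN : N.Normal := CfsgLib.PGroups.normal_of_le_center hNc
    have hbN : ∀ x ∈ Z2, ∀ s ∈ S, ⁅s, x⁆ ∈ Subgroup.zpowers b := fun x hx s hs =>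
      comm_mem_chain c.pS (hZ2A.trans hAS) (le_sup_right : Subgroup.zpowers b ≤ Z2)
        (fun t ht q hq => by
          obtain ⟨l, rfl⟩ := exists_pow_of_zpowers hbp hq
          rw [← conj_pow, ← hbc t ht, mul_inv_cancel_right]
          exact Subgroup.npow_mem_zpowers b l)
        hZ2n (by rw [card_zpowers_prime hbp hb1, hZ2card, pow_two]) hs hx
    have hA1 : a ^ i ∈ Z2 := Subgroup.mem_sup_left (Subgroup.npow_mem_zpowers a i)
    have haiS := S.pow_mem (hES haE) i
    have ha'jS := S.pow_mem (hES ha'E) j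
    have hzkS := S.pow_mem hz k
    have hzZ : ∀ x ∈ E, ⁅z ^ k, x⁆ ∈ Z2 := fun x hx => hAEZ.le ⟨by
      rw [show ⁅z ^ k, x⁆ = z ^ k * (x * (z ^ k)⁻¹ * x⁻¹) by group]
      exact A.mul_mem (A.pow_mem hzA k) (hAn x (hES hx) _ (A.inv_mem (A.pow_mem hzA k))), by
      rw [commutatorElement_def]
      exact E.mul_mem (hn _ hzkS x hx) (E.inv_mem hx)⟩
    have h1 : (a ^ i * a' ^ j) ^ p ∈ Subgroup.zpowers b := by
      have hca := hEa _ (E.pow_mem ha'E j)
      have hc2 : ⁅a' ^ j, a ^ i⁆ ∈ Subgroup.zpowers b := hbN _ hA1 _ ha'jS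
      have h := mul_pow_p_mem (p := p) c.p2 hN (a := (⟨a ^ i, haiS⟩ : S)) (b := ⟨a' ^ j, ha'jS⟩)
        (comm_swap_mem (hbN _ (le_sup_right (a := Subgroup.zpowers a) hc2) _ haiS))
        (comm_swap_mem (hbN _ (le_sup_right (a := Subgroup.zpowers a) hc2) _ ha'jS))
        (N.pow_mem hc2 p)
      have h' : ((a ^ i) ^ p * (a' ^ j) ^ p)⁻¹ * (a ^ i * a' ^ j) ^ p ∈ Subgroup.zpowers b := h
      rw [← pow_mul, ← pow_mul, mul_comm i, mul_comm j, pow_mul, pow_mul, hap, ha'p, one_pow,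
        one_pow, mul_one, inv_one, one_mul] at h'
      exact h'
    have h2 : (a ^ i * a' ^ j * z ^ k) ^ p ∈ Subgroup.zpowers b := by
      have hxE : a ^ i * a' ^ j ∈ E := E.mul_mem (E.pow_mem haE i) (E.pow_mem ha'E j)
      have hc2 := hzZ _ hxE
      have h := mul_pow_p_mem (p := p) c.p2 hN (a := (⟨a ^ i * a' ^ j, S.mul_mem haiS ha'jS⟩ : S))
        (b := ⟨z ^ k, hzkS⟩) (comm_swap_mem (hbN _ hc2 _ (hES hxE)))
        (comm_swap_mem (hbN _ hc2 _ hzkS)) (by
          have : ⁅z ^ k, a ^ i * a' ^ j⁆ ^ p = 1 := hAe.2 _ (hZ2A hc2)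
          show ⁅z ^ k, a ^ i * a' ^ j⁆ ^ p ∈ Subgroup.zpowers b
          rw [this]
          exact one_mem _)
      have h' : ((a ^ i * a' ^ j) ^ p * (z ^ k) ^ p)⁻¹ * (a ^ i * a' ^ j * z ^ k) ^ p ∈
          Subgroup.zpowers b := h
      rw [← pow_mul z, mul_comm k, pow_mul z, hzp, one_pow, mul_one] at h'
      have h3 := mul_mem h1 h'
      rwa [mul_inv_cancel_left] at h3
    rw [show d ^ m * a ^ i * a' ^ j * z ^ k = d ^ m * (a ^ i * a' ^ j * z ^ k) by group,
      ((show Commute d _ from hdc _ (S.mul_mem (S.mul_mem haiS ha'jS) hzkS)).zpow_left m).mul_pow]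
    refine mul_mem ⟨m, ?_⟩ (Subgroup.zpowers_le.2 hbdp h2)
    show (d ^ p) ^ m = (d ^ m) ^ p
    rw [← zpow_natCast d, ← zpow_natCast (d ^ m), ← zpow_mul, ← zpow_mul, mul_comm]
  -- the small case
  have hd1 : d ≠ 1 := fun h => hb1 (by
    rwa [h, Subgroup.zpowers_one_eq_bot, Subgroup.mem_bot] at hbd)
  have hDc : Nat.card D = p := by rw [hDd, card_zpowers_prime hdp hd1]
  have hScard : Nat.card S = p ^ 4 := by
    rw [← c.card hE, ← hHcard, ← hDcard, hDc]; ring
  have ha'A : a' ∉ A := fun h => ha'H (hAEH ⟨h, ha'E⟩)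
  refine ⟨A, a', hAS, hAe, hAn, hAcard, hScard, hES ha'E, ha'A, ha'p, z, hzA, fun hcon => ?_⟩
  have hcA : ⁅a', z⁆ ∈ Z2 := hAEZ.le ⟨by
    rw [commutatorElement_def]
    exact A.mul_mem (hAn a' (hES ha'E) z hzA) (A.inv_mem hzA), by
    rw [show ⁅a', z⁆ = a' * (z * a'⁻¹ * z⁻¹) by group]
    exact E.mul_mem ha'E (hn z hz _ (E.inv_mem ha'E))⟩
  obtain ⟨x, hx, y, hy, hxy⟩ := mem_sup_zpowers (hAe.1 a haA b hbA) hcA
  obtain ⟨i, rfl⟩ := exists_pow_of_zpowers hap hx
  obtain ⟨l, rfl⟩ := exists_pow_of_zpowers hbp hy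
  have hbcl : ∀ l : ℕ, Commute (b ^ l) a' := fun l =>
    (show Commute b a' from hbc a' (hES ha'E)).pow_left l
  have hi : p ∣ i := by
    have h1 : Commute (a ^ i) a' := by
      have h2 : Commute (a ^ i * b ^ l) a' := by
        rw [hxy]
        exact (commutatorElement_eq_one_iff_mul_comm.1 hcon).symm
      have h3 := h2.mul_left (hbcl l).inv_left
      rwa [mul_inv_cancel_right] at h3
    by_contra hi
    obtain ⟨q, -, hq⟩ := Nat.exists_mul_mod_eq_one_of_coprime
      (Nat.coprime_comm.1 (hp.1.coprime_iff_not_dvd.2 hi)) hp.1.one_lt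
    have h4 := h1.pow_left q
    rw [← pow_mul, ← Nat.div_add_mod (i * q) p, hq, pow_add, pow_mul, hap, one_pow, one_mul,
      pow_one] at h4
    exact haa' (commutatorElement_eq_one_iff_mul_comm.2 h4.eq.symm)
  -- then `e0` would commute with `a` as well
  refine hba ?_
  exfalso
  have hzb : ⁅a', z⁆ ∈ Subgroup.zpowers b := by
    rw [← hxy, (pow_eq_one_iff_dvd hap ha1).2 hi, one_mul]
    exact Subgroup.npow_mem_zpowers b l
  obtain ⟨h, hh, n, hn0⟩ := exists_dec c.pS hES hHE hHcard ha'E ha'H he0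
  have hset : Nrm S (Subgroup.zpowers b) := fun t ht q hq => by
    obtain ⟨l, rfl⟩ := exists_pow_of_zpowers hbp hq
    rw [← conj_pow, ← hbc t ht, mul_inv_cancel_right]
    exact Subgroup.npow_mem_zpowers b l
  have h1 : h ∈ commSet S {z} (Subgroup.zpowers b) hset := ⟨hES (hHE hh), fun y hy => by
    rw [Set.mem_singleton_iff.1 hy, commutatorElement_eq_one_iff_mul_comm.2 (hcomm h hh).symm]
    exact one_mem _⟩
  have h2 : a' ∈ commSet S {z} (Subgroup.zpowers b) hset := ⟨hES ha'E, fun y hy => by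
    rw [Set.mem_singleton_iff.1 hy]; exact hzb⟩
  have h3 : a ∈ Subgroup.zpowers b := by
    rw [ha_def, hn0]
    exact comm_swap_mem ((Subgroup.mul_mem _ h1 (Subgroup.pow_mem _ h2 n)).2 z rfl)
  obtain ⟨m, hm⟩ := exists_pow_of_zpowers hbp h3
  refine hb ?_
  rw [hm]
  exact ((show Commute b e0 from hbc e0 (hES he0)).pow_left m).symm.eq

end Ctx

end CfsgLib.Fusion.RankThreeNormal
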