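import Cfsg.Agent.Lib.Fusion.RankThreeNormal.Elements

/-!
# An outer element inducing a transvection with a central centre on an essential subgroup
-/

set_option autoImplicit false
set_option linter.unusedSectionVars false
set_option linter.style.haveILetI false

namespace CfsgLib.Fusion.RankThreeNormal

open Cfsg Cfsg.FusionSystem CfsgLib.Fusion CfsgLib.Fusion.RankThree
open scoped commutatorElement

universe u

variable {p : ℕ} [hp : Fact p.Prime] {Ω : Type u} [Group Ω] {S : Subgroup Ω} [Finite S]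
  {F : FusionSystem S} {E : Subgroup Ω}

/-- The outcome of the transvection analysis. -/
structure SplitData (F : FusionSystem S) (E H : Subgroup Ω) (z a : Ω) (p : ℕ) (C : Subgroup Ω)
    (a' : Ω) : Prop where
  C_le : C ≤ H
  a'_mem : a' ∈ E
  a'_pow : a' ^ p = 1
  a'_cent : ∀ e ∈ E, a' * e = e * a'
  a'_notMem : a' ∉ H
  a_notMem : a ∉ C
  za' : ∃ n : ℕ, ¬ p ∣ n ∧ z * a' * z⁻¹ = a' * a ^ n
  dec : ∀ e ∈ E, ∃ d ∈ C, ∃ i j : ℕ, e = d * a ^ i * a' ^ j
  fixed : ∀ x ∈ E, (∀ γ ∈ F.autGroup E, z * autFun γ x = autFun γ x * z) → x ∈ C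
  ext : ∃ β ∈ F.autGroup S, autFun β a = a⁻¹ ∧ ∀ d ∈ C, autFun β d = d

set_option maxHeartbeats 1600000 in
/-- The transvection analysis. -/
theorem Ctx.exists_split (c : Ctx F p) (hE : F.IsEssential p E) {z : Ω} (hz : z ∈ S) (hzE : z ∉ E)
    (hzp : z ^ p = 1) {H : Subgroup Ω} (hHE : H ≤ E) (hHcard : Nat.card H * p = Nat.card E)
    (hcomm : ∀ h ∈ H, z * h = h * z) {a : Ω} (haE : a ∈ E) (hap : a ^ p = 1)
    (hac : ∀ s ∈ S, a * s = s * a) (hza : ∀ e ∈ E, ∃ i : ℕ, z * e * z⁻¹ = e * a ^ i) :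
    ∃ C a', SplitData F E H z a p C a' := by
  classical
  have hES := c.le hE
  have hn := c.nrm' hE
  haveI : Finite E := finite_of_le hES
  haveI : Finite H := finite_of_le (hHE.trans hES)
  haveI := finite_mulAut (P := E) hES
  -- the centraliser of `z` in `E`
  have hCz : ∀ x ∈ E, z * x = x * z → x ∈ H := by
    intro x hx hzx
    by_contra hxH
    refine hzE (centric_centralizer_le hE.1 (mem_centralizerIn.2 ⟨hz, fun e he => ?_⟩))
    obtain ⟨h, hh, i, rfl⟩ := exists_dec c.pS hES hHE hHcard hx hxH he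
    rw [cj_apply, mul_inv_eq_iff_eq_mul]
    exact ((show Commute z h from hcomm h hh).mul_right
      ((show Commute z x from hzx).pow_right i)).eq
  have haH : a ∈ H := hCz a haE (hac z hz).symm
  have hza' : z * a * z⁻¹ = a := by rw [← hac z hz, mul_inv_cancel_right]
  have ha1 : a ≠ 1 := fun h => by
    refine hzE (centric_centralizer_le hE.1 (mem_centralizerIn.2 ⟨hz, fun e he => ?_⟩))
    obtain ⟨i, hi⟩ := hza e he
    rw [cj_apply, hi, h, one_pow, mul_one]
  -- the automorphism induced by `z`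
  obtain ⟨τ, hτF, hτ⟩ := c.exists_conjAut hE hz
  have hτpow : ∀ (n : ℕ), ∀ x ∈ E, autFun (τ ^ n) x = z ^ n * x * (z ^ n)⁻¹ := by
    intro n
    induction n with
    | zero => intro x hx; rw [pow_zero, autFun_one hx, pow_zero]; simp
    | succ n ih =>
      intro x hx
      rw [pow_succ', autFun_mul _ _ hx, hτ _ (autFun_mem _ hx), ih x hx, pow_succ']
      group
  have hτp : τ ^ p = 1 := autFun_inj fun x hx => by
    rw [hτpow p x hx, hzp, autFun_one hx]; simp
  -- moving the centre out of the axis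
  obtain ⟨γ, hγF, hγa⟩ : ∃ γ ∈ F.autGroup E, autFun γ a ∉ H := by
    by_contra! hall
    set Q := orb F E (Subgroup.zpowers a)
    have hQH : Q ≤ H := by
      rw [show Q = orb F E (Subgroup.zpowers a) from rfl, orb, Subgroup.closure_le]
      rintro _ ⟨γ, hγ, x, hx, rfl⟩
      obtain ⟨i, rfl⟩ := exists_pow_of_zpowers hap hx
      rw [autFun_map_pow γ haE]
      exact H.pow_mem (hall γ hγ) i
    refine hzE (c.stab2 hE (hQH.trans hHE) (orb_inv (Subgroup.zpowers_le.2 haE)) hz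
      (fun q hq => by rw [hcomm q (hQH hq), mul_inv_cancel_right]) fun e he => ?_)
    obtain ⟨i, hi⟩ := hza e he
    rw [hi, inv_mul_cancel_left]
    exact le_orb (Subgroup.zpowers_le.2 haE) (Subgroup.npow_mem_zpowers a i)
  set a' := autFun γ a with ha'def
  have ha'E : a' ∈ E := autFun_mem γ haE
  have ha'p : a' ^ p = 1 := by rw [ha'def, ← autFun_map_pow γ haE, hap, autFun_map_one]
  have ha'c : ∀ e ∈ E, a' * e = e * a' := fun e he => by
    rw [← autFun_inv_right γ he, ha'def, ← autFun_map_mul γ haE (autFun_mem _ he),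
      hac _ (hES (autFun_mem _ he)), autFun_map_mul γ (autFun_mem _ he) haE]
  obtain ⟨n, hna⟩ := hza a' ha'E
  have hnd : ¬ p ∣ n := fun h => hγa (hCz a' ha'E (by
    rw [(pow_eq_one_iff_dvd hap ha1).2 h, mul_one, mul_inv_eq_iff_eq_mul] at hna
    exact hna))
  -- the image of the axis
  have hf := (isMor_autFun hES hγF).restrict hHE
  set H' := img H (autFun γ) with hH'
  have hH'E : H' ≤ E := img_le fun x hx => autFun_mem γ (hHE hx)
  have hH'card : Nat.card H' * p = Nat.card E := by rw [hH', hf.card_img, hHcard]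
  have hmemH' : ∀ x ∈ E, (x ∈ H' ↔ autFun γ⁻¹ x ∈ H) := fun x hx => by
    constructor
    · intro h
      obtain ⟨y, hy, rfl⟩ := hf.mem_img.1 h
      rwa [autFun_inv_left γ (hHE hy)]
    · intro h
      rw [← autFun_inv_right γ hx]
      exact mem_img_of_mem _ h
  have ha'H' : a' ∈ H' := mem_img_of_mem _ haH
  -- the conjugate transvection
  set τ' := γ * τ * γ⁻¹ with hτ'def
  have hτ'F : τ' ∈ F.autGroup E :=
    (F.autGroup E).mul_mem ((F.autGroup E).mul_mem hγF hτF) ((F.autGroup E).inv_mem hγF)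
  have hτ'e : ∀ x ∈ E, ∃ i : ℕ, autFun τ' x = x * a' ^ i ∧
      z * autFun γ⁻¹ x * z⁻¹ = autFun γ⁻¹ x * a ^ i := by
    intro x hx
    obtain ⟨i, hi⟩ := hza _ (autFun_mem γ⁻¹ hx)
    refine ⟨i, ?_, hi⟩
    rw [hτ'def, autFun_mul _ _ hx, autFun_mul _ _ (autFun_mem _ hx), hτ _ (autFun_mem _ hx), hi,
      autFun_map_mul γ (autFun_mem _ hx) (E.pow_mem haE i), autFun_inv_right γ hx,
      autFun_map_pow γ haE]
  have hτ'fix : ∀ x ∈ E, x ∈ H' → autFun τ' x = x := fun x hx hxH => by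
    obtain ⟨i, hi, hi'⟩ := hτ'e x hx
    rw [hcomm _ ((hmemH' x hx).1 hxH), mul_inv_cancel_right, eq_comm, mul_eq_left] at hi'
    rw [hi, ← autFun_map_pow γ haE, hi', autFun_map_one, mul_one]
  -- the centre is not in the other axis
  have haH' : a ∉ H' := by
    intro haH'
    have hτ'a := hτ'fix a haE haH'
    set δ := τ' * τ * τ'⁻¹ with hδdef
    have hδF : δ ∈ F.autGroup E :=
      (F.autGroup E).mul_mem ((F.autGroup E).mul_mem hτ'F hτF) ((F.autGroup E).inv_mem hτ'F)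
    have hδe : ∀ x ∈ E, ∃ i : ℕ, autFun δ x = x * a ^ i ∧
        z * autFun τ'⁻¹ x * z⁻¹ = autFun τ'⁻¹ x * a ^ i := fun x hx => by
      obtain ⟨i, hi⟩ := hza _ (autFun_mem τ'⁻¹ hx)
      refine ⟨i, ?_, hi⟩
      rw [hδdef, autFun_mul _ _ hx, autFun_mul _ _ (autFun_mem _ hx), hτ _ (autFun_mem _ hx), hi,
        autFun_map_mul τ' (autFun_mem _ hx) (E.pow_mem haE i), autFun_inv_right τ' hx,
        autFun_map_pow τ' haE, hτ'a]
    have hτ'inv : ∀ x ∈ E, autFun τ' x = x → autFun τ'⁻¹ x = x := fun x hx h => by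
      conv_lhs => rw [← h]
      rw [autFun_inv_left τ' hx]
    have hδa : autFun δ a = a := by
      rw [hδdef, autFun_mul _ _ haE, autFun_mul _ _ (autFun_mem _ haE), hτ'inv a haE hτ'a, hτ a haE,
        hza', hτ'a]
    obtain ⟨k0, hk0⟩ := c.pow_conjAut_eq_one hE hz hτ
    obtain ⟨y, hy, hye⟩ := c.exists_conj_of_compatible hE hδF (k := k0)
      (by rw [hδdef, conj_pow, hk0, mul_one, mul_inv_cancel])
      (c.compatible_of_commute hE hz hzE fun x hx => by
        obtain ⟨i, hi⟩ := hza x hx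
        obtain ⟨j, hj, -⟩ := hδe x hx
        rw [hi, autFun_map_mul δ hx (E.pow_mem haE i), autFun_map_pow δ haE, hδa, hj,
          show z * (x * a ^ j) * z⁻¹ = (z * x * z⁻¹) * (z * a * z⁻¹) ^ j by
            rw [conj_pow]; group,
          hi, hza', mul_assoc, mul_assoc, ← pow_add, ← pow_add, add_comm])
    obtain ⟨e, he, k, rfl⟩ := c.mem_dec hE hz hzE hy
    have hδk : δ = τ ^ k := by
      refine autFun_inj fun x hx => ?_
      obtain ⟨j, hj, -⟩ := hδe x hx
      have hxk : z ^ k * x * (z ^ k)⁻¹ ∈ E := hn _ (S.pow_mem hz k) x hx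
      obtain ⟨i, hi⟩ := hza x hx
      have hzk : ∀ m : ℕ, z ^ m * x * (z ^ m)⁻¹ = x * a ^ (m * i) := by
        intro m
        induction m with
        | zero => simp
        | succ m ih =>
          rw [pow_succ', show z * z ^ m * x * (z * z ^ m)⁻¹ =
              z * (z ^ m * x * (z ^ m)⁻¹) * z⁻¹ by group, ih,
            show z * (x * a ^ (m * i)) * z⁻¹ = (z * x * z⁻¹) * (z * a * z⁻¹) ^ (m * i) by
              rw [conj_pow]; group, hi, hza', mul_assoc, ← pow_add, Nat.succ_mul, add_comm i]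
      rw [hτpow k x hx, hye x hx]
      rw [show e * z ^ k * x * (e * z ^ k)⁻¹ = e * (z ^ k * x * (z ^ k)⁻¹) * e⁻¹ by group]
      set x' := z ^ k * x * (z ^ k)⁻¹
      have h1 : e * x' * e⁻¹ = x * a ^ j := by
        rw [← hj, hye x hx, show x' = z ^ k * x * (z ^ k)⁻¹ from rfl]; group
      have h2 : ⁅e, x'⁆ * a ^ (k * i) = a ^ j := by
        have h3 : ⁅e, x'⁆ * x' = x * a ^ j := by rw [← h1]; group
        rw [show x' = x * a ^ (k * i) from hzk k, ← mul_assoc] at h3
        have h4 : ⁅e, x * a ^ (k * i)⁆ * x = x * ⁅e, x * a ^ (k * i)⁆ := by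
          have h5 : ⁅e, x * a ^ (k * i)⁆ * (x * a ^ (k * i)) = x * a ^ j := by
            rw [← mul_assoc]; exact h3
          have h6 : ⁅e, x * a ^ (k * i)⁆ = x * a ^ j * (a ^ (k * i))⁻¹ * x⁻¹ := by
            rw [eq_mul_inv_iff_mul_eq, eq_mul_inv_iff_mul_eq, mul_assoc _ x]
            exact h5
          have hax : Commute a x := hac x (hES hx)
          rw [h6, inv_mul_cancel_right, mul_assoc x, mul_assoc x (a ^ j * (a ^ (k * i))⁻¹) x⁻¹,
            ((hax.pow_left j).mul_left (hax.pow_left (k * i)).inv_left).inv_right.eq,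
            mul_inv_cancel_left]
        rw [h4, mul_assoc, mul_right_inj] at h3
        rw [show x' = x * a ^ (k * i) from hzk k]
        exact h3
      by_cases hc : ⁅e, x'⁆ = 1
      · rw [commutatorElement_eq_one_iff_mul_comm.1 hc, mul_inv_cancel_right]
      exfalso
      -- the centre is not a commutator
      obtain ⟨l, hl⟩ : ∃ l : ℕ, ⁅e, x'⁆ = a ^ l := by
        refine exists_pow_of_zpowers hap ?_
        rw [← eq_mul_inv_iff_mul_eq] at h2
        rw [h2]
        exact mul_mem (Subgroup.npow_mem_zpowers a j) (inv_mem (Subgroup.npow_mem_zpowers a _))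
      have h7 : autFun γ (a ^ l) ∈ H := by
        rw [← hl, autFun_map_comm γ he hxk]
        exact comm_mem_of_index_p c.pS hES hHE hHcard (autFun_mem γ he) (autFun_mem γ hxk)
      rw [autFun_map_pow γ haE] at h7
      refine hc ?_
      rw [hl, pow_eq_one_iff_dvd hap ha1]
      exact dvd_of_pow_mem (by rw [ha'p]; exact H.one_mem) hγa h7
    have hcommτ : τ' * τ = τ * τ' := by
      have hτ'a' : autFun τ' a' = a' := hτ'fix a' ha'E ha'H'
      have h1 : autFun δ a' = a' * a ^ n := by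
        rw [hδdef, autFun_mul _ _ ha'E, autFun_mul _ _ (autFun_mem _ ha'E), hτ'inv a' ha'E hτ'a',
          hτ a' ha'E, hna, autFun_map_mul τ' ha'E (E.pow_mem haE n), autFun_map_pow τ' haE, hτ'a,
          hτ'a']
      rw [hδk, hτpow k a' ha'E] at h1
      have hzk : ∀ m : ℕ, z ^ m * a' * (z ^ m)⁻¹ = a' * a ^ (m * n) := by
        intro m
        induction m with
        | zero => simp
        | succ m ih =>
          rw [pow_succ', show z * z ^ m * a' * (z * z ^ m)⁻¹ =
              z * (z ^ m * a' * (z ^ m)⁻¹) * z⁻¹ by group, ih,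
            show z * (a' * a ^ (m * n)) * z⁻¹ = (z * a' * z⁻¹) * (z * a * z⁻¹) ^ (m * n) by
              rw [conj_pow]; group, hna, hza', mul_assoc, ← pow_add, Nat.succ_mul, add_comm n]
      rw [hzk, mul_right_inj, pow_eq_pow_iff_cast hap ha1, Nat.cast_mul] at h1
      have hn0 : (n : ZMod p) ≠ 0 := fun h => hnd ((ZMod.natCast_eq_zero_iff n p).1 h)
      have hk1 : (k : ZMod p) = ((1 : ℕ) : ZMod p) := by
        rw [Nat.cast_one]
        exact mul_right_cancel₀ hn0 (by rw [one_mul]; exact h1)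
      have h2 : δ = τ := by
        rw [hδk]
        conv_rhs => rw [← pow_one τ]
        rw [pow_eq_pow_mod k hτp, pow_eq_pow_mod 1 hτp]
        exact congrArg (τ ^ ·) ((ZMod.natCast_eq_natCast_iff' k 1 p).1 hk1)
      rw [hδdef, mul_inv_eq_iff_eq_mul] at h2
      exact h2
    refine hzE (centric_centralizer_le hE.1 (mem_centralizerIn.2 ⟨hz, fun x hx => ?_⟩))
    obtain ⟨j, hj, hj'⟩ := hτ'e (autFun γ x) (autFun_mem γ hx)
    rw [autFun_inv_left γ hx] at hj'
    rw [cj_apply, hj']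
    obtain ⟨i, hi⟩ := hza (autFun γ x) (autFun_mem γ hx)
    have h1 := congrArg (fun w : MulAut E => autFun w (autFun γ x)) hcommτ
    simp only [autFun_mul _ _ (autFun_mem γ hx)] at h1
    have hzy : z * (autFun γ x * a' ^ j) * z⁻¹ =
        autFun γ x * a ^ i * (a' * a ^ n) ^ j := by
      rw [show z * (autFun γ x * a' ^ j) * z⁻¹ =
        (z * autFun γ x * z⁻¹) * (z * a' * z⁻¹) ^ j by rw [conj_pow]; group, hi, hna]
    rw [hτ _ (autFun_mem γ hx), hi, hj,
      hτ _ (E.mul_mem (autFun_mem γ hx) (E.pow_mem ha'E j)), hzy,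
      autFun_map_mul τ' (autFun_mem γ hx) (E.pow_mem haE i), autFun_map_pow τ' haE, hτ'a, hj,
      ((show Commute a' a from (hac a' (hES ha'E)).symm).pow_right n).mul_pow,
      ← mul_assoc (autFun γ x * a ^ i), mul_assoc (autFun γ x) (a ^ i),
      ((show Commute a a' from hac a' (hES ha'E)).pow_pow i j).eq, ← mul_assoc (autFun γ x),
      left_eq_mul, ← pow_mul, pow_eq_one_iff_dvd hap ha1, hp.1.dvd_mul, or_iff_right hnd] at h1
    rw [(pow_eq_one_iff_dvd hap ha1).2 h1, mul_one]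
  -- the common fixed points
  set C := H ⊓ H'
  have hne : H ≠ H' := fun h => hγa (h ▸ ha'H')
  have hCcard : Nat.card C * p = Nat.card H :=
    inf_index c.pS hES hHE hH'E hHcard hH'card hne
  have hdec : ∀ e ∈ E, ∃ d ∈ C, ∃ i j : ℕ, e = d * a ^ i * a' ^ j := by
    intro e he
    obtain ⟨h, hh, j, rfl⟩ := exists_dec c.pS hES hHE hHcard ha'E hγa he
    obtain ⟨d, hd, i, rfl⟩ := exists_dec c.pS (hHE.trans hES) inf_le_left hCcard haH
      (fun h' => haH' h'.2) hh
    exact ⟨d, hd, i, j, rfl⟩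
  -- a torus element
  obtain ⟨m, hm⟩ : ∃ m : ℕ, autFun τ' a = a * a' ^ m ∧ ¬ p ∣ m := by
    obtain ⟨m, hm, hm'⟩ := hτ'e a haE
    refine ⟨m, hm, fun h => haH' ((hmemH' a haE).2 (hCz _ (autFun_mem _ haE) ?_))⟩
    rw [(pow_eq_one_iff_dvd hap ha1).2 h, mul_one, mul_inv_eq_iff_eq_mul] at hm'
    exact hm'
  obtain ⟨hm, hmd⟩ := hm
  have hn0 : (n : ZMod p) ≠ 0 := fun h => hnd ((ZMod.natCast_eq_zero_iff n p).1 h)
  have hm0 : (m : ZMod p) ≠ 0 := fun h => hmd ((ZMod.natCast_eq_zero_iff m p).1 h)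
  set i1 := ((n : ZMod p)⁻¹).val
  set i2 := (-(m : ZMod p)⁻¹).val
  set τ1 := τ ^ i1
  set τ2 := τ' ^ i2
  have hτ1F : τ1 ∈ F.autGroup E := (F.autGroup E).pow_mem hτF _
  have hτ2F : τ2 ∈ F.autGroup E := (F.autGroup E).pow_mem hτ'F _
  have hτ1a : autFun τ1 a = a := by
    rw [hτpow _ a haE, ← hac _ (S.pow_mem hz _), mul_inv_cancel_right]
  have hτ'pow : ∀ (k : ℕ) (x : Ω) (l : ℕ), x ∈ E → autFun τ' x = x * a' ^ l →
      autFun (τ' ^ k) x = x * a' ^ (k * l) := by
    intro k x l hx hl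
    induction k with
    | zero => simp [autFun_one hx]
    | succ k ih =>
      rw [pow_succ', autFun_mul _ _ hx, ih, autFun_map_mul τ' hx (E.pow_mem ha'E _), hl,
        autFun_map_pow τ' ha'E, hτ'fix a' ha'E ha'H', mul_assoc, ← pow_add, Nat.succ_mul,
        add_comm l]
  have hτ2a' : autFun τ2 a' = a' := by
    rw [show τ2 = τ' ^ i2 from rfl, hτ'pow i2 a' 0 ha'E
      (by rw [hτ'fix a' ha'E ha'H', pow_zero, mul_one]), mul_zero, pow_zero, mul_one]
  have hτ1a' : autFun τ1 a' = a' * a := by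
    have hzk : ∀ k : ℕ, z ^ k * a' * (z ^ k)⁻¹ = a' * a ^ (k * n) := by
      intro k
      induction k with
      | zero => simp
      | succ k ih =>
        rw [pow_succ', show z * z ^ k * a' * (z * z ^ k)⁻¹ =
            z * (z ^ k * a' * (z ^ k)⁻¹) * z⁻¹ by group, ih,
          show z * (a' * a ^ (k * n)) * z⁻¹ = (z * a' * z⁻¹) * (z * a * z⁻¹) ^ (k * n) by
            rw [conj_pow]; group, hna, hza', mul_assoc, ← pow_add, Nat.succ_mul, add_comm n]
    rw [show τ1 = τ ^ i1 from rfl, hτpow _ a' ha'E, hzk, mul_right_inj]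
    conv_rhs => rw [← pow_one a]
    rw [pow_eq_pow_iff_cast hap ha1, Nat.cast_mul, ZMod.natCast_zmod_val, Nat.cast_one,
      inv_mul_cancel₀ hn0]
  have ha'1 : a' ≠ 1 := fun h => hγa (h ▸ H.one_mem)
  have hτ2a : autFun τ2 a = a * a'⁻¹ := by
    rw [show τ2 = τ' ^ i2 from rfl, hτ'pow i2 a m haE hm, mul_right_inj, eq_inv_iff_mul_eq_one,
      ← pow_succ, pow_eq_one_iff_dvd ha'p ha'1, ← ZMod.natCast_eq_zero_iff, Nat.cast_add,
      Nat.cast_mul, ZMod.natCast_zmod_val, Nat.cast_one, neg_mul, inv_mul_cancel₀ hm0]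
    ring
  set w := τ1 * τ2 * τ1
  have hwF : w ∈ F.autGroup E :=
    (F.autGroup E).mul_mem ((F.autGroup E).mul_mem hτ1F hτ2F) hτ1F
  have hwa : autFun w a = a'⁻¹ := by
    rw [show w = τ1 * τ2 * τ1 from rfl, autFun_mul _ _ haE, hτ1a, autFun_mul _ _ haE, hτ2a,
      autFun_map_mul τ1 haE (E.inv_mem ha'E), hτ1a, autFun_inv_map τ1 ha'E, hτ1a']
    rw [mul_inv_rev, mul_inv_cancel_left]
  have hwa' : autFun w a' = a := by
    rw [show w = τ1 * τ2 * τ1 from rfl, autFun_mul _ _ ha'E, hτ1a',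
      autFun_mul _ _ (E.mul_mem ha'E haE), autFun_map_mul τ2 ha'E haE, hτ2a', hτ2a,
      ← mul_assoc, ha'c a haE, mul_inv_cancel_right, hτ1a]
  have hwC : ∀ d ∈ C, autFun w d = d := fun d hd => by
    have hdE := hHE hd.1
    have h1 : autFun τ1 d = d := by
      rw [hτpow _ d hdE, ((show Commute z d from hcomm d hd.1).pow_left i1).eq,
        mul_inv_cancel_right]
    have h2 : autFun τ2 d = d := by
      rw [show τ2 = τ' ^ i2 from rfl, hτ'pow i2 d 0 hdE
        (by rw [hτ'fix d hdE hd.2, pow_zero, mul_one]), mul_zero, pow_zero, mul_one]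
    rw [show w = τ1 * τ2 * τ1 from rfl, autFun_mul _ _ hdE, h1, autFun_mul _ _ hdE, h2, h1]
  set J := w * w
  have hJF : J ∈ F.autGroup E := (F.autGroup E).mul_mem hwF hwF
  have hJa : autFun J a = a⁻¹ := by
    rw [autFun_mul _ _ haE, hwa, autFun_inv_map w ha'E, hwa']
  have hJa' : autFun J a' = a'⁻¹ := by
    rw [autFun_mul _ _ ha'E, hwa', hwa]
  have hJC : ∀ d ∈ C, autFun J d = d := fun d hd => by
    rw [autFun_mul _ _ (hHE hd.1), hwC d hd, hwC d hd]
  obtain ⟨β, hβ, hβe⟩ := c.exists_ext hE hJF (c.compatible_of_commute hE hz hzE fun x hx => by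
    obtain ⟨d, hd, i, j, rfl⟩ := hdec x hx
    have hdE := hHE hd.1
    have h1 : z * (d * a ^ i * a' ^ j) * z⁻¹ = d * a ^ i * (a' * a ^ n) ^ j := by
      rw [show z * (d * a ^ i * a' ^ j) * z⁻¹ =
        (z * d * z⁻¹) * (z * a * z⁻¹) ^ i * (z * a' * z⁻¹) ^ j by
          rw [conj_pow, conj_pow]; group, hcomm d hd.1, mul_inv_cancel_right, hza', hna]
    have h2 : ∀ x y : ℕ, autFun J (d * a ^ x * (a' * a ^ n) ^ y) =
        d * (a⁻¹) ^ x * (a'⁻¹ * (a⁻¹) ^ n) ^ y := fun x y => by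
      rw [autFun_map_mul J (E.mul_mem hdE (E.pow_mem haE x))
          (E.pow_mem (E.mul_mem ha'E (E.pow_mem haE n)) y),
        autFun_map_mul J hdE (E.pow_mem haE x), hJC d hd, autFun_map_pow J haE, hJa,
        autFun_map_pow J (E.mul_mem ha'E (E.pow_mem haE n)),
        autFun_map_mul J ha'E (E.pow_mem haE n), autFun_map_pow J haE, hJa', hJa]
    have h3 : autFun J (d * a ^ i * a' ^ j) = d * (a⁻¹) ^ i * (a'⁻¹) ^ j := by
      rw [autFun_map_mul J (E.mul_mem hdE (E.pow_mem haE i)) (E.pow_mem ha'E j),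
        autFun_map_mul J hdE (E.pow_mem haE i), hJC d hd, autFun_map_pow J haE, hJa,
        autFun_map_pow J ha'E, hJa']
    rw [h1, h2, h3, show z * (d * a⁻¹ ^ i * a'⁻¹ ^ j) * z⁻¹ =
      (z * d * z⁻¹) * (z * a⁻¹ * z⁻¹) ^ i * (z * a'⁻¹ * z⁻¹) ^ j by
        rw [conj_pow, conj_pow]; group,
      ← conj_inv, ← conj_inv, hcomm d hd.1, mul_inv_cancel_right, hza', hna, mul_inv_rev, ← inv_pow a n]
    rw [((((show Commute a a' from hac a' (hES ha'E)).inv_left).inv_right).pow_left n).eq])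
  refine ⟨C, a', inf_le_left, ha'E, ha'p, ha'c, hγa, fun h => haH' h.2, ⟨n, hnd, hna⟩, hdec,
    fun x hx hfix => ?_, β, hβ, by rw [hβe a haE, hJa], fun d hd => by
      rw [hβe d (hHE hd.1), hJC d hd]⟩
  refine ⟨hCz x hx ?_, (hmemH' x hx).2 (hCz _ (autFun_mem _ hx) (hfix _ ((F.autGroup E).inv_mem hγF)))⟩
  have := hfix 1 (F.autGroup E).one_mem
  rwa [autFun_one hx] at this

end CfsgLib.Fusion.RankThreeNormal
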