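import Cfsg.Agent.Lib.Fusion.RankThree.JordanFamily
import Cfsg.Agent.Lib.Fusion.RankThree.TwoGenEss

/-!
# Elementary facts on subgroups of finite `p`-groups inside an ambient group
-/

set_option autoImplicit false
set_option linter.unusedSectionVars false
set_option linter.style.haveILetI false

namespace CfsgLib.Fusion.RankThreeNormal

open Cfsg Cfsg.FusionSystem CfsgLib.Fusion CfsgLib.Fusion.RankThree
open scoped commutatorElement

universe u

/-- Elementary abelian, elementwise. -/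
def Elem {Ω : Type u} [Group Ω] (p : ℕ) (A : Subgroup Ω) : Prop :=
  (∀ a ∈ A, ∀ b ∈ A, a * b = b * a) ∧ ∀ a ∈ A, a ^ p = 1

/-- `Q` is normalised by `S`. -/
def Nrm {Ω : Type u} [Group Ω] (S Q : Subgroup Ω) : Prop := ∀ s ∈ S, ∀ q ∈ Q, s * q * s⁻¹ ∈ Q

variable {p : ℕ} [hp : Fact p.Prime] {Ω : Type u} [Group Ω] {S : Subgroup Ω}

theorem Elem.mono {A B : Subgroup Ω} (h : A ≤ B) (hB : Elem p B) : Elem p A :=
  ⟨fun a ha b hb => hB.1 a (h ha) b (h hb), fun a ha => hB.2 a (h ha)⟩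

theorem Elem.closure {s : Set Ω} (hc : ∀ a ∈ s, ∀ b ∈ s, a * b = b * a)
    (hp' : ∀ a ∈ s, a ^ p = 1) : Elem p (Subgroup.closure s) := by
  have h1 : ∀ a ∈ Subgroup.closure s, ∀ b ∈ Subgroup.closure s, Commute a b := by
    intro a ha
    induction ha using Subgroup.closure_induction with
    | mem x hx =>
      intro b hb
      induction hb using Subgroup.closure_induction with
      | mem y hy => exact hc x hx y hy
      | one => exact Commute.one_right x
      | mul y z _ _ hy hz => exact hy.mul_right hz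
      | inv y _ hy => exact hy.inv_right
    | one => exact fun b _ => Commute.one_left b
    | mul x y _ _ hx hy => exact fun b hb => (hx b hb).mul_left (hy b hb)
    | inv x _ hx => exact fun b hb => (hx b hb).inv_left
  refine ⟨fun a ha b hb => (h1 a ha b hb).eq, fun a ha => ?_⟩
  induction ha using Subgroup.closure_induction with
  | mem x hx => exact hp' x hx
  | one => exact one_pow p
  | mul x y hx hy hx' hy' => rw [(h1 x hx y hy).mul_pow, hx', hy', one_mul]
  | inv x _ hx => rw [inv_pow, hx, inv_one]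

theorem Elem.sup {A B : Subgroup Ω} (hA : Elem p A) (hB : Elem p B)
    (h : ∀ a ∈ A, ∀ b ∈ B, a * b = b * a) : Elem p (A ⊔ B) := by
  have h1 : A ⊔ B = Subgroup.closure ((A : Set Ω) ∪ B) := by
    rw [Subgroup.closure_union, Subgroup.closure_eq, Subgroup.closure_eq]
  rw [h1]
  refine Elem.closure ?_ ?_
  · rintro a (ha | ha) b (hb | hb)
    · exact hA.1 a ha b hb
    · exact h a ha b hb
    · exact (h b hb a ha).symm
    · exact hB.1 a ha b hb
  · rintro a (ha | ha)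
    · exact hA.2 a ha
    · exact hB.2 a ha

theorem Nrm.normal_subgroupOf {Q : Subgroup Ω} (h : Nrm S Q) : (Q.subgroupOf S).Normal :=
  ⟨fun a ha s => h s s.2 a ha⟩

theorem Nrm.normalizer {Q : Subgroup Ω} (h : Nrm S Q) :
    S ≤ Subgroup.normalizer (Q : Set Ω) := fun s hs => by
  rw [Subgroup.mem_normalizer_iff]
  exact fun x => ⟨fun hx => h s hs x hx,
    fun hx => by simpa [mul_assoc] using h _ (S.inv_mem hs) _ hx⟩

theorem nrm_of_normalizer {Q : Subgroup Ω} (h : S ≤ Subgroup.normalizer (Q : Set Ω)) : Nrm S Q :=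
  fun _ hs q hq => (Subgroup.mem_normalizer_iff.1 (h hs) q).1 hq

theorem nrm_closure {t : Set Ω} (h : ∀ s ∈ S, ∀ x ∈ t, s * x * s⁻¹ ∈ Subgroup.closure t) :
    Nrm S (Subgroup.closure t) := fun s hs q hq => by
  induction hq using Subgroup.closure_induction with
  | mem x hx => exact h s hs x hx
  | one => simp
  | mul x y _ _ hx hy =>
    rw [show s * (x * y) * s⁻¹ = (s * x * s⁻¹) * (s * y * s⁻¹) by group]
    exact mul_mem hx hy
  | inv x _ hx =>
    rw [show s * x⁻¹ * s⁻¹ = (s * x * s⁻¹)⁻¹ by group]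
    exact inv_mem hx

/-- The commutator of a product on the left. -/
theorem comm_mul_left (a b c : Ω) : ⁅a * b, c⁆ = a * ⁅b, c⁆ * a⁻¹ * ⁅a, c⁆ := by group

/-- The commutator of a product on the right. -/
theorem comm_mul_right (a b c : Ω) : ⁅a, b * c⁆ = ⁅a, b⁆ * (b * ⁅a, c⁆ * b⁻¹) := by group

/-- The elements of `P` with all commutators against `Q` in a normalised subgroup `N`. -/
def commSet (P : Subgroup Ω) (Q : Set Ω) (N : Subgroup Ω) (h : Nrm P N) : Subgroup Ω where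
  carrier := {a | a ∈ P ∧ ∀ y ∈ Q, ⁅a, y⁆ ∈ N}
  one_mem' := ⟨P.one_mem, fun y _ => by rw [commutatorElement_one_left]; exact N.one_mem⟩
  mul_mem' := fun {a b} ha hb => ⟨P.mul_mem ha.1 hb.1, fun y hy => by
    rw [comm_mul_left]
    exact N.mul_mem (h a ha.1 _ (hb.2 y hy)) (ha.2 y hy)⟩
  inv_mem' := fun {a} ha => ⟨P.inv_mem ha.1, fun y hy => by
    rw [show ⁅a⁻¹, y⁆ = a⁻¹ * ⁅a, y⁆⁻¹ * (a⁻¹)⁻¹ by group]
    exact h _ (P.inv_mem ha.1) _ (N.inv_mem (ha.2 y hy))⟩

theorem mem_commSet {P : Subgroup Ω} {Q : Set Ω} {N : Subgroup Ω} {h : Nrm P N} {a : Ω} :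
    a ∈ commSet P Q N h ↔ a ∈ P ∧ ∀ y ∈ Q, ⁅a, y⁆ ∈ N := Iff.rfl

/-- Commutators of a closure land in a normalised subgroup when those of the generators do. -/
theorem comm_mem_closure {P N : Subgroup Ω} (h : Nrm P N) {t Q : Set Ω} (ht : t ⊆ P)
    (hc : ∀ a ∈ t, ∀ y ∈ Q, ⁅a, y⁆ ∈ N) {a : Ω} (ha : a ∈ Subgroup.closure t) {y : Ω}
    (hy : y ∈ Q) : ⁅a, y⁆ ∈ N :=
  (show Subgroup.closure t ≤ commSet P Q N h by
    rw [Subgroup.closure_le]
    exact fun b hb => ⟨ht hb, hc b hb⟩) ha |>.2 y hy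

theorem comm_swap_mem {N : Subgroup Ω} {a b : Ω} (h : ⁅a, b⁆ ∈ N) : ⁅b, a⁆ ∈ N := by
  rw [← commutatorElement_inv]
  exact N.inv_mem h

/-- An element of order `p` generates a subgroup of order `p`. -/
theorem card_zpowers_prime {x : Ω} (hx : x ^ p = 1) (hx1 : x ≠ 1) :
    Nat.card (Subgroup.zpowers x) = p := by
  rw [Nat.card_zpowers, orderOf_eq_prime hx hx1]

theorem exists_pow_of_zpowers {x y : Ω} (hx : x ^ p = 1) (hy : y ∈ Subgroup.zpowers x) :
    ∃ i : ℕ, y = x ^ i := by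
  obtain ⟨k, rfl⟩ := hy
  refine ⟨(k % p).toNat, ?_⟩
  have h0 : (0 : ℤ) ≤ k % (p : ℤ) := Int.emod_nonneg _ (by exact_mod_cast hp.1.ne_zero)
  show x ^ k = _
  conv_lhs => rw [← Int.emod_add_mul_ediv k p, zpow_add, zpow_mul, zpow_natCast, hx, one_zpow,
    mul_one, ← Int.toNat_of_nonneg h0, zpow_natCast]

theorem pow_eq_one_iff_dvd {x : Ω} (hx : x ^ p = 1) (hx1 : x ≠ 1) {i : ℕ} :
    x ^ i = 1 ↔ p ∣ i := by
  rw [← orderOf_dvd_iff_pow_eq_one, orderOf_eq_prime hx hx1]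

theorem pow_eq_pow_iff_cast {x : Ω} (hx : x ^ p = 1) (hx1 : x ≠ 1) {i j : ℕ} :
    x ^ i = x ^ j ↔ (i : ZMod p) = j := by
  rw [pow_eq_pow_iff_modEq, orderOf_eq_prime hx hx1, ZMod.natCast_eq_natCast_iff]

/-- An element outside a subgroup with its `p`-th power inside has exponents divisible by `p`. -/
theorem dvd_of_pow_mem {K : Subgroup Ω} {x : Ω} (hxp : x ^ p ∈ K) (hx : x ∉ K) {i : ℕ}
    (hi : x ^ i ∈ K) : p ∣ i := by
  by_contra hd
  obtain ⟨m, -, hm⟩ := Nat.exists_mul_mod_eq_one_of_coprime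
    (Nat.coprime_comm.1 (hp.1.coprime_iff_not_dvd.2 hd)) hp.1.one_lt
  refine hx ?_
  have h1 := K.pow_mem hi m
  rw [← pow_mul, ← Nat.div_add_mod (i * m) p, hm, pow_add, pow_mul, pow_one] at h1
  exact (K.mul_mem_cancel_left (K.pow_mem hxp _)).1 h1

/-- The index of a subgroup inside a larger one from the orders. -/
theorem index_of_card {K L : Subgroup Ω} [Finite L] (hKL : K ≤ L) {n : ℕ}
    (h : Nat.card K * n = Nat.card L) : (K.subgroupOf L).index = n := by
  haveI : Finite K := Finite.of_injective _ (Subgroup.inclusion_injective hKL)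
  have h1 := (K.subgroupOf L).card_mul_index
  rw [Nat.card_congr (Subgroup.subgroupOfEquivOfLe hKL).toEquiv, ← h] at h1
  exact Nat.eq_of_mul_eq_mul_left Nat.card_pos h1

theorem card_of_index {K L : Subgroup Ω} (hKL : K ≤ L) {n : ℕ}
    (h : (K.subgroupOf L).index = n) : Nat.card K * n = Nat.card L := by
  rw [← h, ← Nat.card_congr (Subgroup.subgroupOfEquivOfLe hKL).toEquiv, Subgroup.card_mul_index]

theorem lt_card_mul [Finite S] (hS : IsPGroup p S) {K L : Subgroup Ω} (hLS : L ≤ S) (h : K < L) :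
    Nat.card K * p ≤ Nat.card L := by
  haveI : Finite L := finite_of_le hLS
  have hd := CfsgLib.PGroups.dvd_index_of_ne_top (isPGroup_of_le hLS hS)
    (H := K.subgroupOf L) fun e => h.not_ge (Subgroup.subgroupOf_eq_top.1 e)
  rw [← card_of_index h.le rfl]
  exact Nat.mul_le_mul_left _ (Nat.le_of_dvd (Nat.pos_of_ne_zero Subgroup.index_ne_zero_of_finite) hd)

theorem normal_of_index_p [Finite S] (hS : IsPGroup p S) {K L : Subgroup Ω} (hLS : L ≤ S)
    (hKL : K ≤ L) (h : Nat.card K * p = Nat.card L) : (K.subgroupOf L).Normal :=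
  haveI : Finite L := finite_of_le hLS
  CfsgLib.PGroups.normal_of_isCoatom (isPGroup_of_le hLS hS)
    (CfsgLib.PGroups.isCoatom_of_index_eq_prime (index_of_card hKL h))

theorem pow_mem_of_index_p [Finite S] (hS : IsPGroup p S) {K L : Subgroup Ω} (hLS : L ≤ S)
    (hKL : K ≤ L) (h : Nat.card K * p = Nat.card L) {y : Ω} (hy : y ∈ L) : y ^ p ∈ K := by
  haveI := normal_of_index_p hS hLS hKL h
  haveI : Finite L := finite_of_le hLS
  have := (K.subgroupOf L).pow_index_mem (⟨y, hy⟩ : L)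
  rw [index_of_card hKL h] at this
  exact this

theorem conj_mem_of_index_p [Finite S] (hS : IsPGroup p S) {K L : Subgroup Ω} (hLS : L ≤ S)
    (hKL : K ≤ L) (h : Nat.card K * p = Nat.card L) {y k : Ω} (hy : y ∈ L) (hk : k ∈ K) :
    y * k * y⁻¹ ∈ K :=
  (normal_of_index_p hS hLS hKL h).conj_mem ⟨k, hKL hk⟩ hk ⟨y, hy⟩

theorem comm_mem_of_index_p [Finite S] (hS : IsPGroup p S) {K L : Subgroup Ω} (hLS : L ≤ S)
    (hKL : K ≤ L) (h : Nat.card K * p = Nat.card L) {a b : Ω} (ha : a ∈ L) (hb : b ∈ L) :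
    ⁅a, b⁆ ∈ K := by
  haveI : Finite L := finite_of_le hLS
  have h1 : (⁅(⟨a, ha⟩ : L), ⟨b, hb⟩⁆ : L) ∈ K.subgroupOf L :=
    CfsgLib.PGroups.commutator_le_of_isCoatom (isPGroup_of_le hLS hS)
      (CfsgLib.PGroups.isCoatom_of_index_eq_prime (index_of_card hKL h))
      (Subgroup.commutator_mem_commutator (Subgroup.mem_top _) (Subgroup.mem_top _))
  exact h1

/-- Decomposition along a subgroup of index `p`. -/
theorem exists_dec [Finite S] (hS : IsPGroup p S) {K L : Subgroup Ω} (hLS : L ≤ S) (hKL : K ≤ L)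
    (h : Nat.card K * p = Nat.card L) {x : Ω} (hx : x ∈ L) (hxK : x ∉ K) {y : Ω} (hy : y ∈ L) :
    ∃ k ∈ K, ∃ i : ℕ, y = k * x ^ i := by
  haveI := normal_of_index_p hS hLS hKL h
  haveI : Finite L := finite_of_le hLS
  set π := QuotientGroup.mk' (K.subgroupOf L) with hπ
  have hc : Nat.card (L ⧸ K.subgroupOf L) = p := by
    rw [← Subgroup.index_eq_card, index_of_card hKL h]
  have hx1 : π ⟨x, hx⟩ ≠ 1 := fun e => hxK ((QuotientGroup.eq_one_iff (⟨x, hx⟩ : L)).1 e)
  obtain ⟨i, hi⟩ := Submonoid.mem_powers_iff _ _ |>.1 (mem_powers_iff_mem_zpowers.2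
    ((zpowers_eq_top_of_prime_card hc hx1).ge (Subgroup.mem_top (π ⟨y, hy⟩))))
  refine ⟨y * (x ^ i)⁻¹, ?_, i, by rw [inv_mul_cancel_right]⟩
  have h1 : π (⟨y, hy⟩ * (⟨x, hx⟩ ^ i)⁻¹) = 1 := by
    rw [map_mul, map_inv, map_pow, hi, mul_inv_cancel]
  exact (QuotientGroup.eq_one_iff ((⟨y, hy⟩ : L) * ((⟨x, hx⟩ : L) ^ i)⁻¹)).1 h1

/-- Adjoining a normalising element of order `p` modulo the subgroup. -/
theorem card_sup_zpowers {K : Subgroup Ω} {x : Ω} (hn : ∀ k ∈ K, x * k * x⁻¹ ∈ K)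
    (hn' : ∀ k ∈ K, x⁻¹ * k * x ∈ K) (hxp : x ^ p ∈ K) (hx : x ∉ K) :
    Nat.card (K ⊔ Subgroup.zpowers x : Subgroup Ω) = Nat.card K * p := by
  set L := K ⊔ Subgroup.zpowers x
  have hxL : x ∈ L := Subgroup.mem_sup_right (Subgroup.mem_zpowers x)
  have hxN : x ∈ Subgroup.normalizer (K : Set Ω) := Subgroup.mem_normalizer_iff.2 fun k =>
    ⟨fun hk => hn k hk, fun hk => by simpa [mul_assoc] using hn' _ hk⟩
  have hLN : L ≤ Subgroup.normalizer (K : Set Ω) :=
    sup_le Subgroup.le_normalizer (Subgroup.zpowers_le.2 hxN)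
  haveI : (K.subgroupOf L).Normal :=
    ⟨fun a ha g => (Subgroup.mem_normalizer_iff.1 (hLN g.2) a).1 ha⟩
  refine (card_of_index le_sup_left ?_).symm
  set π := QuotientGroup.mk' (K.subgroupOf L)
  have hord : orderOf (π ⟨x, hxL⟩) = p := orderOf_eq_prime
    (by rw [← map_pow]; exact (QuotientGroup.eq_one_iff _).2 hxp)
    fun e => hx ((QuotientGroup.eq_one_iff (⟨x, hxL⟩ : L)).1 e)
  rw [Subgroup.index_eq_card, ← hord, ← Nat.card_zpowers]
  suffices Subgroup.zpowers (π ⟨x, hxL⟩) = ⊤ by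
    rw [this, Subgroup.card_top]
  refine eq_top_iff.2 fun w _ => ?_
  obtain ⟨⟨y, hy⟩, rfl⟩ := QuotientGroup.mk'_surjective (K.subgroupOf L) w
  rw [← SetLike.mem_coe, Subgroup.coe_mul_of_right_le_normalizer_left _ _
    (Subgroup.zpowers_le.2 hxN)] at hy
  obtain ⟨k, hk, _, ⟨i, rfl⟩, rfl⟩ := hy
  refine ⟨i, ?_⟩
  have h1 : π ⟨k, Subgroup.mem_sup_left hk⟩ = 1 := (QuotientGroup.eq_one_iff _).2 hk
  calc π ⟨x, hxL⟩ ^ i = π ⟨k, Subgroup.mem_sup_left hk⟩ * π (⟨x, hxL⟩ ^ i) := by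
        rw [h1, one_mul, map_zpow]
    _ = _ := (map_mul π _ _).symm

/-- Adjoining a commuting element of order `p`. -/
theorem card_sup_comm {K : Subgroup Ω} {x : Ω} (hc : ∀ k ∈ K, x * k = k * x) (hxp : x ^ p = 1)
    (hx : x ∉ K) : Nat.card (K ⊔ Subgroup.zpowers x : Subgroup Ω) = Nat.card K * p :=
  card_sup_zpowers
    (fun k hk => by rw [hc k hk, mul_inv_cancel_right]; exact hk)
    (fun k hk => by rw [mul_assoc, ← hc k hk, inv_mul_cancel_left]; exact hk)
    (hxp ▸ K.one_mem) hx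

/-- Two subgroups of index `p` meet in index `p` in each. -/
theorem inf_index [Finite S] (hS : IsPGroup p S) {A B L : Subgroup Ω} (hLS : L ≤ S) (hA : A ≤ L)
    (hB : B ≤ L) (hcA : Nat.card A * p = Nat.card L) (hcB : Nat.card B * p = Nat.card L)
    (hne : A ≠ B) : Nat.card (A ⊓ B : Subgroup Ω) * p = Nat.card A := by
  haveI : Finite L := finite_of_le hLS
  haveI : Finite A := finite_of_le (hA.trans hLS)
  haveI : Finite B := finite_of_le (hB.trans hLS)
  have hlt : A ⊓ B < A := lt_of_le_of_ne inf_le_left fun e => hne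
    (Subgroup.eq_of_le_of_card_ge (inf_eq_left.1 e)
      (Nat.le_of_mul_le_mul_right (by rw [hcA, hcB]) hp.1.pos))
  refine le_antisymm (lt_card_mul hS (hA.trans hLS) hlt) ?_
  have h1 := Subgroup.index_inf_le (H := A.subgroupOf L) (K := B.subgroupOf L)
  rw [index_of_card hA hcA, index_of_card hB hcB] at h1
  have h2 := card_of_index (inf_le_left.trans hA : A ⊓ B ≤ L) (rfl : _ = _)
  have h3 : (A ⊓ B).subgroupOf L = A.subgroupOf L ⊓ B.subgroupOf L := rfl
  rw [h3, ← hcA] at h2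
  refine Nat.le_of_mul_le_mul_right ?_ hp.1.pos
  rw [mul_assoc]
  exact h2 ▸ Nat.mul_le_mul_left _ h1

/-- A normal subgroup is centralised modulo a normal subgroup of index `p` in it. -/
theorem comm_mem_chain [Finite S] (hS : IsPGroup p S) {K L : Subgroup Ω} (hLS : L ≤ S)
    (hKL : K ≤ L) (hK : Nrm S K) (hL : Nrm S L) (h : Nat.card K * p = Nat.card L) {y l : Ω}
    (hy : y ∈ S) (hl : l ∈ L) : ⁅y, l⁆ ∈ K := by
  haveI := hK.normal_subgroupOf
  haveI := hL.normal_subgroupOf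
  have hlt : K.subgroupOf S < L.subgroupOf S := by
    refine lt_of_le_of_ne (Subgroup.comap_mono hKL) fun e => ?_
    rw [Subgroup.subgroupOf_inj, inf_eq_left.2 (hKL.trans hLS), inf_eq_left.2 hLS] at e
    haveI : Finite L := finite_of_le hLS
    rw [e] at h
    have h1 : Nat.card L * p = Nat.card L * 1 := by rw [h, mul_one]
    exact hp.1.ne_one (Nat.eq_of_mul_eq_mul_left Nat.card_pos h1)
  obtain ⟨M, -, hKM, hML, hidx, hc⟩ := CfsgLib.PGroups.exists_normal_index_prime hS hlt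
  have hrel : (K.subgroupOf S).relIndex (L.subgroupOf S) = p := by
    haveI : Finite L := finite_of_le hLS
    rw [Subgroup.relIndex_subgroupOf hLS]
    exact index_of_card hKL h
  have hML' : M = L.subgroupOf S := by
    refine le_antisymm hML (Subgroup.relIndex_eq_one.1 ?_)
    have h1 := Subgroup.relIndex_mul_relIndex (K.subgroupOf S) M (L.subgroupOf S) hKM hML
    rw [hidx, hrel] at h1
    exact Nat.eq_of_mul_eq_mul_left hp.1.pos (h1.trans (mul_one p).symm)
  exact hc ⟨l, hLS hl⟩ (hML' ▸ hl) ⟨y, hy⟩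

/-- A group with at most `p` cosets of its Frattini subgroup is cyclic. -/
theorem exists_zpowers_of_frattini {C : Subgroup Ω} [Finite C] (hC : IsPGroup p C)
    (h : (frattini ↥C).index ≤ p) : ∃ c ∈ C, C = Subgroup.zpowers c := by
  obtain ⟨g, hg⟩ : ∃ g : C, Subgroup.zpowers g ⊔ frattini ↥C = ⊤ := by
    by_cases h1 : frattini ↥C = ⊤
    · exact ⟨1, by rw [h1, sup_top_eq]⟩
    obtain ⟨k, hk⟩ := CfsgLib.PGroups.index_eq_pow hC (frattini ↥C)
    have hk1 : k = 1 := by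
      have h2 : k ≠ 0 := fun e => h1 (Subgroup.index_eq_one.1 (by rw [hk, e, pow_zero]))
      have h3 : p ^ k ≤ p ^ 1 := by rw [← hk, pow_one]; exact h
      have := (Nat.pow_le_pow_iff_right hp.1.one_lt).1 h3
      omega
    rw [hk1, pow_one] at hk
    obtain ⟨g, -, hg⟩ := SetLike.exists_of_lt (lt_top_iff_ne_top.2 h1)
    exact ⟨g, (CfsgLib.PGroups.isCoatom_of_index_eq_prime hk).2 _ (lt_of_le_of_ne le_sup_right
      fun e => hg (e.ge (Subgroup.mem_sup_left (Subgroup.mem_zpowers g))))⟩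
  refine ⟨g, g.2, ?_⟩
  have htop := congrArg (Subgroup.map C.subtype) (frattini_nongenerating hg)
  rw [MonoidHom.map_zpowers, ← MonoidHom.range_eq_map, Subgroup.range_subtype] at htop
  exact htop.symm

end CfsgLib.Fusion.RankThreeNormal
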